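import Cfsg.Agent.Lib.LargeExtra.Models
import Cfsg.Agent.S5395
import Cfsg.Prelude.Def_KGroupFacts
import Cfsg.Prelude.Def_Classical

/-!
Outer automorphisms of an extraspecial 2-group given by a cocycle `β`: the isometry group of `v ↦ β v v`.
-/

set_option autoImplicit false
set_option linter.unusedSectionVars false
set_option linter.unusedSimpArgs false
set_option linter.style.haveILetI false

namespace Cfsg.Agent.LargeExtra.OuterAut

open Matrix

local notation "F" => ZMod 2

variable {ι : Type} [Fintype ι] [DecidableEq ι]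

/-- The space. -/
abbrev Cocycle (ι : Type) := (ι → F) →ₗ[F] (ι → F) →ₗ[F] F

/-- The central extension by `β`. -/
@[ext] structure M (β : Cocycle ι) where
  v : ι → F
  c : F

variable {β : Cocycle ι}

theorem add_self (x : F) : x + x = 0 := CharTwo.add_self_eq_zero x

theorem vec_add_self (u : ι → F) : u + u = 0 := funext fun i => add_self (u i)

instance : Group (M β) where
  mul x y := ⟨x.v + y.v, x.c + y.c + β x.v y.v⟩
  one := ⟨0, 0⟩
  inv x := ⟨x.v, x.c + β x.v x.v⟩
  mul_assoc x y z := by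
    refine M.ext (add_assoc _ _ _) ?_
    show x.c + y.c + β x.v y.v + z.c + β (x.v + y.v) z.v = x.c + (y.c + z.c + β y.v z.v) + β x.v (y.v + z.v)
    simp only [map_add, LinearMap.add_apply]; ring
  one_mul x := M.ext (zero_add _) (by
    show (0 : F) + x.c + β 0 x.v = x.c
    simp)
  mul_one x := M.ext (add_zero _) (by
    show x.c + (0 : F) + β x.v 0 = x.c
    simp)
  inv_mul_cancel x := M.ext (vec_add_self _) (by
    show x.c + β x.v x.v + x.c + β x.v x.v = 0
    linear_combination add_self x.c + add_self (β x.v x.v))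

theorem mul_v (x y : M β) : (x * y).v = x.v + y.v := rfl
theorem mul_c (x y : M β) : (x * y).c = x.c + y.c + β x.v y.v := rfl
theorem inv_v (x : M β) : x⁻¹.v = x.v := rfl
theorem one_v : (1 : M β).v = 0 := rfl
theorem one_c : (1 : M β).c = 0 := rfl

instance : Finite (M β) :=
  Finite.of_injective (fun x => (x.v, x.c)) fun x y h => by
    simp only [Prod.mk.injEq] at h
    exact M.ext h.1 h.2

variable (hE : Cfsg.IsExtraspecial 2 (M β))

theorem mem_center_iff (hE : Cfsg.IsExtraspecial 2 (M β)) (x : M β) : x ∈ Subgroup.center (M β) ↔ x.v = 0 := by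
  let K : Subgroup (M β) :=
    { carrier := {x | x.v = 0}
      one_mem' := rfl
      mul_mem' := fun {a b} (ha : a.v = 0) (hb : b.v = 0) => show (a * b).v = 0 by rw [mul_v, ha, hb, add_zero]
      inv_mem' := fun {a} ha => ha }
  have hle : K ≤ Subgroup.center (M β) := fun a ha => Subgroup.mem_center_iff.2 fun y => by
    have ha' : a.v = 0 := ha
    refine M.ext (by rw [mul_v, mul_v, add_comm]) ?_
    rw [mul_c, mul_c, ha']
    simp [add_comm]
  have hK : Nat.card K = 2 := by
    rw [Nat.card_congr (β := F) ⟨fun a => a.1.c, fun c => ⟨⟨0, c⟩, rfl⟩,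
      fun a => Subtype.ext (M.ext (show (0 : ι → F) = a.1.v from a.2.symm) rfl), fun c => rfl⟩, Nat.card_zmod]
  rw [← Subgroup.eq_of_le_of_card_ge hle (le_of_eq (hE.2.trans hK.symm))]
  rfl

theorem fix_central (hE : Cfsg.IsExtraspecial 2 (M β)) (φ : MulAut (M β)) (a : F) :
    φ ⟨0, a⟩ = ⟨0, a⟩ := by
  have hv : ∀ x : M β, x.v = 0 → (φ x).v = 0 := fun x hx =>
    (mem_center_iff hE _).1 (Subgroup.mem_center_iff.2 fun y => by
      obtain ⟨y', rfl⟩ := φ.surjective y
      rw [← map_mul, ← map_mul, Subgroup.mem_center_iff.1 ((mem_center_iff hE x).2 hx) y'])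
  rcases (by decide : ∀ a : F, a = 0 ∨ a = 1) a with rfl | rfl
  · exact map_one φ
  · refine M.ext (hv _ rfl) ?_
    rcases (by decide : ∀ a : F, a = 0 ∨ a = 1) (φ ⟨0, 1⟩).c with h | h
    · exfalso
      have h1 : φ ⟨0, 1⟩ = φ 1 := by rw [map_one]; exact M.ext (hv _ rfl) h
      exact one_ne_zero (congrArg M.c (φ.injective h1))
    · exact h

theorem split (x : M β) : x = ⟨x.v, 0⟩ * ⟨0, x.c⟩ := by
  refine M.ext ?_ ?_ <;> simp [mul_v, mul_c]

theorem map_v (hE : Cfsg.IsExtraspecial 2 (M β)) (φ : MulAut (M β)) (x : M β) :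
    (φ x).v = (φ ⟨x.v, 0⟩).v := by
  conv_lhs => rw [split x, map_mul, mul_v, fix_central hE]
  exact add_zero _

/-- The induced linear map. -/
def lin (hE : Cfsg.IsExtraspecial 2 (M β)) (φ : MulAut (M β)) : (ι → F) →ₗ[F] (ι → F) :=
  AddMonoidHom.toZModLinearMap 2 (AddMonoidHom.mk' (fun v => (φ ⟨v, 0⟩).v) fun u v => by
    rw [← mul_v, ← map_mul, map_v hE φ (⟨u, 0⟩ * ⟨v, 0⟩), mul_v])

theorem lin_apply (hE : Cfsg.IsExtraspecial 2 (M β)) (φ : MulAut (M β)) (x : M β) :
    lin hE φ x.v = (φ x).v := (map_v hE φ x).symm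

/-- The action on the quotient by the centre, as matrices. -/
noncomputable def mat (hE : Cfsg.IsExtraspecial 2 (M β)) : MulAut (M β) →* Matrix ι ι F where
  toFun φ := LinearMap.toMatrixAlgEquiv' (lin hE φ)
  map_one' := by
    rw [show lin hE 1 = LinearMap.id from LinearMap.ext fun v => rfl]
    exact map_one _
  map_mul' φ ψ := by
    rw [← map_mul]
    refine congrArg _ (LinearMap.ext fun v => ?_)
    exact (lin_apply hE φ (ψ ⟨v, 0⟩)).symm

theorem mat_mulVec (hE : Cfsg.IsExtraspecial 2 (M β)) (φ : MulAut (M β)) (x : M β) :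
    mat hE φ *ᵥ x.v = (φ x).v := by
  rw [← lin_apply hE φ x]
  show LinearMap.toMatrixAlgEquiv' (lin hE φ) *ᵥ x.v = _
  rw [← Matrix.toLinAlgEquiv'_apply, Matrix.toLinAlgEquiv'_toMatrixAlgEquiv']

variable (Q : (ι → F) → F)

theorem toHomUnits_mem (hE : Cfsg.IsExtraspecial 2 (M β)) (hQ : ∀ v, Q v = β v v) (φ : MulAut (M β)) :
    (mat hE).toHomUnits φ ∈ Cfsg.isometryGroup F Q := by
  intro u _
  show Q (mat hE φ *ᵥ u) = Q u
  rw [mat_mulVec hE φ ⟨u, 0⟩, hQ, hQ]
  have h := congrArg M.c (map_mul φ (⟨u, 0⟩ : M β) ⟨u, 0⟩)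
  rw [show (⟨u, 0⟩ : M β) * ⟨u, 0⟩ = ⟨0, β u u⟩ from M.ext (vec_add_self u) (by simp [mul_c]),
    fix_central hE, mul_c, add_self, zero_add] at h
  exact h.symm

/-- The homomorphism to the isometry group. -/
noncomputable def psi (hE : Cfsg.IsExtraspecial 2 (M β)) (hQ : ∀ v, Q v = β v v) :
    MulAut (M β) →* Cfsg.isometryGroup F Q :=
  (mat hE).toHomUnits.codRestrict _ (toHomUnits_mem Q hE hQ)

theorem psi_surjective (hE : Cfsg.IsExtraspecial 2 (M β)) (hQ : ∀ v, Q v = β v v) :
    Function.Surjective (psi Q hE hQ) := by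
  classical
  rintro ⟨g, hg⟩
  let f : (ι → F) → (ι → F) := fun v => (g : Matrix ι ι F) *ᵥ v
  have hgQ : ∀ v, β (f v) (f v) = β v v := fun v => by
    rw [← hQ, ← hQ]
    exact hg v v
  have hfadd : ∀ u v, f (u + v) = f u + f v := Matrix.mulVec_add _
  let L : (ι → F) →ₗ[F] (ι → F) := Matrix.mulVecLin (g : Matrix ι ι F)
  let γ : Cocycle ι := β.compl₁₂ L L + β
  have hγ : ∀ u v, γ u v = β (f u) (f v) + β u v := fun u v => rfl
  have halt : ∀ v, γ v v = 0 := fun v => by rw [hγ, hgQ, add_self]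
  have hsym : ∀ u v, γ v u = γ u v := fun u v => by
    have h := halt (u + v)
    simp only [map_add, LinearMap.add_apply, halt, zero_add, add_zero] at h
    exact CharTwo.add_eq_zero.1 h
  let σ := Fintype.equivFin ι
  let B : ι → ι → F := fun i j => γ (Pi.single i 1) (Pi.single j 1)
  let c : (ι → F) → F := fun v => ∑ i, ∑ j, if σ i < σ j then v i * v j * B i j else 0
  have hexp : ∀ u v, γ u v = ∑ i, ∑ j, u i * v j * B i j := fun u v => by
    conv_lhs => rw [pi_eq_sum_univ' u, pi_eq_sum_univ' v]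
    simp only [map_sum, LinearMap.sum_apply, map_smul, LinearMap.smul_apply, smul_eq_mul, Finset.mul_sum, B]
    rw [Finset.sum_comm]
    refine Finset.sum_congr rfl fun i _ => Finset.sum_congr rfl fun j _ => ?_
    ring
  have hc : ∀ u v, c (u + v) = c u + c v + γ u v := fun u v => by
    have h1 : γ u v = ∑ i, ∑ j, (if σ i < σ j then (u i * v j + v i * u j) * B i j else 0) := by
      rw [hexp]
      have h2 : ∀ i j, u i * v j * B i j =
          (if σ i < σ j then u i * v j * B i j else 0) + (if σ j < σ i then u i * v j * B i j else 0) := by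
        intro i j
        rcases lt_trichotomy (σ i) (σ j) with h | h | h
        · simp [h, h.not_gt]
        · obtain rfl := σ.injective h
          simp [B, halt]
        · simp [h, h.not_gt]
      rw [Finset.sum_congr rfl fun i _ => Finset.sum_congr rfl fun j _ => h2 i j]
      simp only [Finset.sum_add_distrib]
      rw [Finset.sum_comm (f := fun i j => if σ j < σ i then u i * v j * B i j else 0), ← Finset.sum_add_distrib]
      refine Finset.sum_congr rfl fun i _ => ?_
      rw [← Finset.sum_add_distrib]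
      refine Finset.sum_congr rfl fun j _ => ?_
      rw [show B j i = B i j from hsym _ _]
      split_ifs <;> ring
    rw [h1]
    simp only [c, ← Finset.sum_add_distrib]
    refine Finset.sum_congr rfl fun i _ => Finset.sum_congr rfl fun j _ => ?_
    simp only [Pi.add_apply]
    split_ifs <;> ring
  let φ : M β →* M β := MonoidHom.mk' (fun x => ⟨f x.v, x.c + c x.v⟩) fun x y => by
    refine M.ext (hfadd x.v y.v) ?_
    show x.c + y.c + β x.v y.v + c (x.v + y.v) = x.c + c x.v + (y.c + c y.v) + β (f x.v) (f y.v)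
    rw [hc, hγ]
    linear_combination add_self (β x.v y.v)
  have hinj : Function.Injective φ := by
    intro x y h
    have h1 : f x.v = f y.v := congrArg M.v h
    have h2 : x.v = y.v := by
      have := congrArg (fun w => ((g⁻¹ : GL ι F) : Matrix ι ι F) *ᵥ w) h1
      simpa [f, Matrix.mulVec_mulVec, ← Units.val_mul] using this
    have h3 : x.c + c x.v = y.c + c y.v := congrArg M.c h
    rw [h2] at h3
    exact M.ext h2 (add_right_cancel h3)
  let e : MulAut (M β) := MulEquiv.ofBijective φ (Finite.injective_iff_bijective.1 hinj)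
  refine ⟨e, ?_⟩
  refine Subtype.ext (Units.ext ?_)
  refine Matrix.ext_of_mulVec_single fun i => ?_
  exact mat_mulVec hE _ ⟨Pi.single i 1, 0⟩

theorem psi_ker (hE : Cfsg.IsExtraspecial 2 (M β)) (hQ : ∀ v, Q v = β v v) :
    (psi Q hE hQ).ker = Cfsg.Inn (M β) := by
  ext φ
  constructor
  · intro h
    have hm : mat hE φ = 1 := congrArg (fun a : Cfsg.isometryGroup F Q => ((a : GL ι F) : Matrix ι ι F)) h
    obtain ⟨g, hg⟩ := Cfsg.Agent.S5395.result hE φ fun x => (mem_center_iff hE _).2 (by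
      rw [mul_v, inv_v, ← mat_mulVec hE φ x, hm, Matrix.one_mulVec, vec_add_self])
    exact ⟨g, MulEquiv.ext fun x => (hg x).symm⟩
  · rintro ⟨g, rfl⟩
    refine Subtype.ext (Units.ext (Matrix.ext_of_mulVec_single fun i => ?_))
    rw [show ((((1 : Cfsg.isometryGroup F Q) : GL ι F)) : Matrix ι ι F) = 1 from rfl, Matrix.one_mulVec]
    show mat hE (MulAut.conj g) *ᵥ (⟨Pi.single i 1, 0⟩ : M β).v = Pi.single i 1
    rw [mat_mulVec, MulAut.conj_apply, mul_v, mul_v, inv_v, add_comm g.v, add_assoc, vec_add_self, add_zero]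

/-- The outer automorphism group. -/
theorem out_equiv (hE : Cfsg.IsExtraspecial 2 (M β)) (hQ : ∀ v, Q v = β v v) {E : Type*} [Group E]
    (e : E ≃* M β) : Nonempty (Cfsg.Out E ≃* Cfsg.isometryGroup F Q) := by
  have hmap : (Cfsg.Inn E).map (MulAut.congr e).toMonoidHom = Cfsg.Inn (M β) := by
    ext φ
    constructor
    · rintro ⟨_, ⟨g, rfl⟩, rfl⟩
      exact ⟨e g, MulEquiv.ext fun x => by simp [MulAut.congr]⟩
    · rintro ⟨g, rfl⟩
      exact ⟨_, ⟨e.symm g, rfl⟩, MulEquiv.ext fun x => by simp [MulAut.congr]⟩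
  exact ⟨(QuotientGroup.congr _ _ (MulAut.congr e) hmap).trans
    ((QuotientGroup.quotientMulEquivOfEq (psi_ker Q hE hQ).symm).trans
      (QuotientGroup.quotientKerEquivOfSurjective _ (psi_surjective Q hE hQ)))⟩

end Cfsg.Agent.LargeExtra.OuterAut
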