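import Cfsg.Prelude.Def_MonsterType
import Cfsg.Agent.Lib.FGBasics.Extraspecial
import Cfsg.Agent.Lib.Extraspecial.InvolutionAut
import Cfsg.Agent.Lib.LocalEven.Frattini
import Cfsg.Agent.Lib.Qd.Basic
import Cfsg.Agent.Lib.Solvable.NilpotentFrattini

/-!
Extraspecial 2-subgroups of a finite group which are normal in the centralizer of their central involution and
contain their centralizer: the symmetry `z^g ∈ Q → z ∈ Q^g` and criteria for being large.
-/

set_option autoImplicit false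
set_option linter.unusedSectionVars false
set_option linter.style.haveILetI false

namespace Cfsg.Agent.LargeExtra

open Subgroup
open scoped commutatorElement

variable {G : Type*} [Group G] [Finite G]

theorem conj_mem {H : Subgroup G} {g x : G} (hg : g ∈ normalizer (H : Set G)) (hx : x ∈ H) :
    g * x * g⁻¹ ∈ H := (mem_normalizer_iff.1 hg x).1 hx

theorem mem_centralizer_one {a b : G} : a ∈ centralizer ({b} : Set G) ↔ a * b = b * a :=
  mem_centralizer_singleton_iff

theorem mem_conjMap {Q : Subgroup G} {g a : G} :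
    a ∈ Q.map (MulAut.conj g).toMonoidHom ↔ g⁻¹ * a * g ∈ Q := by
  rw [mem_map_equiv, MulAut.conj_symm_apply]

theorem conj_mem_conjMap {Q : Subgroup G} {g a : G} (ha : a ∈ Q) :
    g * a * g⁻¹ ∈ Q.map (MulAut.conj g).toMonoidHom := ⟨a, ha, rfl⟩

theorem normalizer_of_map_normal {H : Subgroup G} {K : Subgroup H} (hK : K.Normal) :
    H ≤ normalizer ((K.map H.subtype : Subgroup G) : Set G) := by
  intro h hh
  refine mem_normalizer_iff.2 fun a => ⟨?_, ?_⟩
  · rintro ⟨k, hk, rfl⟩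
    exact ⟨⟨h, hh⟩ * k * ⟨h, hh⟩⁻¹, hK.conj_mem k hk ⟨h, hh⟩, rfl⟩
  · rintro ⟨k, hk, hk'⟩
    refine ⟨⟨h, hh⟩⁻¹ * k * ⟨h, hh⟩, ?_, ?_⟩
    · simpa using hK.conj_mem k hk ⟨h, hh⟩⁻¹
    · have : (k : G) = h * a * h⁻¹ := hk'
      simp [this, mul_assoc]

/-- A criterion for a 2-group to be extraspecial. -/
theorem isExtraspecial_of {E : Type*} [Group E] [Finite E] (hE : IsPGroup 2 E) {z : E}
    (hz2 : orderOf z = 2) (hcen : ∀ x : E, (∀ y : E, x * y = y * x) ↔ x ∈ zpowers z)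
    (hcomm : ∀ x y : E, ⁅x, y⁆ ∈ zpowers z) (hsq : ∀ x : E, x ^ 2 ∈ zpowers z)
    (hne : ∃ x y : E, x * y ≠ y * x) : IsExtraspecial 2 E := by
  haveI : Fact (Nat.Prime 2) := ⟨Nat.prime_two⟩
  have hc : center E = zpowers z := by
    ext x
    rw [mem_center_iff, ← hcen]
    exact ⟨fun h y => (h y).symm, fun h y => (h y).symm⟩
  have hcard : Nat.card (center E) = 2 := by rw [hc, Nat.card_zpowers, hz2]
  have h1 : _root_.commutator E ≤ center E := by
    rw [_root_.commutator_def, commutator_le]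
    exact fun x _ y _ => hc ▸ hcomm x y
  have h2 : _root_.commutator E ≠ ⊥ := by
    intro h
    obtain ⟨x, y, hxy⟩ := hne
    have := commutator_mem_commutator (mem_top x) (mem_top y)
    rw [← _root_.commutator_def, h, mem_bot] at this
    exact hxy (commutatorElement_eq_one_iff_mul_comm.1 this)
  have h3 : _root_.commutator E = center E := by
    refine eq_of_le_of_card_ge h1 ?_
    rw [hcard]
    haveI : Nontrivial (_root_.commutator E) := (nontrivial_iff_ne_bot _).2 h2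
    exact Finite.one_lt_card
  haveI := hE.isNilpotent
  refine ⟨⟨hE, le_antisymm ?_ ?_, h3⟩, hcard⟩
  · exact hc ▸ LEFrattini.frattini_le hcomm hsq
  · exact h3 ▸ SolvStruct.commutator_le_frattini E

/-- An extraspecial 2-subgroup with given central involution. -/
structure XSub (Q : Subgroup G) (z : G) : Prop where
  xs : IsExtraspecial 2 Q
  centre : (center Q).map Q.subtype = zpowers z

namespace XSub

variable {Q : Subgroup G} {z : G}

theorem orderOf_eq (h : XSub Q z) : orderOf z = 2 := by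
  rw [← Nat.card_zpowers, ← h.centre, card_map_of_injective Q.subtype_injective, h.xs.2]

theorem ne_one (h : XSub Q z) : z ≠ 1 := fun he => by
  have := h.orderOf_eq
  rw [he, orderOf_one] at this
  omega

theorem sq (h : XSub Q z) : z * z = 1 := by
  rw [← pow_two, ← h.orderOf_eq, pow_orderOf_eq_one]

theorem inv_eq (h : XSub Q z) : z⁻¹ = z := inv_eq_of_mul_eq_one_right h.sq

theorem mem_zpowers_iff (h : XSub Q z) {a : G} : a ∈ zpowers z ↔ a = 1 ∨ a = z := by
  classical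
  rw [mem_zpowers_iff_mem_range_orderOf, h.orderOf_eq, show Finset.range 2 = {0, 1} from rfl]
  simp [eq_comm]

theorem mem (h : XSub Q z) : z ∈ Q :=
  map_subtype_le (center Q) (h.centre ▸ mem_zpowers z)

theorem mem_center (h : XSub Q z) : (⟨z, h.mem⟩ : Q) ∈ center Q := by
  obtain ⟨a, ha, haz⟩ : z ∈ (center Q).map Q.subtype := h.centre ▸ mem_zpowers z
  have : a = ⟨z, h.mem⟩ := Subtype.ext haz
  exact this ▸ ha

theorem comm (h : XSub Q z) {q : G} (hq : q ∈ Q) : q * z = z * q :=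
  congrArg Subtype.val (mem_center_iff.1 h.mem_center ⟨q, hq⟩)

theorem le_centralizer (h : XSub Q z) : Q ≤ centralizer ({z} : Set G) :=
  fun _ hq => mem_centralizer_one.2 (h.comm hq)

theorem coe_center (h : XSub Q z) {q : Q} (hq : q ∈ center Q) : (q : G) = 1 ∨ (q : G) = z :=
  h.mem_zpowers_iff.1 (h.centre ▸ ⟨q, hq, rfl⟩)

theorem eq_of_central (h : XSub Q z) {q : G} (hq : q ∈ Q) (hc : ∀ r ∈ Q, q * r = r * q) :
    q = 1 ∨ q = z :=
  h.coe_center (q := ⟨q, hq⟩) (mem_center_iff.2 fun r => Subtype.ext (hc r r.2).symm)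

theorem sq_cases (h : XSub Q z) {q : G} (hq : q ∈ Q) : q * q = 1 ∨ q * q = z := by
  haveI : Fact (Nat.Prime 2) := ⟨Nat.prime_two⟩
  have := h.coe_center ((PGroupBasics.special_center h.xs.1).2.1 ⟨q, hq⟩)
  simpa [pow_two] using this

theorem comm_cases (h : XSub Q z) {q r : G} (hq : q ∈ Q) (hr : r ∈ Q) :
    ⁅q, r⁆ = 1 ∨ ⁅q, r⁆ = z := by
  haveI : Fact (Nat.Prime 2) := ⟨Nat.prime_two⟩
  have := h.coe_center ((PGroupBasics.special_center h.xs.1).1 ⟨q, hq⟩ ⟨r, hr⟩)
  simpa [commutatorElement_def] using this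

theorem conj_cases (h : XSub Q z) {q r : G} (hq : q ∈ Q) (hr : r ∈ Q) :
    q * r * q⁻¹ = r ∨ q * r * q⁻¹ = r * z := by
  rcases h.comm_cases hq hr with he | he
  · exact Or.inl (mul_inv_eq_iff_eq_mul.2 (commutatorElement_eq_one_iff_mul_comm.1 he))
  · right
    rw [h.comm hr, ← he, commutatorElement_def]
    group

theorem conj_eq_self_iff {q r : G} : q * r * q⁻¹ = r ↔ q * r = r * q := mul_inv_eq_iff_eq_mul

theorem ne_mul_z (h : XSub Q z) (v : G) : v ≠ v * z := fun e => h.ne_one (mul_eq_left.1 e.symm)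

/-- Elements outside a subgroup containing the centre are moved by its centralizer. -/
theorem exists_conj_mul (h : XSub Q z) {H : Subgroup G} (hzH : z ∈ H) (hH : H ≤ Q) {v : G} (hv : v ∈ Q)
    (hvH : v ∉ H) : ∃ q ∈ Q, (∀ a ∈ H, q * a = a * q) ∧ q * v * q⁻¹ = v * z := by
  haveI : Fact (Nat.Prime 2) := ⟨Nat.prime_two⟩
  by_contra hcon
  apply hvH
  have hZ : center Q ≤ H.subgroupOf Q := by
    intro c hc
    rw [mem_subgroupOf]
    rcases h.coe_center hc with e | e <;> rw [e]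
    exacts [one_mem _, hzH]
  have hd := XSInvol.double_centralizer h.xs hZ
  have : (⟨v, hv⟩ : Q) ∈ H.subgroupOf Q := by
    rw [← hd, mem_centralizer_iff]
    intro q hq
    apply Subtype.ext
    show (q : G) * v = v * q
    rcases h.conj_cases q.2 hv with e | e
    · exact conj_eq_self_iff.1 e
    · refine absurd ⟨q, q.2, fun a ha => ?_, e⟩ hcon
      exact (congrArg Subtype.val (mem_centralizer_iff.1 hq ⟨a, hH ha⟩ (by simpa [mem_subgroupOf] using ha))).symm
  simpa [mem_subgroupOf] using this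

theorem exists_conj (h : XSub Q z) {v : G} (hv : v ∈ Q) (h1 : v ≠ 1) (h2 : v ≠ z) :
    ∃ q ∈ Q, q * v * q⁻¹ = v * z := by
  obtain ⟨q, hq, -, e⟩ := h.exists_conj_mul (mem_zpowers z) (zpowers_le.2 h.mem) hv
    (fun hh => (h.mem_zpowers_iff.1 hh).elim h1 h2)
  exact ⟨q, hq, e⟩

end XSub

/-- The elements of the subgroup generated by two commuting involutions. -/
theorem mem_closure_pair {a b x : G} (ha : a * a = 1) (hb : b * b = 1) (hab : a * b = b * a) :
    x ∈ closure ({a, b} : Set G) ↔ x = 1 ∨ x = a ∨ x = b ∨ x = a * b := by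
  have hba : b * a = a * b := hab.symm
  have e1 : a * (a * b) = b := by rw [← mul_assoc, ha, one_mul]
  have e2 : b * (a * b) = a := by rw [← mul_assoc, hba, mul_assoc, hb, mul_one]
  constructor
  · intro hx
    induction hx using closure_induction_left with
    | one => exact Or.inl rfl
    | mul_left y hy w _ ih =>
      rcases hy with rfl | rfl <;> rcases ih with rfl | rfl | rfl | rfl <;>
        simp [ha, hb, e1, e2, hba]
    | inv_mul_cancel y hy w _ ih =>
      have : y⁻¹ = y := by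
        rcases hy with rfl | rfl
        exacts [inv_eq_of_mul_eq_one_right ha, inv_eq_of_mul_eq_one_right hb]
      rw [this]
      rcases hy with rfl | rfl <;> rcases ih with rfl | rfl | rfl | rfl <;>
        simp [ha, hb, e1, e2, hba]
  · have h1 : a ∈ closure ({a, b} : Set G) := subset_closure (by simp)
    have h2 : b ∈ closure ({a, b} : Set G) := subset_closure (by simp)
    rintro (rfl | rfl | rfl | rfl)
    exacts [one_mem _, h1, h2, mul_mem h1 h2]

namespace XSub

variable {Q : Subgroup G} {z x : G}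

/-- Elements commuting with the centralizer of an involution of `Q`. -/
theorem mem_pair_of_commute (h : XSub Q z) (hx : x ∈ Q) (hx2 : x * x = 1) {d : G} (hd : d ∈ Q)
    (hc : ∀ p ∈ Q, p * x = x * p → p * d = d * p) : d = 1 ∨ d = z ∨ d = x ∨ d = z * x := by
  rw [← mem_closure_pair h.sq hx2 (h.comm hx).symm]
  by_contra hd'
  obtain ⟨q, hq, hqH, e⟩ := h.exists_conj_mul (H := closure ({z, x} : Set G)) (subset_closure (by simp))
    ((closure_le _).2 (by rintro y (rfl | rfl); exacts [h.mem, hx])) hd hd'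
  have := hc q hq (hqH x (subset_closure (by simp)))
  rw [conj_eq_self_iff.2 this] at e
  exact h.ne_mul_z d e

/-- For width at least two the centralizer of an element is non-abelian. -/
theorem exists_noncomm (h : XSub Q z) (hw : 32 ≤ Nat.card Q) (hx : x ∈ Q) :
    ∃ a ∈ Q, ∃ b ∈ Q, a * x = x * a ∧ b * x = x * b ∧ a * b * a⁻¹ = b * z := by
  haveI : Fact (Nat.Prime 2) := ⟨Nat.prime_two⟩
  by_contra hcon
  push Not at hcon
  set A := centralizer ({⟨x, hx⟩} : Set Q) with hA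
  have hmem : ∀ a : A, (a : G) * x = x * a := fun a =>
    congrArg Subtype.val (mem_centralizer_singleton_iff.1 a.2)
  have hab : IsMulCommutative A := ⟨⟨fun a b => by
    rcases h.conj_cases a.1.2 b.1.2 with e | e
    · exact Subtype.ext (Subtype.ext (conj_eq_self_iff.1 e))
    · exact absurd e (hcon _ a.1.2 _ b.1.2 (hmem a) (hmem b))⟩⟩
  have h1 := FGBasics.XS.card_abelian_sq_le h.xs A hab
  have h2 := FGBasics.XS.centralizer_index_le h.xs (⟨x, hx⟩ : Q)
  have h3 : Nat.card Q ≤ Nat.card A * 2 := by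
    rw [← A.card_mul_index]
    exact Nat.mul_le_mul_left _ h2
  have h4 : Nat.card Q * Nat.card Q ≤ Nat.card A * 2 * (Nat.card A * 2) := Nat.mul_le_mul h3 h3
  nlinarith

/-- A subgroup with small centre is extraspecial. -/
theorem sub (h : XSub Q z) {W : Subgroup G} (hW : W ≤ Q) (hz : z ∈ W)
    (hcen : ∀ w ∈ W, (∀ v ∈ W, w * v = v * w) → w = 1 ∨ w = z)
    (hne : ∃ a ∈ W, ∃ b ∈ W, a * b ≠ b * a) : XSub W z := by
  have hz2 : orderOf (⟨z, hz⟩ : W) = 2 := by rw [← orderOf_coe, h.orderOf_eq]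
  have hmem : ∀ w : W, w ∈ zpowers (⟨z, hz⟩ : W) ↔ ((w : G) = 1 ∨ (w : G) = z) := by
    intro w
    rw [← h.mem_zpowers_iff]
    constructor
    · rintro ⟨k, rfl⟩
      exact ⟨k, by simp⟩
    · rintro ⟨k, hk⟩
      exact ⟨k, Subtype.ext (by simpa using hk)⟩
  have hxs : IsExtraspecial 2 W := by
    refine isExtraspecial_of (h.xs.1.1.to_le hW) hz2 (fun w => ?_) (fun a b => ?_) (fun a => ?_) ?_
    · rw [hmem]
      refine ⟨fun hc => hcen w w.2 fun v hv => congrArg Subtype.val (hc ⟨v, hv⟩), fun hw v => ?_⟩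
      apply Subtype.ext
      rcases hw with e | e <;> simp only [coe_mul, e, one_mul, mul_one]
      exact (h.comm (hW v.2)).symm
    · rw [hmem]
      simpa [commutatorElement_def] using h.comm_cases (hW a.2) (hW b.2)
    · rw [hmem]
      simpa [pow_two] using h.sq_cases (hW a.2)
    · obtain ⟨a, ha, b, hb, hab⟩ := hne
      exact ⟨⟨a, ha⟩, ⟨b, hb⟩, fun e => hab (congrArg Subtype.val e)⟩
  refine ⟨hxs, le_antisymm ?_ (zpowers_le.2 ⟨⟨z, hz⟩, mem_center_iff.2 fun v => ?_, rfl⟩)⟩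
  · rintro _ ⟨w, hw, rfl⟩
    exact h.mem_zpowers_iff.2 (hcen w w.2 fun v hv => (congrArg Subtype.val (mem_center_iff.1 hw ⟨v, hv⟩)).symm)
  · exact Subtype.ext (h.comm (hW v.2))

end XSub

/-- `Q` is extraspecial with centre generated by `z`, contains its centralizer and is normal in `C(z)`. -/
structure XSLocal (Q : Subgroup G) (z : G) : Prop extends XSub Q z where
  cent : centralizer (Q : Set G) ≤ zpowers z
  norm : centralizer ({z} : Set G) ≤ normalizer (Q : Set G)

/-- Centralizing the subgroup generated by an element. -/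
theorem centralizer_zpowers (z : G) :
    centralizer ((zpowers z : Subgroup G) : Set G) = centralizer ({z} : Set G) := by
  rw [zpowers_eq_closure, centralizer_closure]

theorem XSLocal.of_hyp {Q : Subgroup G} {z : G} (h1 : IsExtraspecial 2 Q)
    (h2 : centralizer (Q : Set G) = (center Q).map Q.subtype)
    (h3 : centralizer (((center Q).map Q.subtype : Subgroup G) : Set G) ≤ normalizer (Q : Set G))
    (hz : (center Q).map Q.subtype = zpowers z) : XSLocal Q z := by
  refine ⟨⟨h1, hz⟩, (h2.trans hz).le, ?_⟩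
  rwa [hz, centralizer_zpowers] at h3

theorem exists_xsLocal {Q : Subgroup G} (h1 : IsExtraspecial 2 Q)
    (h2 : centralizer (Q : Set G) = (center Q).map Q.subtype)
    (h3 : centralizer (((center Q).map Q.subtype : Subgroup G) : Set G) ≤ normalizer (Q : Set G)) :
    ∃ z, XSLocal Q z := by
  obtain ⟨⟨a, ha⟩, hne, -⟩ := (Nat.card_eq_two_iff' (1 : center Q)).1 h1.2
  refine ⟨a, XSLocal.of_hyp h1 h2 h3 (eq_of_le_of_card_ge ?_ ?_).symm⟩
  · exact zpowers_le.2 ⟨a, ha, rfl⟩
  · rw [card_map_of_injective Q.subtype_injective, h1.2, Nat.card_zpowers, orderOf_coe]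
    by_contra hlt
    have := orderOf_pos a
    have h1 : orderOf a = 1 := by omega
    exact hne (Subtype.ext (orderOf_eq_one_iff.1 h1))

namespace XSLocal

variable {Q : Subgroup G} {z : G}

theorem large (h : XSLocal Q z)
    (hodd : ∀ K : Subgroup G, Odd (Nat.card K) → Q ≤ normalizer (K : Set G) → K = ⊥) :
    IsLargeExtraspecial Q := by
  refine ⟨h.xs, le_antisymm (h.centre ▸ h.cent) ?_, ?_, hodd⟩
  · rw [h.centre, zpowers_le, mem_centralizer_iff]
    exact fun q hq => h.comm hq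
  · rw [h.centre, centralizer_zpowers]
    exact h.norm

theorem of_large (hQ : IsLargeExtraspecial Q) (hz : (center Q).map Q.subtype = zpowers z) : XSLocal Q z :=
  of_hyp hQ.1 hQ.2.1 hQ.2.2.1 hz

theorem conj (h : XSLocal Q z) (g : G) :
    XSLocal (Q.map (MulAut.conj g).toMonoidHom) (g * z * g⁻¹) := by
  haveI : Fact (Nat.Prime 2) := ⟨Nat.prime_two⟩
  set Q' := Q.map (MulAut.conj g).toMonoidHom
  let e : Q ≃* Q' := Q.equivMapOfInjective _ (MulAut.conj g).injective
  have he : ∀ a : Q, (e a : G) = g * a * g⁻¹ := fun a => rfl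
  refine ⟨⟨Qd.isExtraspecial_congr e.symm h.xs, ?_⟩, fun a ha => ?_, fun a ha => ?_⟩
  · rw [← Qd.map_center_eq e, map_map,
      show Q'.subtype.comp e.toMonoidHom = (MulAut.conj g).toMonoidHom.comp Q.subtype from rfl, ← map_map,
      h.centre, MonoidHom.map_zpowers]
    rfl
  · have h1 : g⁻¹ * a * g ∈ zpowers z := h.cent <| mem_centralizer_iff.2 fun q hq => by
      have := mem_centralizer_iff.1 ha _ (conj_mem_conjMap hq)
      calc q * (g⁻¹ * a * g) = g⁻¹ * (g * q * g⁻¹ * a) * g := by group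
        _ = g⁻¹ * (a * (g * q * g⁻¹)) * g := by rw [this]
        _ = g⁻¹ * a * g * q := by group
    rcases h.mem_zpowers_iff.1 h1 with e1 | e1 <;>
      rw [show a = g * (g⁻¹ * a * g) * g⁻¹ by group, e1]
    · simp
    · exact mem_zpowers _
  · have h1 : g⁻¹ * a * g ∈ normalizer (Q : Set G) := h.norm <| mem_centralizer_one.2 <| by
      have := mem_centralizer_one.1 ha
      calc g⁻¹ * a * g * z = g⁻¹ * (a * (g * z * g⁻¹)) * g := by group
        _ = g⁻¹ * (g * z * g⁻¹ * a) * g := by rw [this]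
        _ = z * (g⁻¹ * a * g) := by group
    refine mem_normalizer_iff.2 fun b => ?_
    show b ∈ Q' ↔ a * b * a⁻¹ ∈ Q'
    rw [mem_conjMap, mem_conjMap, mem_normalizer_iff.1 h1 (g⁻¹ * b * g),
      show g⁻¹ * a * g * (g⁻¹ * b * g) * (g⁻¹ * a * g)⁻¹ = g⁻¹ * (a * b * a⁻¹) * g by group]

end XSLocal


/-! ### Subgroups of odd order -/

theorem eq_one_of_mem {K P : Subgroup G} (hK : Odd (Nat.card K)) (hP : IsPGroup 2 P) {x : G} (hxK : x ∈ K)
    (hxP : x ∈ P) : x = 1 := by
  obtain ⟨k, hk⟩ := hP ⟨x, hxP⟩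
  rw [← orderOf_eq_one_iff]
  exact Nat.eq_one_of_dvd_coprimes ((Nat.coprime_two_left.2 hK).pow_left k)
    (orderOf_dvd_of_pow_eq_one (by simpa [Subtype.ext_iff] using hk)) (Subgroup.orderOf_dvd_natCard K hxK)

theorem eq_one_of_sq {K : Subgroup G} (hK : Odd (Nat.card K)) {x : G} (hxK : x ∈ K) (hx : x * x = 1) :
    x = 1 := by
  rw [← orderOf_eq_one_iff]
  exact Nat.eq_one_of_dvd_coprimes (Nat.coprime_two_left.2 hK)
    (orderOf_dvd_of_pow_eq_one (by rwa [pow_two])) (Subgroup.orderOf_dvd_natCard K hxK)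

/-- A fixed-point-free involution inverts a group of odd order. -/
theorem conj_eq_inv {K : Subgroup G} {z : G} (hz : z * z = 1) (hzK : z ∈ normalizer (K : Set G))
    (hfix : ∀ k ∈ K, z * k = k * z → k = 1) {k : G} (hk : k ∈ K) : z * k * z⁻¹ = k⁻¹ := by
  let f : K → K := fun l => ⟨(l : G)⁻¹ * (z * l * z⁻¹), mul_mem (inv_mem l.2) (conj_mem hzK l.2)⟩
  have hf : Function.Injective f := by
    intro a b hab
    have e : (a : G)⁻¹ * (z * a * z⁻¹) = (b : G)⁻¹ * (z * b * z⁻¹) := congrArg Subtype.val hab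
    have h1 : (b : G) * (a : G)⁻¹ = 1 := by
      refine hfix _ (mul_mem b.2 (inv_mem a.2)) (mul_inv_eq_iff_eq_mul.1 ?_)
      calc z * ((b : G) * (a : G)⁻¹) * z⁻¹ = (z * b * z⁻¹) * (z * a * z⁻¹)⁻¹ := by group
        _ = b * ((b : G)⁻¹ * (z * b * z⁻¹)) * ((a : G)⁻¹ * (z * a * z⁻¹))⁻¹ * (a : G)⁻¹ := by group
        _ = b * (a : G)⁻¹ := by rw [← e]; group
    exact Subtype.ext (mul_inv_eq_one.1 h1).symm
  obtain ⟨l, hl⟩ := Finite.surjective_of_injective hf ⟨k, hk⟩
  have e : k = (l : G)⁻¹ * (z * l * z⁻¹) := (congrArg Subtype.val hl).symm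
  have hzi : z⁻¹ = z := inv_eq_of_mul_eq_one_right hz
  rw [e, hzi]
  calc z * ((l : G)⁻¹ * (z * l * z)) * z = z * (l : G)⁻¹ * z * l * (z * z) := by group
    _ = z⁻¹ * (l : G)⁻¹ * z⁻¹ * l := by rw [hz, mul_one, hzi]
    _ = ((l : G)⁻¹ * (z * l * z))⁻¹ := by group

theorem eq_bot_of_pair {K : Subgroup G} (hK : Odd (Nat.card K)) {z x p : G} (hz : z * z = 1)
    (hx : x * x = 1) (hzK : z ∈ normalizer (K : Set G)) (hxK : x ∈ normalizer (K : Set G))
    (hpK : p ∈ normalizer (K : Set G)) (hp : p * x * p⁻¹ = x * z)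
    (hzfix : ∀ k ∈ K, z * k = k * z → k = 1) (T : Subgroup G) (hT : IsPGroup 2 T) (hzT : z ∈ T)
    (hTn : ∀ k ∈ K, x * k = k * x → k ∈ normalizer (T : Set G)) : K = ⊥ := by
  have hxfix : ∀ k ∈ K, x * k = k * x → k = 1 := by
    intro k hk hc
    refine hzfix k hk ?_
    have h1 : k * z * k⁻¹ * z⁻¹ = 1 := by
      refine eq_one_of_mem hK hT ?_ (mul_mem (conj_mem (hTn k hk hc) hzT) (inv_mem hzT))
      rw [show k * z * k⁻¹ * z⁻¹ = k * (z * k⁻¹ * z⁻¹) by group]
      exact mul_mem hk (conj_mem hzK (inv_mem hk))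
    rw [mul_inv_eq_one, mul_inv_eq_iff_eq_mul] at h1
    exact h1.symm
  have hxzfix : ∀ k ∈ K, x * z * k = k * (x * z) → k = 1 := by
    intro k hk hc
    rw [← hp] at hc
    have h1 : p⁻¹ * k * p = 1 := by
      refine hxfix _ ?_ ?_
      · simpa [mul_assoc] using conj_mem (inv_mem hpK) hk
      · calc x * (p⁻¹ * k * p) = p⁻¹ * (p * x * p⁻¹ * k) * p := by group
          _ = p⁻¹ * (k * (p * x * p⁻¹)) * p := by rw [hc]
          _ = p⁻¹ * k * p * x := by group
    calc k = p * (p⁻¹ * k * p) * p⁻¹ := by group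
      _ = 1 := by rw [h1]; group
  have hxz : x * z * (x * z) = 1 := by
    rw [← hp, show p * x * p⁻¹ * (p * x * p⁻¹) = p * (x * x) * p⁻¹ by group, hx]
    group
  rw [eq_bot_iff_forall]
  intro k hk
  have h3 := conj_eq_inv hxz (mul_mem hxK hzK) hxzfix hk
  rw [show x * z * k * (x * z)⁻¹ = x * (z * k * z⁻¹) * x⁻¹ by group, conj_eq_inv hz hzK hzfix hk,
    show x * k⁻¹ * x⁻¹ = (x * k * x⁻¹)⁻¹ by group, conj_eq_inv hx hxK hxfix hk, inv_inv] at h3
  exact eq_one_of_sq hK hk (mul_eq_one_iff_eq_inv.2 h3)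

namespace XSLocal

variable {Q : Subgroup G} {z : G}

theorem fix_trivial (h : XSLocal Q z) {K : Subgroup G} (hK : Odd (Nat.card K))
    (hQK : Q ≤ normalizer (K : Set G)) {k : G} (hk : k ∈ K) (hc : z * k = k * z) : k = 1 := by
  have hkN := h.norm (mem_centralizer_one.2 hc.symm)
  have hkC : k ∈ centralizer (Q : Set G) := by
    intro q hq
    have h1 : q * k * q⁻¹ * k⁻¹ = 1 := by
      refine eq_one_of_mem hK h.xs.1.1 (mul_mem (conj_mem (hQK hq) hk) (inv_mem hk)) ?_
      rw [show q * k * q⁻¹ * k⁻¹ = q * (k * q⁻¹ * k⁻¹) by group]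
      exact mul_mem hq (conj_mem hkN (inv_mem hq))
    rwa [mul_inv_eq_one, mul_inv_eq_iff_eq_mul] at h1
  refine eq_one_of_sq hK hk ?_
  rcases h.mem_zpowers_iff.1 (h.cent hkC) with e | e <;> rw [e]
  exacts [one_mul 1, h.sq]

/-- `Q` is large if a non-central involution of it has `z` in a normal 2-subgroup of its centralizer. -/
theorem large_of_core (h : XSLocal Q z) {b : G} (hbQ : b ∈ Q) (hb : b * b = 1) (hb1 : b ≠ 1) (hbz : b ≠ z)
    (T : Subgroup G) (hT : IsPGroup 2 T) (hzT : z ∈ T)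
    (hTn : centralizer ({b} : Set G) ≤ normalizer (T : Set G)) : IsLargeExtraspecial Q := by
  refine h.large fun K hK hQK => ?_
  obtain ⟨p, hp, e⟩ := h.exists_conj hbQ hb1 hbz
  exact eq_bot_of_pair hK h.sq hb (hQK h.mem) (hQK hbQ) (hQK hp) e
    (fun k hk hc => h.fix_trivial hK hQK hk hc) T hT hzT (fun k _ hc => hTn (mem_centralizer_one.2 hc.symm))

/-- If a conjugate of `z` other than `z` lies in `Q`, then `z` lies in the corresponding conjugate of `Q`. -/
theorem mem_conj (h : XSLocal Q z) (hw : 32 ≤ Nat.card Q) {g : G} (hxQ : g * z * g⁻¹ ∈ Q)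
    (hxz : g * z * g⁻¹ ≠ z) : z ∈ Q.map (MulAut.conj g).toMonoidHom := by
  set x := g * z * g⁻¹ with hx
  set Q' := Q.map (MulAut.conj g).toMonoidHom
  have h' : XSLocal Q' x := h.conj g
  by_contra hz'
  have hzx : z * x = x * z := (h.comm hxQ).symm
  have hzx' : z * x * z⁻¹ = x := by rw [hzx, mul_inv_cancel_right]
  have hzi := h.inv_eq
  have hx1 : x ≠ 1 := h'.ne_one
  have hN : ∀ p, p * x = x * p → p ∈ normalizer (Q' : Set G) := fun p hp =>
    h'.norm (mem_centralizer_one.2 hp)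
  have bad : ∀ y ∈ Q', z * y * z⁻¹ ≠ y * x := by
    intro y hy e
    obtain ⟨q, hq, eq⟩ := h.exists_conj hxQ hx1 hxz
    have e1 : y⁻¹ * z * y = x * z := by
      rw [mul_inv_eq_iff_eq_mul] at e
      rw [show y⁻¹ * z * y = y⁻¹ * (z * y) by group, e]
      group
    have hyx : y⁻¹ * x * y = x := by rw [mul_assoc, ← h'.comm hy, inv_mul_cancel_left]
    have hqz : q * z * q⁻¹ = z := by rw [h.comm hq, mul_inv_cancel_right]
    set η := q * y⁻¹ with hη
    have f1 : η * z * η⁻¹ = x := by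
      rw [hη, show q * y⁻¹ * z * (q * y⁻¹)⁻¹ = q * (y⁻¹ * z * y) * q⁻¹ by group, e1,
        show q * (x * z) * q⁻¹ = q * x * q⁻¹ * (q * z * q⁻¹) by group, eq, hqz, mul_assoc, h.sq, mul_one]
    have f2 : η * x * η⁻¹ = x * z := by
      rw [hη, show q * y⁻¹ * x * (q * y⁻¹)⁻¹ = q * (y⁻¹ * x * y) * q⁻¹ by group, hyx, eq]
    have f3 : η * (x * z) * η⁻¹ = z := by
      rw [show η * (x * z) * η⁻¹ = η * x * η⁻¹ * (η * z * η⁻¹) by group, f1, f2, mul_assoc, hzx,
        ← mul_assoc, h'.sq, one_mul]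
    have hν : g⁻¹ * η ∈ normalizer (Q : Set G) := h.norm <| mem_centralizer_one.2 <| by
      calc g⁻¹ * η * z = g⁻¹ * (η * z * η⁻¹) * η := by group
        _ = z * (g⁻¹ * η) := by rw [f1, hx]; group
    apply hz'
    rw [mem_conjMap]
    have h5 := conj_mem hν (mul_mem hxQ h.mem)
    rw [show g⁻¹ * η * (x * z) * (g⁻¹ * η)⁻¹ = g⁻¹ * (η * (x * z) * η⁻¹) * g by group, f3] at h5
    exact h5
  have σmem : ∀ v ∈ Q', z * v * z⁻¹ ∈ Q' := fun v hv => conj_mem (hN z hzx) hv
  have σσ : ∀ v : G, z * (z * v * z⁻¹) * z⁻¹ = v := fun v => by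
    rw [hzi, show z * (z * v * z) * z = (z * z) * v * (z * z) by group, h.sq, one_mul, mul_one]
  have step2 : ∀ t ∈ Q', (∀ c ∈ Q', c * z = z * c → t * c = c * t) → z * t * z⁻¹ = t := by
    intro t ht htc
    have hω : ∀ v ∈ Q', t * (v⁻¹ * (z * v * z⁻¹)) = v⁻¹ * (z * v * z⁻¹) * t := by
      intro v hv
      set w := v⁻¹ * (z * v * z⁻¹) with hw
      have hw' : w ∈ Q' := mul_mem (inv_mem hv) (σmem v hv)
      have e : z * w * z⁻¹ = w⁻¹ := by
        rw [hw, show z * (v⁻¹ * (z * v * z⁻¹)) * z⁻¹ = (z * v * z⁻¹)⁻¹ * (z * (z * v * z⁻¹) * z⁻¹) by group, σσ]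
        group
      refine htc w hw' (mul_inv_eq_iff_eq_mul.1 ?_).symm
      rcases h'.sq_cases hw' with e2 | e2
      · rwa [inv_eq_of_mul_eq_one_right e2] at e
      · refine absurd ?_ (bad w hw')
        rw [e]
        apply inv_eq_of_mul_eq_one_right
        rw [← mul_assoc, e2, h'.sq]
    have hcen : ∀ v ∈ Q', t⁻¹ * (z * t * z⁻¹) * v = v * (t⁻¹ * (z * t * z⁻¹)) := by
      intro v hv
      obtain ⟨i, hi, hvt⟩ : ∃ i, (i = 1 ∨ i = x) ∧ v * t * v⁻¹ = t * i := by
        rcases h'.conj_cases hv ht with e | e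
        exacts [⟨1, Or.inl rfl, by rw [e, mul_one]⟩, ⟨x, Or.inr rfl, e⟩]
      have hiz : z * i * z⁻¹ = i := by
        rcases hi with rfl | rfl
        exacts [by group, hzx']
      have hiv : ∀ u ∈ Q', u * i = i * u := by
        intro u hu
        rcases hi with rfl | rfl
        exacts [by group, h'.comm hu]
      set w := z * v * z⁻¹ with hw
      have e1 : w * t * w⁻¹ = t * i := by
        have := hω v hv
        calc w * t * w⁻¹ = v * ((v⁻¹ * w) * t) * w⁻¹ := by group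
          _ = v * (t * (v⁻¹ * w)) * w⁻¹ := by rw [this]
          _ = t * i := by rw [← hvt]; group
      have e2 : v * (z * t * z⁻¹) * v⁻¹ = z * t * z⁻¹ * i := by
        have := congrArg (fun a => z * a * z⁻¹) e1
        rw [show z * (w * t * w⁻¹) * z⁻¹ = (z * w * z⁻¹) * (z * t * z⁻¹) * (z * w * z⁻¹)⁻¹ by group, hw, σσ,
          show z * (t * i) * z⁻¹ = z * t * z⁻¹ * (z * i * z⁻¹) by group, hiz] at this
        exact this
      symm
      refine mul_inv_eq_iff_eq_mul.1 ?_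
      rw [show v * (t⁻¹ * (z * t * z⁻¹)) * v⁻¹ = (v * t * v⁻¹)⁻¹ * (v * (z * t * z⁻¹) * v⁻¹) by group,
        hvt, e2, mul_inv_rev, hiv _ (σmem t ht)]
      have hti := hiv t ht
      calc i⁻¹ * t⁻¹ * (i * (z * t * z⁻¹)) = (t * i)⁻¹ * (i * t) * (t⁻¹ * (z * t * z⁻¹)) := by group
        _ = _ := by rw [← hti]; group
    rcases h'.eq_of_central (mul_mem (inv_mem ht) (σmem t ht)) hcen with e | e
    · exact (inv_mul_eq_one.1 e).symm
    · exact absurd (inv_mul_eq_iff_eq_mul.1 e) (bad t ht)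
  have step3 : ∀ c ∈ Q', c * z = z * c → ∀ p ∈ Q, p * x = x * p → ∃ i, (i = 1 ∨ i = x) ∧ p * c * p⁻¹ = i * c := by
    intro c hc hcz p hp hpx
    refine ⟨p * c * p⁻¹ * c⁻¹, ?_, by group⟩
    have hd' : p * c * p⁻¹ * c⁻¹ ∈ Q' := mul_mem (conj_mem (hN p hpx) hc) (inv_mem hc)
    have hd : p * c * p⁻¹ * c⁻¹ ∈ Q := by
      rw [show p * c * p⁻¹ * c⁻¹ = p * (c * p⁻¹ * c⁻¹) by group]
      exact mul_mem hp (conj_mem (h.norm (mem_centralizer_one.2 hcz)) (inv_mem hp))
    have hcomm : ∀ r ∈ Q, r * x = x * r → r * (p * c * p⁻¹ * c⁻¹) = p * c * p⁻¹ * c⁻¹ * r := by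
      intro r hr hrx
      rcases h.conj_cases hr hd with e | e
      · exact mul_inv_eq_iff_eq_mul.1 e
      · refine absurd ?_ hz'
        have := mul_mem (inv_mem hd') (e ▸ conj_mem (hN r hrx) hd')
        rwa [inv_mul_cancel_left] at this
    rcases h.mem_pair_of_commute hxQ h'.sq hd hcomm with e | e | e | e
    · exact Or.inl e
    · exact absurd (e ▸ hd') hz'
    · exact Or.inr e
    · refine absurd ?_ hz'
      have := mul_mem (e ▸ hd') h'.mem
      rwa [mul_assoc, h'.sq, mul_one] at this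
  have step4 : ∀ p ∈ Q, p * x = x * p → ∀ v ∈ Q', ∀ c ∈ Q', c * z = z * c →
      v⁻¹ * (p * v * p⁻¹) * c = c * (v⁻¹ * (p * v * p⁻¹)) := by
    intro p hp hpx v hv c hc hcz
    obtain ⟨i, hi, hpc⟩ := step3 c hc hcz p hp hpx
    obtain ⟨j, hj, hvc⟩ : ∃ j, (j = 1 ∨ j = x) ∧ v * c * v⁻¹ = c * j := by
      rcases h'.conj_cases hv hc with e | e
      exacts [⟨1, Or.inl rfl, by rw [e, mul_one]⟩, ⟨x, Or.inr rfl, e⟩]
    have hij : ∀ u ∈ Q', u * i = i * u := by
      intro u hu
      rcases hi with rfl | rfl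
      exacts [by group, h'.comm hu]
    have hpj : p * j * p⁻¹ = j := by
      rcases hj with rfl | rfl
      exacts [by group, by rw [hpx, mul_inv_cancel_right]]
    have hu := conj_mem (hN p hpx) hv
    set u := p * v * p⁻¹ with hu'
    have e1 : u * (i * c) * u⁻¹ = i * c * j := by
      rw [← hpc, hu', show p * v * p⁻¹ * (p * c * p⁻¹) * (p * v * p⁻¹)⁻¹ = p * (v * c * v⁻¹) * p⁻¹ by group,
        hvc, show p * (c * j) * p⁻¹ = p * c * p⁻¹ * (p * j * p⁻¹) by group, hpj]
    rw [← mul_assoc u i, hij u hu, show i * u * c * u⁻¹ = i * (u * c * u⁻¹) by group, mul_assoc i c j,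
      mul_left_cancel_iff, ← hvc] at e1
    calc v⁻¹ * u * c = v⁻¹ * (u * c * u⁻¹) * u := by group
      _ = c * (v⁻¹ * u) := by rw [e1]; group
  obtain ⟨a, ha, b, hb, hax, hbx, hab⟩ := h.exists_noncomm hw hxQ
  have final : ∀ v ∈ Q', v * z = z * v := by
    intro v hv
    obtain ⟨s, hs⟩ : ∃ s, s = v⁻¹ * (a * v * a⁻¹) := ⟨_, rfl⟩
    obtain ⟨t, ht⟩ : ∃ t, t = v⁻¹ * (b * v * b⁻¹) := ⟨_, rfl⟩
    have hav : a * v * a⁻¹ = v * s := by rw [hs]; group
    have hbv : b * v * b⁻¹ = v * t := by rw [ht]; group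
    have hs' : s ∈ Q' := hs ▸ mul_mem (inv_mem hv) (conj_mem (hN a hax) hv)
    have ht' : t ∈ Q' := ht ▸ mul_mem (inv_mem hv) (conj_mem (hN b hbx) hv)
    have hsT : ∀ c ∈ Q', c * z = z * c → s * c = c * s := hs ▸ step4 a ha hax v hv
    have htT : ∀ c ∈ Q', c * z = z * c → t * c = c * t := ht ▸ step4 b hb hbx v hv
    have hsz : s * z = z * s := (mul_inv_eq_iff_eq_mul.1 (step2 s hs' hsT)).symm
    have htz : t * z = z * t := (mul_inv_eq_iff_eq_mul.1 (step2 t ht' htT)).symm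
    have hst : t * s = s * t := htT s hs' hsz
    obtain ⟨i, hi, hai⟩ := step3 t ht' htz a ha hax
    obtain ⟨j, hj, hbj⟩ := step3 s hs' hsz b hb hbx
    have hix : ∀ k, (k = 1 ∨ k = x) → ∀ u ∈ Q', u * k = k * u := by
      intro k hk u hu
      rcases hk with rfl | rfl
      exacts [by group, h'.comm hu]
    obtain ⟨X, hX⟩ : ∃ X, X = v * (s * t) := ⟨_, rfl⟩
    have hXQ : X ∈ Q' := hX ▸ mul_mem hv (mul_mem hs' ht')
    have hA : a * b * v * (a * b)⁻¹ = X * i := by
      rw [show a * b * v * (a * b)⁻¹ = a * (b * v * b⁻¹) * a⁻¹ by group, hbv,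
        show a * (v * t) * a⁻¹ = a * v * a⁻¹ * (a * t * a⁻¹) by group, hav, hai, ← hix i hi t ht', hX]
      group
    have hB : b * a * v * (b * a)⁻¹ = X * j := by
      rw [show b * a * v * (b * a)⁻¹ = b * (a * v * a⁻¹) * b⁻¹ by group, hav,
        show b * (v * s) * b⁻¹ = b * v * b⁻¹ * (b * s * b⁻¹) by group, hbv, hbj, ← hix j hj s hs', hX, ← hst]
      group
    have hba : a * b = b * a * z := by
      rw [mul_inv_eq_iff_eq_mul] at hab
      rw [hab, mul_assoc b z a, ← h.comm ha, ← mul_assoc]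
    -- the image of v under conjugation by z
    have hZ : b * a * (z * v * z⁻¹) * (b * a)⁻¹ = X * i := by
      rw [← hA, hba]; group
    obtain ⟨k, hk, hk'⟩ : ∃ k, (k = 1 ∨ k = x) ∧ X * i = b * a * (v * k) * (b * a)⁻¹ := by
      have hxc : b * a * x * (b * a)⁻¹ = x := by
        rw [show b * a * x * (b * a)⁻¹ = b * (a * x * a⁻¹) * b⁻¹ by group, hax, mul_inv_cancel_right, hbx,
          mul_inv_cancel_right]
      have hXx : b * a * (v * x) * (b * a)⁻¹ = X * j * x := by
        rw [show b * a * (v * x) * (b * a)⁻¹ = b * a * v * (b * a)⁻¹ * (b * a * x * (b * a)⁻¹) by group, hB, hxc]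
      rcases hi with rfl | rfl <;> rcases hj with rfl | rfl
      · exact ⟨1, Or.inl rfl, by rw [mul_one v, hB]⟩
      · exact ⟨x, Or.inr rfl, by rw [hXx, mul_one, mul_assoc, h'.sq, mul_one]⟩
      · exact ⟨x, Or.inr rfl, by rw [hXx, mul_one]⟩
      · exact ⟨1, Or.inl rfl, by rw [mul_one v, hB]⟩
    rw [hk'] at hZ
    have hfin : z * v * z⁻¹ = v * k := mul_left_cancel (mul_right_cancel hZ)
    rcases hk with rfl | rfl
    · rw [mul_one, mul_inv_eq_iff_eq_mul] at hfin
      exact hfin.symm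
    · exact absurd hfin (bad v hv)
  rcases h'.mem_zpowers_iff.1 (h'.cent fun v hv => final v hv) with e | e
  · exact h.ne_one e
  · exact hxz e.symm

end XSLocal

end Cfsg.Agent.LargeExtra
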