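import Cfsg.Agent.Lib.LargeExtra.Pair

/-!
The subgroup generated by two extraspecial subgroups with orthogonal central involutions, and its radical.
-/

set_option autoImplicit false
set_option linter.unusedSectionVars false
set_option linter.style.haveILetI false

namespace Cfsg.Agent.LargeExtra

open Subgroup
open scoped commutatorElement Pointwise

variable {G : Type*} [Group G] [Finite G]

theorem mem_normalizer_of_conj {H : Subgroup G} {S : Subgroup G}
    (h : ∀ s ∈ S, ∀ a ∈ H, s * a * s⁻¹ ∈ H) : S ≤ normalizer (H : Set G) := by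
  intro s hs
  refine mem_normalizer_iff.2 fun a => ⟨h s hs a, fun ha => ?_⟩
  simpa [mul_assoc] using h _ (inv_mem hs) _ ha

theorem six_gen {K : Type*} [Group K] {a b : K} (ha : a * a = 1) (hb : b * b = 1)
    (hab : a * b * a = b * a * b) {s : K} (hs : s ∈ closure ({a, b} : Set K)) :
    s = 1 ∨ s = a ∨ s = b ∨ s = a * b ∨ s = b * a ∨ s = a * b * a := by
  have h1 : a * (a * b) = b := by rw [← mul_assoc, ha, one_mul]
  have h2 : a * (a * b * a) = b * a := by rw [← mul_assoc, ← mul_assoc, ha, one_mul]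
  have h3 : b * (b * a) = a := by rw [← mul_assoc, hb, one_mul]
  have h4 : b * (a * b * a) = a * b := by rw [hab, ← mul_assoc, ← mul_assoc, hb, one_mul]
  have h5 : a * (b * a) = a * b * a := (mul_assoc a b a).symm
  have h6 : b * (a * b) = a * b * a := by rw [hab, mul_assoc]
  induction hs using closure_induction_left with
  | one => exact Or.inl rfl
  | mul_left y hy w _ ih =>
    rcases hy with rfl | rfl <;> rcases ih with rfl | rfl | rfl | rfl | rfl | rfl <;>
      simp [ha, hb, h1, h2, h3, h4, h5, h6]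
  | inv_mul_cancel y hy w _ ih =>
    have : y⁻¹ = y := by
      rcases hy with rfl | rfl
      exacts [inv_eq_of_mul_eq_one_right ha, inv_eq_of_mul_eq_one_right hb]
    rw [this]
    rcases hy with rfl | rfl <;> rcases ih with rfl | rfl | rfl | rfl | rfl | rfl <;>
      simp [ha, hb, h1, h2, h3, h4, h5, h6]

/-- Two extraspecial subgroups, each containing the central involution of the other. -/
structure Orth (Q : Subgroup G) (z : G) (Q' : Subgroup G) (x : G) : Prop where
  h : XSLocal Q z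
  h' : XSLocal Q' x
  hx : x ∈ Q
  hz : z ∈ Q'
  ne : x ≠ z

/-- The radical. -/
def rad (Q : Subgroup G) (z : G) (Q' : Subgroup G) (x : G) : Subgroup G :=
  (Q' ⊓ centralizer ({z} : Set G)) ⊔ (Q ⊓ centralizer ({x} : Set G))

namespace Orth

variable {Q Q' : Subgroup G} {z x : G}

theorem swap (O : Orth Q z Q' x) : Orth Q' x Q z := ⟨O.h', O.h, O.hz, O.hx, O.ne.symm⟩

theorem rad_swap (_O : Orth Q z Q' x) : rad Q' x Q z = rad Q z Q' x := sup_comm _ _

theorem comm (O : Orth Q z Q' x) : z * x = x * z := (O.h.comm O.hx).symm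

theorem inf_le (O : Orth Q z Q' x) :
    Q ⊓ Q' ≤ (Q ⊓ centralizer ({x} : Set G)) ⊓ (Q' ⊓ centralizer ({z} : Set G)) :=
  fun _ he => ⟨⟨he.1, O.h'.le_centralizer he.2⟩, ⟨he.2, O.h.le_centralizer he.1⟩⟩

theorem inter_eq (O : Orth Q z Q' x) :
    (Q' ⊓ centralizer ({z} : Set G)) ⊓ (Q ⊓ centralizer ({x} : Set G)) = Q ⊓ Q' :=
  le_antisymm (fun _ he => ⟨he.2.1, he.1.1⟩) (fun _ he => ⟨(O.inf_le he).2, (O.inf_le he).1⟩)

theorem elementary (O : Orth Q z Q' x) : IsElementaryAbelian 2 (Q ⊓ Q') := by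
  refine ⟨⟨⟨fun a b => Subtype.ext ?_⟩⟩, fun a ha => ?_⟩
  · rcases O.h.comm_cases a.2.1 b.2.1 with e | e
    · exact commutatorElement_eq_one_iff_mul_comm.1 e
    · rcases O.h'.comm_cases a.2.2 b.2.2 with e' | e'
      · exact commutatorElement_eq_one_iff_mul_comm.1 e'
      · exact absurd (e'.symm.trans e) O.ne
  · rw [pow_two]
    rcases O.h.sq_cases ha.1 with e | e
    · exact e
    · rcases O.h'.sq_cases ha.2 with e' | e'
      · exact e'
      · exact absurd (e'.symm.trans e) O.ne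

theorem left_le_normalizer (O : Orth Q z Q' x) :
    Q ⊓ centralizer ({x} : Set G) ≤ normalizer ((Q' ⊓ centralizer ({z} : Set G) : Subgroup G) : Set G) := by
  refine mem_normalizer_of_conj fun p hp a ha => ⟨conj_mem (O.h'.norm hp.2) ha.1, mem_centralizer_one.2 ?_⟩
  have hpz : Commute p z := O.h.comm hp.1
  exact ((hpz.mul_left (show Commute a z from mem_centralizer_one.1 ha.2)).mul_left hpz.inv_left).eq

theorem comm_mem (O : Orth Q z Q' x) {p a : G} (hp : p ∈ Q ⊓ centralizer ({x} : Set G))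
    (ha : a ∈ Q' ⊓ centralizer ({z} : Set G)) : ⁅p, a⁆ ∈ Q ⊓ Q' := by
  rw [commutatorElement_def]
  refine ⟨?_, (show p * a * p⁻¹ * a⁻¹ ∈ Q' from
    mul_mem (conj_mem (O.h'.norm hp.2) ha.1) (inv_mem (show a ∈ Q' from ha.1)))⟩
  rw [show p * a * p⁻¹ * a⁻¹ = p * (a * p⁻¹ * a⁻¹) by group]
  exact mul_mem hp.1 (conj_mem (O.h.norm ha.2) (inv_mem (show p ∈ Q from hp.1)))

theorem exists_prod (O : Orth Q z Q' x) {r : G} (hr : r ∈ rad Q z Q' x) :
    ∃ a ∈ Q' ⊓ centralizer ({z} : Set G), ∃ p ∈ Q ⊓ centralizer ({x} : Set G), r = a * p := by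
  have h1 := coe_mul_of_right_le_normalizer_left _ _ O.left_le_normalizer
  have h2 : r ∈ ((Q' ⊓ centralizer ({z} : Set G) : Subgroup G) : Set G) *
      ((Q ⊓ centralizer ({x} : Set G) : Subgroup G) : Set G) := by
    rw [← h1]
    exact hr
  obtain ⟨a, ha, p, hp, e⟩ := h2
  exact ⟨a, ha, p, hp, e.symm⟩

theorem rad_le_centralizer (O : Orth Q z Q' x) :
    rad Q z Q' x ≤ centralizer ({z} : Set G) ⊓ centralizer ({x} : Set G) :=
  sup_le (fun _ ha => ⟨ha.2, O.h'.le_centralizer ha.1⟩) (fun _ hp => ⟨O.h.le_centralizer hp.1, hp.2⟩)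

theorem inf_le_rad (O : Orth Q z Q' x) : Q ⊓ Q' ≤ rad Q z Q' x := fun _ he => mem_sup_right (O.inf_le he).1

theorem rad_le_normalizer (O : Orth Q z Q' x) : rad Q z Q' x ≤ normalizer ((Q ⊓ Q' : Subgroup G) : Set G) :=
  mem_normalizer_of_conj fun r hr e he =>
    ⟨conj_mem (O.h.norm (O.rad_le_centralizer hr).1) he.1, conj_mem (O.h'.norm (O.rad_le_centralizer hr).2) he.2⟩

theorem rad_comm (O : Orth Q z Q' x) {r s : G} (hr : r ∈ rad Q z Q' x) (hs : s ∈ rad Q z Q' x) :
    r * s * r⁻¹ * s⁻¹ ∈ Q ⊓ Q' ∧ r ^ 2 ∈ Q ⊓ Q' := by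
  set N := normalizer ((Q ⊓ Q' : Subgroup G) : Set G)
  have hn : ((Q ⊓ Q').subgroupOf N).Normal := normal_in_normalizer
  let π := QuotientGroup.mk' ((Q ⊓ Q').subgroupOf N)
  have hker : ∀ w : N, π w = 1 ↔ (w : G) ∈ Q ⊓ Q' := fun w =>
    (QuotientGroup.eq_one_iff w).trans mem_subgroupOf
  have hzE : z ∈ Q ⊓ Q' := ⟨O.h.mem, O.hz⟩
  have hxE : x ∈ Q ⊓ Q' := ⟨O.hx, O.h'.mem⟩
  have hcomm : ∀ u v : N, (⁅(u : G), (v : G)⁆ ∈ Q ⊓ Q') → Commute (π u) (π v) := fun u v h => by
    rw [commute_iff_eq, ← commutatorElement_eq_one_iff_mul_comm, ← map_commutatorElement, hker]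
    simpa [commutatorElement_def] using h
  have hPl : ∀ u v : N, (u : G) ∈ Q → (v : G) ∈ Q → Commute (π u) (π v) := fun u v hu hv => hcomm u v <| by
    rcases O.h.comm_cases hu hv with e | e <;> rw [e]
    exacts [one_mem _, hzE]
  have hPr : ∀ u v : N, (u : G) ∈ Q' → (v : G) ∈ Q' → Commute (π u) (π v) := fun u v hu hv => hcomm u v <| by
    rcases O.h'.comm_cases hu hv with e | e <;> rw [e]
    exacts [one_mem _, hxE]
  have hsql : ∀ u : N, (u : G) ∈ Q → π u * π u = 1 := fun u hu => by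
    rw [← map_mul, hker]
    rcases O.h.sq_cases hu with e | e <;> rw [coe_mul, e]
    exacts [one_mem _, hzE]
  have hsqr : ∀ u : N, (u : G) ∈ Q' → π u * π u = 1 := fun u hu => by
    rw [← map_mul, hker]
    rcases O.h'.sq_cases hu with e | e <;> rw [coe_mul, e]
    exacts [one_mem _, hxE]
  have hN : ∀ {w}, w ∈ rad Q z Q' x → w ∈ N := fun hw => O.rad_le_normalizer hw
  obtain ⟨a, ha, p, hp, rfl⟩ := O.exists_prod hr
  obtain ⟨b, hb, q, hq, rfl⟩ := O.exists_prod hs
  let a' : N := ⟨a, hN (mem_sup_left ha)⟩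
  let p' : N := ⟨p, hN (mem_sup_right hp)⟩
  let b' : N := ⟨b, hN (mem_sup_left hb)⟩
  let q' : N := ⟨q, hN (mem_sup_right hq)⟩
  have hap : Commute (π p') (π a') := hcomm p' a' (O.comm_mem hp ha)
  have hbp : Commute (π p') (π b') := hcomm p' b' (O.comm_mem hp hb)
  have haq : Commute (π q') (π a') := hcomm q' a' (O.comm_mem hq ha)
  have hab : Commute (π a') (π b') := hPr a' b' ha.1 hb.1
  have hpq : Commute (π p') (π q') := hPl p' q' hp.1 hq.1
  constructor
  · have h1 : Commute (π (a' * p')) (π (b' * q')) := by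
      rw [map_mul, map_mul]
      exact (hab.mul_right haq.symm).mul_left (hbp.mul_right hpq)
    rw [commute_iff_eq, ← commutatorElement_eq_one_iff_mul_comm, ← map_commutatorElement, hker] at h1
    simpa [commutatorElement_def] using h1
  · have h2 : π (a' * p') * π (a' * p') = 1 := by
      rw [map_mul, show π a' * π p' * (π a' * π p') = π a' * (π p' * π a') * π p' by group, hap.eq,
        show π a' * (π a' * π p') * π p' = π a' * π a' * (π p' * π p') by group, hsqr a' ha.1, hsql p' hp.1,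
        one_mul]
    rw [← map_mul, hker] at h2
    simpa [pow_two] using h2

/-- The centralizer of the left part in `C(z)`. -/
theorem centralizer_left (O : Orth Q z Q' x) {c : G} (hcz : c * z = z * c)
    (hc : ∀ p ∈ Q, p * x = x * p → p * c = c * p) : c = 1 ∨ c = z ∨ c = x ∨ c = z * x := by
  obtain ⟨q, hq, e⟩ := O.h.exists_conj O.hx O.h'.ne_one O.ne
  have hcN := O.h.norm (mem_centralizer_one.2 hcz)
  have hx2 : x * x = 1 := O.h'.sq
  have hcx : c * x = x * c := (hc x O.hx rfl).symm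
  obtain ⟨r, hr, hcq⟩ : ∃ r ∈ Q, c * q * c⁻¹ = q * r :=
    ⟨q⁻¹ * (c * q * c⁻¹), mul_mem (inv_mem hq) (conj_mem hcN hq), by group⟩
  have hcr : ∀ p ∈ Q, p * x = x * p → p * r = r * p := by
    intro p hp hpx
    obtain ⟨k, hk, hqp⟩ : ∃ k, (k = 1 ∨ k = z) ∧ q * p * q⁻¹ = p * k := by
      rcases O.h.conj_cases hq hp with e1 | e1
      exacts [⟨1, Or.inl rfl, by rw [e1, mul_one]⟩, ⟨z, Or.inr rfl, e1⟩]
    have hpk : c * (p * k) * c⁻¹ = p * k := by
      rw [show c * (p * k) * c⁻¹ = (c * p * c⁻¹) * (c * k * c⁻¹) by group,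
        XSub.conj_eq_self_iff.2 (hc p hp hpx).symm]
      rcases hk with rfl | rfl
      · group
      · rw [XSub.conj_eq_self_iff.2 hcz]
    have h1 : q * (r * p * r⁻¹) * q⁻¹ = q * p * q⁻¹ := by
      rw [show q * (r * p * r⁻¹) * q⁻¹ = q * r * p * (q * r)⁻¹ by group, ← hcq,
        show c * q * c⁻¹ * p * (c * q * c⁻¹)⁻¹ = c * (q * (c⁻¹ * p * c) * q⁻¹) * c⁻¹ by group,
        show c⁻¹ * p * c = p by rw [mul_assoc, hc p hp hpx, inv_mul_cancel_left], hqp, hpk]
    exact (mul_inv_eq_iff_eq_mul.1 (mul_left_cancel (mul_right_cancel h1))).symm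
  have hqx : q * x = x * z * q := mul_inv_eq_iff_eq_mul.1 e
  have hrz : r = 1 ∨ r = z := by
    rcases O.h.mem_pair_of_commute O.hx hx2 hr hcr with h1 | h1 | h1 | h1
    · exact Or.inl h1
    · exact Or.inr h1
    all_goals exfalso
    all_goals
      have h2 : c * q * c⁻¹ * (c * q * c⁻¹) = q * q := by
        rw [show c * q * c⁻¹ * (c * q * c⁻¹) = c * (q * q) * c⁻¹ by group]
        rcases O.h.sq_cases hq with e1 | e1 <;> rw [e1]
        · group
        · exact XSub.conj_eq_self_iff.2 hcz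
      rw [hcq, h1] at h2
    · refine O.h.ne_mul_z (q * q) ?_
      refine Eq.trans h2.symm ?_
      calc q * x * (q * x) = x * z * q * (q * x) := by rw [hqx]
        _ = x * (z * (q * q)) * x := by group
        _ = (z * (q * q)) * (x * x) := by
            have hq2 : x * (z * (q * q)) = z * (q * q) * x := by
              rcases O.h.sq_cases hq with e1 | e1 <;> rw [e1]
              · rw [mul_one, O.comm]
              · rw [O.h.sq, mul_one, one_mul]
            rw [hq2, mul_assoc]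
        _ = z * (q * q) := by rw [hx2, mul_one]
        _ = q * q * z := (O.h.comm (mul_mem hq hq)).symm
    · refine O.h.ne_mul_z (q * q) ?_
      refine Eq.trans h2.symm ?_
      calc q * (z * x) * (q * (z * x)) = (q * z) * x * (q * z) * x := by group
        _ = z * q * x * (z * q) * x := by rw [O.h.comm hq]
        _ = z * (q * x * z) * (q * x) := by group
        _ = z * (z * (q * x)) * (q * x) := by rw [O.h.comm (mul_mem hq O.hx)]
        _ = q * x * (q * x) := by rw [← mul_assoc z z, O.h.sq, one_mul]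
        _ = x * z * q * (q * x) := by rw [hqx]
        _ = x * (z * (q * q)) * x := by group
        _ = (z * (q * q)) * (x * x) := by
            have hq2 : x * (z * (q * q)) = z * (q * q) * x := by
              rcases O.h.sq_cases hq with e1 | e1 <;> rw [e1]
              · rw [mul_one, O.comm]
              · rw [O.h.sq, mul_one, one_mul]
            rw [hq2, mul_assoc]
        _ = z * (q * q) := by rw [hx2, mul_one]
        _ = q * q * z := (O.h.comm (mul_mem hq hq)).symm
  have key : ∀ d : G, d * z = z * d → d * q = q * d → (∀ p ∈ Q, p * x = x * p → p * d = d * p) →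
      d = 1 ∨ d = z := by
    intro d hdz hdq hdp
    refine O.h.mem_zpowers_iff.1 (O.h.cent fun u hu => ?_)
    rcases O.h.conj_cases hu O.hx with e1 | e1
    · exact hdp u hu (mul_inv_eq_iff_eq_mul.1 e1)
    · have h3 : q⁻¹ * u * x * (q⁻¹ * u)⁻¹ = x := by
        rw [show q⁻¹ * u * x * (q⁻¹ * u)⁻¹ = q⁻¹ * (u * x * u⁻¹) * q by group, e1, ← e]
        group
      have h4 := hdp _ (mul_mem (inv_mem hq) hu) (mul_inv_eq_iff_eq_mul.1 h3)
      calc u * d = q * (q⁻¹ * u * d) := by group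
        _ = q * (d * (q⁻¹ * u)) := by rw [h4]
        _ = d * u := by rw [← mul_assoc, ← hdq]; group
  rcases hrz with h0 | h0 <;> rw [h0] at hcq
  · rw [mul_one] at hcq
    exact (key c hcz (mul_inv_eq_iff_eq_mul.1 hcq) hc).elim Or.inl fun h1 => Or.inr (Or.inl h1)
  · have h5 : c * x * q = q * (c * x) := by
      have : x * q = q * z * x := by
        rw [O.h.comm hq, mul_assoc, hqx, ← mul_assoc, ← mul_assoc z x z, O.comm, mul_assoc x z z, O.h.sq,
          mul_one]
      rw [mul_inv_eq_iff_eq_mul] at hcq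
      rw [mul_assoc c x q, this, ← mul_assoc, ← mul_assoc c q z, hcq, mul_assoc (q * z) c z, hcz,
        ← mul_assoc, mul_assoc q z z, O.h.sq, mul_one, mul_assoc]
    rcases key (c * x) (by rw [mul_assoc, ← O.comm, ← mul_assoc, hcz, mul_assoc]) h5 (fun p hp hpx => by
        rw [← mul_assoc, hc p hp hpx, mul_assoc, hpx, ← mul_assoc]) with h1 | h1
    · right; right; left
      rw [eq_inv_of_mul_eq_one_left h1, inv_eq_of_mul_eq_one_right hx2]
    · right; right; right
      rw [← h1, mul_assoc, hx2, mul_one]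

/-- The left subgroup normalizes the radical. -/
theorem left_le_normalizer_rad (O : Orth Q z Q' x) : Q ≤ normalizer (rad Q z Q' x : Set G) := by
  refine mem_normalizer_of_conj fun q hq r hr => ?_
  obtain ⟨a, ha, p, hp, rfl⟩ := O.exists_prod hr
  rw [show q * (a * p) * q⁻¹ = q * a * q⁻¹ * a⁻¹ * a * (q * p * q⁻¹) by group]
  have hz' : z ∈ Q ⊓ centralizer ({x} : Set G) := ⟨O.h.mem, mem_centralizer_one.2 O.comm⟩
  refine mul_mem (mul_mem (mem_sup_right ⟨?_, mem_centralizer_one.2 ?_⟩) (mem_sup_left ha)) (mem_sup_right ?_)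
  · rw [show q * a * q⁻¹ * a⁻¹ = q * (a * q⁻¹ * a⁻¹) by group]
    exact mul_mem hq (conj_mem (O.h.norm ha.2) (inv_mem hq))
  · refine mul_inv_eq_iff_eq_mul.1 ?_
    have hax : a⁻¹ * x * a = x := by rw [mul_assoc, ← O.h'.comm ha.1, inv_mul_cancel_left]
    have h1 : a * (q⁻¹ * x * q) * a⁻¹ = q⁻¹ * x * q := by
      have haz : a * z * a⁻¹ = z := XSub.conj_eq_self_iff.2 (mem_centralizer_one.1 ha.2)
      have hxa : a * x * a⁻¹ = x := XSub.conj_eq_self_iff.2 (O.h'.comm ha.1)
      rcases O.h.conj_cases (inv_mem hq) O.hx with e1 | e1 <;> rw [inv_inv] at e1 <;> rw [e1]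
      · exact hxa
      · rw [show a * (x * z) * a⁻¹ = a * x * a⁻¹ * (a * z * a⁻¹) by group, hxa, haz]
    calc q * a * q⁻¹ * a⁻¹ * x * (q * a * q⁻¹ * a⁻¹)⁻¹ = q * (a * (q⁻¹ * (a⁻¹ * x * a) * q) * a⁻¹) * q⁻¹ := by
          group
      _ = x := by rw [hax, h1]; group
  · rcases O.h.conj_cases hq hp.1 with e1 | e1 <;> rw [e1]
    exacts [hp, mul_mem hp hz']

theorem right_le_normalizer_rad (O : Orth Q z Q' x) : Q' ≤ normalizer (rad Q z Q' x : Set G) :=
  O.rad_swap ▸ O.swap.left_le_normalizer_rad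

theorem rad_isPGroup (O : Orth Q z Q' x) : IsPGroup 2 (rad Q z Q' x) := by
  rw [rad, sup_comm]
  exact IsPGroup.to_sup_of_normal_right' (O.h.xs.1.1.to_le inf_le_left) (O.h'.xs.1.1.to_le inf_le_left)
    O.left_le_normalizer

end Orth

theorem Pair.orth {Q : Subgroup G} {z g : G} (P : Pair Q z g) :
    Orth Q z (Q.map (MulAut.conj g).toMonoidHom) (g * z * g⁻¹) := ⟨P.h, P.h', P.mem, P.z_mem', P.ne⟩

/-- A conjugate of `Q` depends only on the conjugate of `z`. -/
theorem XSLocal.map_conj_eq {Q : Subgroup G} {z : G} (h : XSLocal Q z) {a b : G}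
    (e : a * z * a⁻¹ = b * z * b⁻¹) :
    Q.map (MulAut.conj a).toMonoidHom = Q.map (MulAut.conj b).toMonoidHom := by
  have hn : b⁻¹ * a ∈ normalizer (Q : Set G) := h.norm <| mem_centralizer_one.2 <| by
    calc b⁻¹ * a * z = b⁻¹ * (a * z * a⁻¹) * a := by group
      _ = b⁻¹ * (b * z * b⁻¹) * a := by rw [e]
      _ = z * (b⁻¹ * a) := by group
  ext w
  rw [mem_conjMap, mem_conjMap, mem_normalizer_iff.1 hn (a⁻¹ * w * a),
    show b⁻¹ * a * (a⁻¹ * w * a) * (b⁻¹ * a)⁻¹ = b⁻¹ * w * b by group]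

namespace Pair

variable {Q : Subgroup G} {z g : G}

theorem rad_le_four_centralizer (P : Pair Q z g) :
    rad Q z (Q.map (MulAut.conj g).toMonoidHom) (g * z * g⁻¹) ≤ centralizer (four z g : Set G) := fun _ hr =>
  P.centralizer_four.2 ⟨mem_centralizer_one.1 (P.orth.rad_le_centralizer hr).1,
    mem_centralizer_one.1 (P.orth.rad_le_centralizer hr).2⟩

theorem inf_centralizer_le (P : Pair Q z g) :
    (Q ⊔ Q.map (MulAut.conj g).toMonoidHom) ⊓ centralizer (four z g : Set G) ≤
      rad Q z (Q.map (MulAut.conj g).toMonoidHom) (g * z * g⁻¹) := by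
  set Q' := Q.map (MulAut.conj g).toMonoidHom
  set R := rad Q z Q' (g * z * g⁻¹)
  have O := P.orth
  obtain ⟨q, y, hq, hy, q1, q2, y1, y2, sq2, sy2, nq, ny, hne⟩ := P.exists_transpositions
  set N := normalizer (R : Set G)
  have hqN : (q : G) ∈ N := O.left_le_normalizer_rad hq
  have hyN : (y : G) ∈ N := O.right_le_normalizer_rad hy
  -- the braid relation modulo R
  have hbraid : (q : G) * y * (q : G)⁻¹ * ((y : G) * q * (y : G)⁻¹)⁻¹ ∈ R := by
    set d := (q : G) * y * (q : G)⁻¹ * ((y : G) * q * (y : G)⁻¹)⁻¹ with hd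
    have h1 : (q : G)⁻¹ * d * q ∈ Q' := by
      have he : (q : G) * g * z * ((q : G) * g)⁻¹ = (y : G) * z * (y : G)⁻¹ := by
        rw [y2, ← q2]; group
      have h2 : (y : G) * q * (y : G)⁻¹ ∈ Q.map (MulAut.conj ((q : G) * g)).toMonoidHom :=
        P.h.map_conj_eq he ▸ conj_mem_conjMap hq
      rw [mem_conjMap] at h2
      have h3 : (q : G)⁻¹ * ((y : G) * q * (y : G)⁻¹) * q ∈ Q' := mem_conjMap.2 (by
        rwa [show g⁻¹ * ((q : G)⁻¹ * ((y : G) * q * (y : G)⁻¹) * q) * g =
          ((q : G) * g)⁻¹ * ((y : G) * q * (y : G)⁻¹) * ((q : G) * g) by group])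
      rw [hd, show (q : G)⁻¹ * ((q : G) * y * (q : G)⁻¹ * ((y : G) * q * (y : G)⁻¹)⁻¹) * q =
        (y : G) * ((q : G)⁻¹ * ((y : G) * q * (y : G)⁻¹) * q)⁻¹ by group]
      exact mul_mem hy (inv_mem h3)
    have h4 : P.perm (q * y * q⁻¹ * (y * q * y⁻¹)⁻¹) = 1 := by
      have hb : P.perm q * P.perm y * P.perm q = P.perm y * P.perm q * P.perm y := by
        generalize P.perm q = a at *
        generalize P.perm y = b at *
        revert a b
        decide
      have hqi : (P.perm q)⁻¹ = P.perm q := inv_eq_of_mul_eq_one_right sq2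
      have hyi : (P.perm y)⁻¹ = P.perm y := inv_eq_of_mul_eq_one_right sy2
      rw [map_mul, map_inv, map_mul, map_mul, map_mul, map_mul, map_inv, map_inv, hqi, hyi, hb, mul_inv_cancel]
    rw [P.perm_eq_one_iff, P.centralizer_four] at h4
    have hdz : d * z = z * d := h4.1
    have h5 : (q : G)⁻¹ * d * q ∈ Q' ⊓ centralizer ({z} : Set G) := by
      refine ⟨h1, mem_centralizer_one.2 ?_⟩
      have hqz : (q : G) * z = z * q := mul_inv_eq_iff_eq_mul.1 q1
      calc (q : G)⁻¹ * d * q * z = (q : G)⁻¹ * d * ((q : G) * z) := by group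
        _ = (q : G)⁻¹ * (d * z) * q := by rw [hqz]; group
        _ = (q : G)⁻¹ * (z * q) * ((q : G)⁻¹ * d * q) := by rw [hdz]; group
        _ = z * ((q : G)⁻¹ * d * q) := by rw [← hqz]; group
    have h6 := conj_mem hqN (show (q : G)⁻¹ * d * q ∈ R from mem_sup_left h5)
    rwa [show (q : G) * ((q : G)⁻¹ * d * q) * (q : G)⁻¹ = d by group] at h6
  -- the quotient
  have hn : (R.subgroupOf N).Normal := normal_in_normalizer
  let π := QuotientGroup.mk' (R.subgroupOf N)
  have hker : ∀ w : N, π w = 1 ↔ (w : G) ∈ R := fun w => (QuotientGroup.eq_one_iff w).trans mem_subgroupOf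
  let a : N := ⟨q, hqN⟩
  let b : N := ⟨y, hyN⟩
  have hsq : π a * π a = 1 := by
    rw [← map_mul, hker]
    rcases P.h.sq_cases hq with e | e <;> simp only [coe_mul, a] <;> rw [e]
    exacts [one_mem _, O.inf_le_rad ⟨P.h.mem, P.z_mem'⟩]
  have hsb : π b * π b = 1 := by
    rw [← map_mul, hker]
    rcases P.h'.sq_cases hy with e | e <;> simp only [coe_mul, b] <;> rw [e]
    exacts [one_mem _, O.inf_le_rad ⟨P.mem, P.h'.mem⟩]
  have hai : (π a)⁻¹ = π a := inv_eq_of_mul_eq_one_right hsq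
  have hbi : (π b)⁻¹ = π b := inv_eq_of_mul_eq_one_right hsb
  have hab : π a * π b * π a = π b * π a * π b := by
    have h1 : π (a * b * a⁻¹ * (b * a * b⁻¹)⁻¹) = 1 := (hker _).2 hbraid
    rw [map_mul, map_inv, map_mul, map_mul, map_mul, map_mul, map_inv, map_inv, hai, hbi, mul_inv_eq_one] at h1
    exact h1
  have hX : Q ⊔ Q' ≤ (((closure ({π a, π b} : Set (N ⧸ R.subgroupOf N))).comap π).map N.subtype) := by
    refine sup_le (fun w hw => ?_) (fun w hw => ?_)
    · refine ⟨⟨w, O.left_le_normalizer_rad hw⟩, ?_, rfl⟩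
      show π _ ∈ closure ({π a, π b} : Set (N ⧸ R.subgroupOf N))
      rcases P.h.conj_cases hw P.mem with e | e
      · rw [(hker ⟨w, O.left_le_normalizer_rad hw⟩).2 (mem_sup_right ⟨hw, mem_centralizer_one.2 (by exact mul_inv_eq_iff_eq_mul.1 e)⟩)]
        exact one_mem _
      · have h1 : π (a⁻¹ * ⟨w, O.left_le_normalizer_rad hw⟩) = 1 := by
          refine (hker _).2 (mem_sup_right ⟨(show (q : G)⁻¹ * w ∈ Q from mul_mem (inv_mem hq) hw),
            mem_centralizer_one.2 (mul_inv_eq_iff_eq_mul.1 ?_)⟩)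
          show (q : G)⁻¹ * w * (g * z * g⁻¹) * ((q : G)⁻¹ * w)⁻¹ = _
          rw [show (q : G)⁻¹ * w * (g * z * g⁻¹) * ((q : G)⁻¹ * w)⁻¹ =
            (q : G)⁻¹ * (w * (g * z * g⁻¹) * w⁻¹) * q by group, e, ← P.comm, ← q2]
          group
        rw [map_mul, map_inv, inv_mul_eq_one] at h1
        rw [← h1]
        exact subset_closure (by simp)
    · refine ⟨⟨w, O.right_le_normalizer_rad hw⟩, ?_, rfl⟩
      show π _ ∈ closure ({π a, π b} : Set (N ⧸ R.subgroupOf N))
      rcases P.h'.conj_cases hw P.z_mem' with e | e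
      · rw [(hker ⟨w, O.right_le_normalizer_rad hw⟩).2 (mem_sup_left ⟨hw, mem_centralizer_one.2 (by exact mul_inv_eq_iff_eq_mul.1 e)⟩)]
        exact one_mem _
      · have h1 : π (b⁻¹ * ⟨w, O.right_le_normalizer_rad hw⟩) = 1 := by
          refine (hker _).2 (mem_sup_left ⟨(show (y : G)⁻¹ * w ∈ Q' from mul_mem (inv_mem hy) hw),
            mem_centralizer_one.2 (mul_inv_eq_iff_eq_mul.1 ?_)⟩)
          show (y : G)⁻¹ * w * z * ((y : G)⁻¹ * w)⁻¹ = _
          rw [show (y : G)⁻¹ * w * z * ((y : G)⁻¹ * w)⁻¹ = (y : G)⁻¹ * (w * z * w⁻¹) * y by group, e, ← y2]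
          group
        rw [map_mul, map_inv, inv_mul_eq_one] at h1
        rw [← h1]
        exact subset_closure (by simp)
  rintro h ⟨hh, hc⟩
  obtain ⟨h', hh', rfl⟩ := hX hh
  have hperm : ∀ w : N, π w = π h' → ∀ v : normalizer (four z g : Set G), (v : G) = w → P.perm v = 1 := by
    intro w hw v hv
    rw [P.perm_eq_one_iff, hv]
    have h1 : (w⁻¹ * h' : N).1 ∈ R := (hker _).1 (by rw [map_mul, map_inv, hw, inv_mul_cancel])
    have h2 := mul_mem (show N.subtype h' ∈ centralizer (four z g : Set G) from hc)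
      (inv_mem (P.rad_le_four_centralizer h1))
    simpa using h2
  obtain ⟨n1, n2, n3⟩ := perm_three_six _ _ sq2 sy2 nq ny hne
  refine (hker h').1 ?_
  rcases six_gen hsq hsb hab hh' with e | e | e | e | e | e
  · exact e
  · exact absurd (hperm a e.symm q rfl) nq
  · exact absurd (hperm b e.symm y rfl) ny
  · exact absurd (map_mul P.perm q y ▸ hperm (a * b) (by rw [map_mul, e]) (q * y) rfl) n1
  · exact absurd (map_mul P.perm y q ▸ hperm (b * a) (by rw [map_mul, e]) (y * q) rfl) n2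
  · refine absurd ?_ n3
    rw [← map_mul, ← map_mul]
    exact hperm (a * b * a) (by rw [map_mul, map_mul, e]) (q * y * q) rfl

theorem rad_eq (P : Pair Q z g) :
    rad Q z (Q.map (MulAut.conj g).toMonoidHom) (g * z * g⁻¹) =
      (Q ⊔ Q.map (MulAut.conj g).toMonoidHom) ⊓ centralizer (four z g : Set G) :=
  le_antisymm (le_inf (sup_le (inf_le_left.trans le_sup_right) (inf_le_left.trans le_sup_left))
    P.rad_le_four_centralizer) P.inf_centralizer_le

theorem join_le_normalizer (P : Pair Q z g) :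
    Q ⊔ Q.map (MulAut.conj g).toMonoidHom ≤ normalizer (four z g : Set G) :=
  sup_le P.le_normalizer_left P.le_normalizer_right

theorem four_le (P : Pair Q z g) : four z g ≤ Q ⊓ Q.map (MulAut.conj g).toMonoidHom :=
  (closure_le _).2 (by rintro _ (rfl | rfl); exacts [⟨P.h.mem, P.z_mem'⟩, ⟨P.mem, P.h'.mem⟩])

end Pair

end Cfsg.Agent.LargeExtra
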