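import Cfsg.Agent.Lib.LargeExtra.Setting

/-!
Two orthogonal conjugates of the central involution of an extraspecial subgroup.
-/

set_option autoImplicit false
set_option linter.unusedSectionVars false
set_option linter.style.haveILetI false

namespace Cfsg.Agent.LargeExtra

open Subgroup

variable {G : Type*} [Group G] [Finite G]

set_option maxRecDepth 10000 in
theorem perm_three_gen : ∀ a b : Equiv.Perm (Fin 3), a * a = 1 → b * b = 1 → a ≠ 1 → b ≠ 1 → a ≠ b →
    ∀ p : Equiv.Perm (Fin 3), p = 1 ∨ p = a ∨ p = b ∨ p = a * b ∨ p = b * a ∨ p = a * b * a := by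
  decide

set_option maxRecDepth 10000 in
theorem perm_three_six : ∀ a b : Equiv.Perm (Fin 3), a * a = 1 → b * b = 1 → a ≠ 1 → b ≠ 1 → a ≠ b →
    a * b ≠ 1 ∧ b * a ≠ 1 ∧ a * b * a ≠ 1 := by
  decide

set_option maxRecDepth 10000 in
theorem perm_three_conj : ∀ σ : Equiv.Perm (Fin 3), σ * σ = 1 → σ ≠ 1 →
    ∃ τ : Equiv.Perm (Fin 3), (σ * (τ * σ * τ⁻¹)) ^ 3 = 1 ∧ σ * (τ * σ * τ⁻¹) ≠ 1 := by
  decide

/-- A normal 2-subgroup of the symmetric group of degree three is trivial. -/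
theorem perm_three_core {N : Subgroup (Equiv.Perm (Fin 3))} (hn : N.Normal) (hp : IsPGroup 2 N) : N = ⊥ := by
  by_contra hne
  haveI : Fact (Nat.Prime 2) := ⟨Nat.prime_two⟩
  haveI : Nontrivial N := (nontrivial_iff_ne_bot _).2 hne
  obtain ⟨k, hk, hc⟩ := hp.nontrivial_iff_card.1 inferInstance
  obtain ⟨⟨σ, hσ⟩, ho⟩ := exists_prime_orderOf_dvd_card' 2 (hc ▸ dvd_pow_self 2 (Nat.pos_iff_ne_zero.1 hk))
  rw [← orderOf_coe] at ho
  obtain ⟨τ, h3, hne'⟩ := perm_three_conj σ (by rw [← pow_two, ← ho]; exact pow_orderOf_eq_one σ)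
    (fun e => by
      have : orderOf σ = 1 := orderOf_eq_one_iff.2 e
      rw [show orderOf σ = 2 from ho] at this
      omega)
  have hm : σ * (τ * σ * τ⁻¹) ∈ N := mul_mem hσ (hn.conj_mem σ hσ τ)
  obtain ⟨j, hj⟩ := hp ⟨_, hm⟩
  refine hne' (orderOf_eq_one_iff.1 ?_)
  exact Nat.eq_one_of_dvd_coprimes ((by decide : Nat.Coprime 2 3).pow_left j)
    (orderOf_dvd_of_pow_eq_one (by simpa [Subtype.ext_iff] using hj)) (orderOf_dvd_of_pow_eq_one h3)

/-- The setting of a conjugate of `z` other than `z` in `Q`. -/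
structure Pair (Q : Subgroup G) (z g : G) : Prop where
  h : XSLocal Q z
  card : 32 ≤ Nat.card Q
  mem : g * z * g⁻¹ ∈ Q
  ne : g * z * g⁻¹ ≠ z

/-- The four-group. -/
def four (z g : G) : Subgroup G := closure ({z, g * z * g⁻¹} : Set G)

/-- The non-identity elements of the four-group. -/
abbrev Pts (z g : G) : Type _ := {v : G // v ∈ four z g ∧ v ≠ 1}

namespace Pair

variable {Q : Subgroup G} {z g : G}

theorem h' (P : Pair Q z g) : XSLocal (Q.map (MulAut.conj g).toMonoidHom) (g * z * g⁻¹) := P.h.conj g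

theorem comm (P : Pair Q z g) : z * (g * z * g⁻¹) = g * z * g⁻¹ * z := (P.h.comm P.mem).symm

theorem mem_four (P : Pair Q z g) {v : G} :
    v ∈ four z g ↔ v = 1 ∨ v = z ∨ v = g * z * g⁻¹ ∨ v = z * (g * z * g⁻¹) :=
  mem_closure_pair P.h.sq P.h'.sq P.comm

theorem z_mem' (P : Pair Q z g) : z ∈ Q.map (MulAut.conj g).toMonoidHom := P.h.mem_conj P.card P.mem P.ne

theorem exists_left (P : Pair Q z g) : ∃ q ∈ Q, q * z * q⁻¹ = z ∧ q * (g * z * g⁻¹) * q⁻¹ = z * (g * z * g⁻¹) := by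
  obtain ⟨q, hq, e⟩ := P.h.exists_conj P.mem P.h'.ne_one P.ne
  exact ⟨q, hq, by rw [P.h.comm hq, mul_inv_cancel_right], by rw [e, P.comm]⟩

theorem exists_right (P : Pair Q z g) : ∃ y ∈ Q.map (MulAut.conj g).toMonoidHom,
    y * (g * z * g⁻¹) * y⁻¹ = g * z * g⁻¹ ∧ y * z * y⁻¹ = z * (g * z * g⁻¹) := by
  obtain ⟨y, hy, e⟩ := P.h'.exists_conj P.z_mem' P.h.ne_one P.ne.symm
  exact ⟨y, hy, by rw [P.h'.comm hy, mul_inv_cancel_right], e⟩

theorem mul_ne_one (P : Pair Q z g) : z * (g * z * g⁻¹) ≠ 1 := fun e =>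
  P.ne ((inv_eq_of_mul_eq_one_right e).symm.trans P.h.inv_eq)

theorem pts_card (P : Pair Q z g) : Nat.card (Pts z g) = 3 := by
  have hs : {v : G | v ∈ four z g ∧ v ≠ 1} = {z, g * z * g⁻¹, z * (g * z * g⁻¹)} := by
    ext v
    simp only [Set.mem_ofPred_eq, P.mem_four, Set.mem_insert_iff, Set.mem_singleton_iff]
    constructor
    · rintro ⟨rfl | h, hv⟩
      exacts [absurd rfl hv, h]
    · rintro (rfl | rfl | rfl)
      exacts [⟨Or.inr (Or.inl rfl), P.h.ne_one⟩, ⟨Or.inr (Or.inr (Or.inl rfl)), P.h'.ne_one⟩,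
        ⟨Or.inr (Or.inr (Or.inr rfl)), P.mul_ne_one⟩]
  show Nat.card {v : G | v ∈ four z g ∧ v ≠ 1} = 3
  rw [Nat.card_coe_set_eq, hs, Set.ncard_insert_of_notMem (by simp [P.ne.symm, P.h'.ne_one]) (Set.toFinite _),
    Set.ncard_pair (fun e => P.h.ne_one (mul_eq_right.1 e.symm))]

theorem centralizer_four (P : Pair Q z g) {c : G} : c ∈ centralizer (four z g : Set G) ↔
    c * z = z * c ∧ c * (g * z * g⁻¹) = g * z * g⁻¹ * c := by
  rw [four, centralizer_closure, mem_centralizer_iff]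
  simp only [Set.mem_insert_iff, Set.mem_singleton_iff, forall_eq_or_imp, forall_eq]
  exact ⟨fun h => ⟨h.1.symm, h.2.symm⟩, fun h => ⟨h.1.symm, h.2.symm⟩⟩

end Pair

section Action

variable (z g : G)

instance ptsAction : MulAction (normalizer (four z g : Set G)) (Pts z g) where
  smul n v := ⟨(n : G) * v * (n : G)⁻¹, conj_mem n.2 v.2.1, fun e => v.2.2 (conj_eq_one_iff.1 e)⟩
  one_smul v := Subtype.ext (show (1 : G) * v * (1 : G)⁻¹ = v by group)
  mul_smul a b v := Subtype.ext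
    (show (a : G) * b * v * ((a : G) * b)⁻¹ = a * ((b : G) * v * (b : G)⁻¹) * (a : G)⁻¹ by group)

theorem ptsAction_smul (n : normalizer (four z g : Set G)) (v : Pts z g) :
    ((n • v : Pts z g) : G) = (n : G) * v * (n : G)⁻¹ := rfl

end Action

namespace Pair

variable {Q : Subgroup G} {z g : G}

/-- The action on the three non-identity elements. -/
noncomputable def perm (P : Pair Q z g) : normalizer (four z g : Set G) →* Equiv.Perm (Fin 3) :=
  (Finite.equivFinOfCardEq P.pts_card).permCongrHom.toMonoidHom.comp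
    (MulAction.toPermHom (normalizer (four z g : Set G)) (Pts z g))

theorem perm_eq_iff (P : Pair Q z g) {a b : normalizer (four z g : Set G)} :
    P.perm a = P.perm b ↔ ∀ v ∈ four z g, (a : G) * v * (a : G)⁻¹ = b * v * (b : G)⁻¹ := by
  rw [perm, MonoidHom.comp_apply, MonoidHom.comp_apply]
  show _root_.DFunLike.coe (Finite.equivFinOfCardEq P.pts_card).permCongrHom _ =
    _root_.DFunLike.coe (Finite.equivFinOfCardEq P.pts_card).permCongrHom _ ↔ _
  rw [EmbeddingLike.apply_eq_iff_eq]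
  constructor
  · intro h v hv
    by_cases h1 : v = 1
    · subst h1; group
    · exact congrArg Subtype.val (Equiv.ext_iff.1 h ⟨v, hv, h1⟩)
  · exact fun h => Equiv.ext fun v => Subtype.ext (h v v.2.1)

theorem perm_eq_one_iff (P : Pair Q z g) {a : normalizer (four z g : Set G)} :
    P.perm a = 1 ↔ (a : G) ∈ centralizer (four z g : Set G) := by
  rw [← map_one P.perm, P.perm_eq_iff, mem_centralizer_iff]
  simp only [OneMemClass.coe_one, one_mul, inv_one, mul_one, mul_inv_eq_iff_eq_mul]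
  exact ⟨fun h v hv => (h v hv).symm, fun h v hv => (h v hv).symm⟩

theorem le_normalizer_left (P : Pair Q z g) : Q ≤ normalizer (four z g : Set G) := by
  refine (le_normalizer_iff_commutator_le_left).2 (commutator_le.2 fun v hv q hq => ?_)
  have hvQ : v ∈ Q := (closure_le _).2 (by rintro u (rfl | rfl); exacts [P.h.mem, P.mem]) hv
  rcases P.h.comm_cases hvQ hq with e | e <;> rw [e]
  exacts [one_mem _, subset_closure (by simp)]

theorem le_normalizer_right (P : Pair Q z g) :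
    Q.map (MulAut.conj g).toMonoidHom ≤ normalizer (four z g : Set G) := by
  refine (le_normalizer_iff_commutator_le_left).2 (commutator_le.2 fun v hv q hq => ?_)
  have hvQ : v ∈ Q.map (MulAut.conj g).toMonoidHom :=
    (closure_le _).2 (by rintro u (rfl | rfl); exacts [P.z_mem', P.h'.mem]) hv
  rcases P.h'.comm_cases hvQ hq with e | e <;> rw [e]
  exacts [one_mem _, subset_closure (by simp)]

/-- Elements inducing the two transpositions. -/
theorem exists_transpositions (P : Pair Q z g) : ∃ q y : normalizer (four z g : Set G),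
    (q : G) ∈ Q ∧ (y : G) ∈ Q.map (MulAut.conj g).toMonoidHom ∧
    (q : G) * z * (q : G)⁻¹ = z ∧ (q : G) * (g * z * g⁻¹) * (q : G)⁻¹ = z * (g * z * g⁻¹) ∧
    (y : G) * (g * z * g⁻¹) * (y : G)⁻¹ = g * z * g⁻¹ ∧ (y : G) * z * (y : G)⁻¹ = z * (g * z * g⁻¹) ∧
    P.perm q * P.perm q = 1 ∧ P.perm y * P.perm y = 1 ∧ P.perm q ≠ 1 ∧ P.perm y ≠ 1 ∧ P.perm q ≠ P.perm y := by
  obtain ⟨q, hq, q1, q2⟩ := P.exists_left
  obtain ⟨y, hy, y1, y2⟩ := P.exists_right
  refine ⟨⟨q, P.le_normalizer_left hq⟩, ⟨y, P.le_normalizer_right hy⟩, hq, hy, q1, q2, y1, y2, ?_, ?_, ?_, ?_, ?_⟩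
  · rw [← map_mul, P.perm_eq_one_iff, P.centralizer_four]
    show q * q * z = z * (q * q) ∧ q * q * (g * z * g⁻¹) = g * z * g⁻¹ * (q * q)
    rcases P.h.sq_cases hq with e | e <;> rw [e]
    exacts [⟨by group, by group⟩, ⟨rfl, P.comm⟩]
  · rw [← map_mul, P.perm_eq_one_iff, P.centralizer_four]
    show y * y * z = z * (y * y) ∧ y * y * (g * z * g⁻¹) = g * z * g⁻¹ * (y * y)
    rcases P.h'.sq_cases hy with e | e <;> rw [e]
    exacts [⟨by group, by group⟩, ⟨P.comm.symm, rfl⟩]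
  · rw [Ne, P.perm_eq_one_iff, P.centralizer_four]
    rintro ⟨-, e⟩
    have e2 := XSub.conj_eq_self_iff.2 (show q * (g * z * g⁻¹) = g * z * g⁻¹ * q from e)
    rw [q2] at e2
    exact P.h.ne_one (mul_eq_right.1 e2)
  · rw [Ne, P.perm_eq_one_iff, P.centralizer_four]
    rintro ⟨e, -⟩
    have e2 := XSub.conj_eq_self_iff.2 (show y * z = z * y from e)
    rw [y2] at e2
    exact P.h'.ne_one (mul_eq_left.1 e2)
  · rw [Ne, P.perm_eq_iff]
    intro e
    have e2 := e z (subset_closure (by simp))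
    simp only at e2
    rw [q1, y2] at e2
    exact P.h'.ne_one (mul_eq_left.1 e2.symm)

theorem perm_surjective (P : Pair Q z g) {X : Subgroup G} (hX : Q ⊔ Q.map (MulAut.conj g).toMonoidHom ≤ X) :
    ∀ p, ∃ a : normalizer (four z g : Set G), (a : G) ∈ X ∧ P.perm a = p := by
  obtain ⟨q, y, hq, hy, -, -, -, -, q2, y2, q1, y1, hne⟩ := P.exists_transpositions
  have hqX : (q : G) ∈ X := hX (mem_sup_left hq)
  have hyX : (y : G) ∈ X := hX (mem_sup_right hy)
  intro p
  rcases perm_three_gen _ _ q2 y2 q1 y1 hne p with rfl | rfl | rfl | rfl | rfl | rfl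
  exacts [⟨1, one_mem X, map_one _⟩, ⟨q, hqX, rfl⟩, ⟨y, hyX, rfl⟩, ⟨q * y, mul_mem hqX hyX, map_mul _ _ _⟩,
    ⟨y * q, mul_mem hyX hqX, map_mul _ _ _⟩,
    ⟨q * y * q, mul_mem (mul_mem hqX hyX) hqX, by rw [map_mul, map_mul]⟩]

theorem relIndex_eq (P : Pair Q z g) :
    (centralizer (four z g : Set G)).relIndex (normalizer (four z g : Set G)) = 6 := by
  have hk : (centralizer (four z g : Set G)).subgroupOf (normalizer (four z g : Set G)) = P.perm.ker := by
    ext a
    rw [mem_subgroupOf, MonoidHom.mem_ker, P.perm_eq_one_iff]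
  rw [relIndex, hk, index_ker, MonoidHom.range_eq_top.2 fun p =>
    (P.perm_surjective le_rfl p).imp fun a ha => ha.2, card_top]
  rw [Nat.card_perm]; simp [Nat.factorial]

theorem large (P : Pair Q z g) : IsLargeExtraspecial Q :=
  P.h.large_of_core P.mem P.h'.sq P.h'.ne_one P.ne _ P.h'.xs.1.1 P.z_mem' P.h'.norm

end Pair

end Cfsg.Agent.LargeExtra
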