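import Cfsg.Agent.Lib.LargeExtra.Basic
import Cfsg.Agent.Lib.Components.FStar
import Cfsg.Agent.Lib.FiniteGroup.FittingPow

/-!
Ways into the setting of `LargeExtra.Basic`: the generalized Fitting subgroup or the 2-core of an involution
centralizer; normal subgroups of a group with a large extraspecial 2-subgroup.
-/

set_option autoImplicit false
set_option linter.unusedSectionVars false
set_option linter.style.haveILetI false

namespace Cfsg.Agent.LargeExtra

open Subgroup

variable {G : Type*} [Group G] [Finite G]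

theorem XSLocal.of_core {Q : Subgroup G} {z : G} (hz : orderOf z = 2) (hE : IsExtraspecial 2 Q) (hzQ : z ∈ Q)
    (hQC : Q ≤ centralizer ({z} : Set G)) (hC : centralizer (Q : Set G) ≤ Q)
    (hn : centralizer ({z} : Set G) ≤ normalizer (Q : Set G)) : XSLocal Q z := by
  have hc : (⟨z, hzQ⟩ : Q) ∈ center Q :=
    mem_center_iff.2 fun q => Subtype.ext (mem_centralizer_one.1 (hQC q.2))
  have hZ : (center Q).map Q.subtype = zpowers z := by
    symm
    refine eq_of_le_of_card_ge (zpowers_le.2 ⟨_, hc, rfl⟩) ?_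
    rw [card_map_of_injective Q.subtype_injective, hE.2, Nat.card_zpowers, hz]
  refine ⟨⟨hE, hZ⟩, fun c hc' => ?_, hn⟩
  exact hZ ▸ ⟨⟨c, hC hc'⟩, mem_center_iff.2 fun q => Subtype.ext (mem_centralizer_iff.1 hc' q q.2), rfl⟩

theorem XSLocal.of_fstar {Q : Subgroup G} {z : G} (hz : orderOf z = 2)
    (hF : (generalizedFittingSubgroup ↥(centralizer ({z} : Set G))).map
      (centralizer ({z} : Set G)).subtype = Q)
    (hE : IsExtraspecial 2 Q) : XSLocal Q z := by
  subst hF
  set C := centralizer ({z} : Set G) with hC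
  set F := generalizedFittingSubgroup C
  have hQC : F.map C.subtype ≤ C := map_subtype_le F
  have hzC : z ∈ C := mem_centralizer_one.2 rfl
  have hzF : (⟨z, hzC⟩ : C) ∈ F := Components.centralizer_generalizedFitting_le <|
    mem_centralizer_iff.2 fun c _ => Subtype.ext (mem_centralizer_one.1 c.2)
  refine XSLocal.of_core hz hE ⟨_, hzF, rfl⟩ hQC (fun c hc => ?_) ?_
  · have hcC : c ∈ C := mem_centralizer_one.2 (mem_centralizer_iff.1 hc z ⟨_, hzF, rfl⟩).symm
    exact ⟨⟨c, hcC⟩, Components.centralizer_generalizedFitting_le <| mem_centralizer_iff.2 fun f hf =>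
      Subtype.ext (mem_centralizer_iff.1 hc f ⟨f, hf, rfl⟩), rfl⟩
  · exact normalizer_of_map_normal Components.generalizedFitting_normal

/-- The 2-core of the centralizer of an element, inside the group. -/
abbrev coreAt (x : G) : Subgroup G :=
  (Cfsg.pCore 2 ↥(centralizer ({x} : Set G))).map (centralizer ({x} : Set G)).subtype

theorem coreAt_isPGroup (x : G) : IsPGroup 2 (coreAt x) :=
  haveI : Fact (Nat.Prime 2) := ⟨Nat.prime_two⟩
  (FiniteGroup.pCore_isPGroup 2).map _

theorem coreAt_le (x : G) : coreAt x ≤ centralizer ({x} : Set G) := map_subtype_le _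

theorem coreAt_normal (x : G) : centralizer ({x} : Set G) ≤ normalizer (coreAt x : Set G) :=
  normalizer_of_map_normal (FiniteGroup.pCore_normal 2 (G := ↥(centralizer ({x} : Set G))))

theorem le_coreAt {x : G} {T : Subgroup G} (hT : IsPGroup 2 T) (hTC : T ≤ centralizer ({x} : Set G))
    (hTn : centralizer ({x} : Set G) ≤ normalizer (T : Set G)) : T ≤ coreAt x := by
  intro t ht
  refine ⟨⟨t, hTC ht⟩, ?_, rfl⟩
  have hn : (T.subgroupOf (centralizer ({x} : Set G))).Normal := normal_subgroupOf_of_le_normalizer hTn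
  exact le_sSup (show T.subgroupOf (centralizer ({x} : Set G)) ∈
    {N : Subgroup ↥(centralizer ({x} : Set G)) | N.Normal ∧ IsPGroup 2 N} from
      ⟨hn, hT.of_equiv (subgroupOfEquivOfLe hTC).symm⟩) ht

theorem map_coreAt_le (g x : G) : (coreAt x).map (MulAut.conj g).toMonoidHom ≤ coreAt (g * x * g⁻¹) := by
  refine le_coreAt ((coreAt_isPGroup x).map _) ?_ ?_
  · rintro _ ⟨t, ht, rfl⟩
    have := mem_centralizer_one.1 (coreAt_le x ht)
    refine mem_centralizer_one.2 ?_
    show g * t * g⁻¹ * (g * x * g⁻¹) = g * x * g⁻¹ * (g * t * g⁻¹)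
    calc g * t * g⁻¹ * (g * x * g⁻¹) = g * (t * x) * g⁻¹ := by group
      _ = g * (x * t) * g⁻¹ := by rw [this]
      _ = g * x * g⁻¹ * (g * t * g⁻¹) := by group
  · intro a ha
    have ha' := mem_centralizer_one.1 ha
    have h1 : g⁻¹ * a * g ∈ normalizer (coreAt x : Set G) := coreAt_normal x <| mem_centralizer_one.2 <| by
      calc g⁻¹ * a * g * x = g⁻¹ * (a * (g * x * g⁻¹)) * g := by group
        _ = g⁻¹ * (g * x * g⁻¹ * a) * g := by rw [ha']
        _ = x * (g⁻¹ * a * g) := by group
    refine mem_normalizer_iff.2 fun b => ?_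
    rw [mem_conjMap, mem_conjMap, mem_normalizer_iff.1 h1 (g⁻¹ * b * g),
      show g⁻¹ * a * g * (g⁻¹ * b * g) * (g⁻¹ * a * g)⁻¹ = g⁻¹ * (a * b * a⁻¹) * g by group]

theorem coreAt_conj (g x : G) : coreAt (g * x * g⁻¹) = (coreAt x).map (MulAut.conj g).toMonoidHom := by
  refine le_antisymm (fun a ha => mem_conjMap.2 ?_) (map_coreAt_le g x)
  have := map_coreAt_le g⁻¹ (g * x * g⁻¹) (conj_mem_conjMap (g := g⁻¹) ha)
  rw [show g⁻¹ * (g * x * g⁻¹) * g⁻¹⁻¹ = x by group, inv_inv] at this
  exact this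

theorem commute_of_pow {c q : G} (hc : Odd (orderOf c)) (k : ℕ) (h : Commute (c ^ 2 ^ k) q) : Commute c q := by
  obtain ⟨m, hm⟩ := exists_pow_eq_self_of_coprime
    (((Nat.coprime_two_left.2 hc).pow_left k))
  exact hm ▸ h.pow_left m

namespace XSLocal

variable {Q : Subgroup G} {z : G}

theorem card_cases (h : XSLocal Q z) : Nat.card Q = 8 ∨ 32 ≤ Nat.card Q := by
  haveI : Fact (Nat.Prime 2) := ⟨Nat.prime_two⟩
  obtain ⟨n, hn, hc⟩ := FGBasics.XS.exists_card_eq h.xs
  rcases Nat.eq_or_lt_of_le hn with e | hlt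
  · exact Or.inl (by rw [hc, ← e]; norm_num)
  · exact Or.inr (by rw [hc]; exact le_trans (by norm_num) (Nat.pow_le_pow_right two_pos (show 5 ≤ 1 + 2 * n by omega)))

/-- A fixed point of `Q` in any subgroup of even order it normalizes. -/
theorem mem_of_normalized (h : XSLocal Q z) {N : Subgroup G} (hQN : Q ≤ normalizer (N : Set G))
    (hN : Even (Nat.card N)) : z ∈ N := by
  haveI : Fact (Nat.Prime 2) := ⟨Nat.prime_two⟩
  letI : MulAction Q N :=
    { smul := fun q n => ⟨(q : G) * n * (q : G)⁻¹, conj_mem (hQN q.2) n.2⟩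
      one_smul := fun n => Subtype.ext (show (1 : G) * n * (1 : G)⁻¹ = n by group)
      mul_smul := fun a b n => Subtype.ext
        (show (a : G) * b * n * ((a : G) * b)⁻¹ = a * ((b : G) * n * (b : G)⁻¹) * (a : G)⁻¹ by group) }
  have h1 : (1 : N) ∈ MulAction.fixedPoints Q N := fun q => Subtype.ext (show (q : G) * 1 * (q : G)⁻¹ = 1 by group)
  obtain ⟨b, hb, hb1⟩ := h.xs.1.1.exists_fixed_point_of_prime_dvd_card_of_fixed_point N hN.two_dvd h1
  have hbC : (b : G) ∈ centralizer (Q : Set G) := fun q hq =>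
    mul_inv_eq_iff_eq_mul.1 (congrArg Subtype.val (hb ⟨q, hq⟩))
  rcases h.mem_zpowers_iff.1 (h.cent hbC) with e | e
  · exact absurd (Subtype.ext e.symm) hb1
  · exact e ▸ b.2

theorem mem_of_normal (h : XSLocal Q z) (hL : IsLargeExtraspecial Q) {N : Subgroup G}
    (hQN : Q ≤ normalizer (N : Set G)) (hN : N ≠ ⊥) : z ∈ N :=
  h.mem_of_normalized hQN <| (Nat.even_or_odd (Nat.card N)).resolve_right fun ho => hN (hL.2.2.2 N ho hQN)

theorem normalizer_le (h : XSLocal Q z) : normalizer (Q : Set G) ≤ centralizer ({z} : Set G) := by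
  intro n hn
  refine mem_centralizer_one.2 (mul_inv_eq_iff_eq_mul.1 ?_)
  refine (h.eq_of_central (conj_mem hn h.mem) fun r hr => ?_).resolve_left fun e => h.ne_one (conj_eq_one_iff.1 e)
  have hr' : n⁻¹ * r * n ∈ Q := by simpa using conj_mem (inv_mem hn) hr
  calc n * z * n⁻¹ * r = n * (z * (n⁻¹ * r * n)) * n⁻¹ := by group
    _ = n * (n⁻¹ * r * n * z) * n⁻¹ := by rw [h.comm hr']
    _ = r * (n * z * n⁻¹) := by group

/-- With a non-central involution, the centralizer of the central involution of a dihedral `Q` is a 2-group. -/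
theorem isPGroup_centralizer (h : XSLocal Q z) (h8 : Nat.card Q = 8) {x : G} (hx : x ∈ Q) (hx2 : x * x = 1)
    (hx1 : x ≠ 1) (hxz : x ≠ z) : IsPGroup 2 ↥(centralizer ({z} : Set G)) := by
  haveI : Fact (Nat.Prime 2) := ⟨Nat.prime_two⟩
  -- the centralizer of x in Q is abelian
  have hab : ∀ a ∈ Q, ∀ b ∈ Q, a * x = x * a → b * x = x * b → a * b = b * a := by
    intro a ha b hb hax hbx
    by_contra hne
    set A := centralizer ({⟨x, hx⟩} : Set Q)
    have hA : Nat.card A ∣ 2 ^ 3 := (card_subgroup_dvd_card A).trans (by rw [h8]; rfl)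
    have haA : (⟨a, ha⟩ : Q) ∈ A := mem_centralizer_one.2 (Subtype.ext hax)
    have hbA : (⟨b, hb⟩ : Q) ∈ A := mem_centralizer_one.2 (Subtype.ext hbx)
    have hlt : A ≠ ⊤ := by
      intro htop
      obtain ⟨q, hq, e⟩ := h.exists_conj hx hx1 hxz
      have : (⟨q, hq⟩ : Q) ∈ A := htop ▸ mem_top _
      have e2 : q * x = x * q := congrArg Subtype.val (mem_centralizer_one.1 this)
      rw [XSub.conj_eq_self_iff.2 e2] at e
      exact h.ne_mul_z x e
    obtain ⟨k, hk, hk'⟩ := (Nat.dvd_prime_pow Nat.prime_two).1 hA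
    have hk3 : k ≠ 3 := fun e => hlt (eq_top_of_card_eq A (by rw [hk', h8, e]; rfl))
    have hk2 : k ≤ 2 := by omega
    have hcomm : IsMulCommutative A := by
      rcases (show k = 0 ∨ k = 1 ∨ k = 2 by omega) with rfl | rfl | rfl
      · haveI : Subsingleton A := (Nat.card_eq_one_iff_unique.1 (by rw [hk']; rfl)).1
        exact ⟨⟨fun _ _ => Subsingleton.elim _ _⟩⟩
      · haveI := isCyclic_of_prime_card (α := A) (p := 2) (by rw [hk']; rfl)
        exact inferInstance
      · letI := IsPGroup.commGroupOfCardEqPrimeSq (G := A) (p := 2) hk'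
        exact ⟨⟨fun u v => mul_comm' u v⟩⟩
    exact hne (congrArg (fun w : A => ((w : Q) : G)) (hcomm.is_comm.comm ⟨_, haA⟩ ⟨_, hbA⟩))
  have hV : ∀ q ∈ Q, q * x = x * q → q = 1 ∨ q = z ∨ q = x ∨ q = z * x := fun q hq hqx =>
    h.mem_pair_of_commute hx hx2 hq fun p hp hpx => hab p hp q hq hpx hqx
  obtain ⟨y, hy, ey⟩ := h.exists_conj hx hx1 hxz
  have eyx : y * x = x * z * y := mul_inv_eq_iff_eq_mul.1 ey
  have hzx : z * x = x * z := (h.comm hx).symm
  -- an element of order four outside
  obtain ⟨a, ha, ea, haz⟩ : ∃ a ∈ Q, a * x = x * z * a ∧ a * a = z := by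
    rcases h.sq_cases hy with e | e
    · refine ⟨y * x, mul_mem hy hx, by rw [← mul_assoc (x * z) y x, ← eyx], ?_⟩
      calc y * x * (y * x) = x * z * (y * y) * x := by rw [← mul_assoc, eyx]; group
        _ = z := by rw [e, mul_one, ← hzx, mul_assoc, hx2, mul_one]
    · exact ⟨y, hy, eyx, e⟩
  have hsplit : ∀ q ∈ Q, q * x = x * q ∨ a⁻¹ * q * x = x * (a⁻¹ * q) := by
    intro q hq
    rcases h.conj_cases hq hx with e | e
    · exact Or.inl (mul_inv_eq_iff_eq_mul.1 e)
    · right
      rw [mul_inv_eq_iff_eq_mul] at e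
      rw [mul_assoc, e, show a⁻¹ * (x * z * q) = a⁻¹ * (x * z * a) * (a⁻¹ * q) by group, ← ea,
        inv_mul_cancel_left]
  have hax' : a * x * (a * x) = 1 := by
    rw [← mul_assoc, ea, show x * z * a * a * x = x * z * (a * a) * x by group, haz, mul_assoc x z z, h.sq,
      mul_one, hx2]
  have hS : ∀ q ∈ Q, q * q = z → q = a ∨ q = a * z := by
    intro q hq e
    rcases hsplit q hq with hqx | hqx
    · rcases hV q hq hqx with rfl | rfl | rfl | rfl
      · exact absurd e.symm (by simpa using h.ne_one)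
      · exact absurd e.symm (by rw [h.sq]; exact h.ne_one)
      · exact absurd e.symm (by rw [hx2]; exact h.ne_one)
      · refine absurd e.symm ?_
        rw [show z * x * (z * x) = z * (x * z) * x by group, ← hzx, ← mul_assoc, h.sq, one_mul, hx2]
        exact h.ne_one
    · rcases hV _ (mul_mem (inv_mem ha) hq) hqx with e1 | e1 | e1 | e1 <;>
        rw [inv_mul_eq_iff_eq_mul] at e1 <;> subst e1
      · exact Or.inl (mul_one a)
      · exact Or.inr rfl
      · exact absurd e.symm (by rw [hax']; exact h.ne_one)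
      · refine absurd e.symm ?_
        have hza : a * z = z * a := h.comm ha
        rw [show a * (z * x) = a * z * x by group, hza,
          show z * a * x * (z * a * x) = z * (a * x * z) * (a * x) by group, h.comm (mul_mem ha hx),
          show z * (z * (a * x)) * (a * x) = z * z * (a * x * (a * x)) by group, h.sq, hax', one_mul]
        exact h.ne_one
  intro c
  obtain ⟨k, m, hm, hcm⟩ := Nat.exists_eq_two_pow_mul_odd (orderOf_pos (c : G)).ne'
  refine ⟨k, Subtype.ext ?_⟩
  rw [coe_pow, coe_one]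
  set d := (c : G) ^ 2 ^ k with hd
  have hod : Odd (orderOf d) := by
    rw [hd, orderOf_pow, hcm, Nat.gcd_mul_right_left, Nat.mul_div_cancel_left _ (pow_pos two_pos k)]
    exact hm
  have hdz : d * z = z * d := ((show Commute (c : G) z from mem_centralizer_one.1 c.2).pow_left _)
  have hdN := h.norm (mem_centralizer_one.2 hdz)
  -- d fixes a
  have hda : Commute d a := by
    refine commute_of_pow hod 1 (mul_inv_eq_iff_eq_mul.1 ?_)
    rw [pow_one, pow_two]
    have h1 : ∀ b ∈ Q, b * b = z → d * b * d⁻¹ = a ∨ d * b * d⁻¹ = a * z := fun b hb e => hS _ (conj_mem hdN hb) (by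
      rw [show d * b * d⁻¹ * (d * b * d⁻¹) = d * (b * b) * d⁻¹ by group, e, hdz, mul_inv_cancel_right])
    rw [show d * d * a * (d * d)⁻¹ = d * (d * a * d⁻¹) * d⁻¹ by group]
    rcases h1 a ha haz with e | e <;> rw [e]
    · exact e
    · rw [show d * (a * z) * d⁻¹ = d * a * d⁻¹ * (d * z * d⁻¹) by group, e,
        show d * z * d⁻¹ = z by rw [hdz, mul_inv_cancel_right], mul_assoc, h.sq, mul_one]
  -- d fixes x
  have hdx : Commute d x := by
    obtain ⟨e, he, hde⟩ : ∃ e ∈ Q, d * x * d⁻¹ = x * e :=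
      ⟨x⁻¹ * (d * x * d⁻¹), mul_mem (inv_mem hx) (conj_mem hdN hx), by group⟩
    have hfix : Commute d e := by
      rcases hsplit e he with hex | hex
      · rcases hV e he hex with rfl | rfl | rfl | rfl
        · exact Commute.one_right d
        · exact hdz
        · rw [hx2] at hde
          exact absurd (conj_eq_one_iff.1 hde) hx1
        · rw [show x * (z * x) = z by rw [← mul_assoc x z x, ← hzx, mul_assoc z x x, hx2, mul_one]] at hde
          refine absurd ?_ hxz
          calc x = d⁻¹ * (d * x * d⁻¹) * d := by group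
            _ = z := by rw [hde, mul_assoc, ← hdz, inv_mul_cancel_left]
      · have key : x * (a * x) = z * a := by
          rw [ea, mul_assoc x z a, ← mul_assoc x x, hx2, one_mul]
        have hne : ∀ b : G, b * b = z → d * x * d⁻¹ ≠ b := by
          intro b hb e
          rw [← e, show d * x * d⁻¹ * (d * x * d⁻¹) = d * (x * x) * d⁻¹ by group, hx2, mul_one,
            mul_inv_cancel] at hb
          exact h.ne_one hb.symm
        rcases hV _ (mul_mem (inv_mem ha) he) hex with e1 | e1 | e1 | e1 <;>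
          rw [inv_mul_eq_iff_eq_mul] at e1 <;> subst e1
        · rwa [mul_one]
        · exact hda.mul_right hdz
        · refine absurd (hde.trans key) (hne _ ?_)
          rw [show z * a * (z * a) = z * (a * z) * a by group, h.comm ha, ← mul_assoc, h.sq, one_mul, haz]
        · refine absurd (hde.trans ?_) (hne a haz)
          rw [← mul_assoc a z x, h.comm ha, mul_assoc z a x, ← mul_assoc x z, ← hzx, mul_assoc z x, key,
            ← mul_assoc, h.sq, one_mul]
    have e4 : e ^ 4 = 1 := by
      rw [show 4 = 2 + 2 by rfl, pow_add, pow_two]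
      rcases h.sq_cases he with e2 | e2 <;> rw [e2]
      exacts [one_mul 1, h.sq]
    have hpow : ∀ n : ℕ, d ^ n * x * (d ^ n)⁻¹ = x * e ^ n := by
      intro n
      induction n with
      | zero => simp
      | succ n ih =>
        rw [pow_succ' d, show d * d ^ n * x * (d * d ^ n)⁻¹ = d * (d ^ n * x * (d ^ n)⁻¹) * d⁻¹ by group, ih,
          show d * (x * e ^ n) * d⁻¹ = d * x * d⁻¹ * (d * e ^ n * d⁻¹) by group, hde,
          (hfix.pow_right n).eq, mul_inv_cancel_right, pow_succ', mul_assoc]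
    refine commute_of_pow hod 2 (mul_inv_eq_iff_eq_mul.1 ?_)
    rw [hpow, show 2 ^ 2 = 4 by rfl, e4, mul_one]
  have hdC : d ∈ centralizer (Q : Set G) := by
    intro q hq
    refine Commute.eq (Commute.symm ?_)
    have hV' : ∀ v, (v = 1 ∨ v = z ∨ v = x ∨ v = z * x) → Commute d v := by
      rintro v (rfl | rfl | rfl | rfl)
      exacts [Commute.one_right d, hdz, hdx, (show Commute d z from hdz).mul_right hdx]
    rcases hsplit q hq with hqx | hqx
    · exact hV' q (hV q hq hqx)
    · simpa using hda.mul_right (hV' _ (hV _ (mul_mem (inv_mem ha) hq) hqx))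
  rcases h.mem_zpowers_iff.1 (h.cent hdC) with e | e
  · exact e
  · rw [e, h.orderOf_eq] at hod
    exact absurd hod (by decide)

end XSLocal

end Cfsg.Agent.LargeExtra
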