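import Cfsg.Agent.Lib.LargeExtra.Pair
import Cfsg.Agent.Lib.Solvable.Coprime

/-!
Odd-order operators on extraspecial 2-subgroups.
-/

set_option autoImplicit false
set_option linter.unusedSectionVars false
set_option linter.style.haveILetI false

namespace Cfsg.Agent.LargeExtra

open Subgroup
open scoped commutatorElement Pointwise

variable {G : Type*} [Group G] [Finite G] {Q : Subgroup G} {z : G} {A : Subgroup G}

namespace XSub

theorem conj_fix_z (h : XSub Q z) {n : G} (hn : n ∈ normalizer (Q : Set G)) : n * z * n⁻¹ = z := by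
  refine (h.eq_of_central (conj_mem hn h.mem) fun r hr => ?_).resolve_left fun e => h.ne_one (conj_eq_one_iff.1 e)
  have hr' : n⁻¹ * r * n ∈ Q := by simpa using conj_mem (inv_mem hn) hr
  calc n * z * n⁻¹ * r = n * (z * (n⁻¹ * r * n)) * n⁻¹ := by group
    _ = n * (n⁻¹ * r * n * z) * n⁻¹ := by rw [h.comm hr']
    _ = r * (n * z * n⁻¹) := by group

theorem decomp (h : XSub Q z) (hAodd : Odd (Nat.card A)) (hA : A ≤ normalizer (Q : Set G)) :
    (Q ⊓ centralizer (A : Set G)) ⊔ ⁅Q, A⁆ = Q := by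
  haveI : Fact (Nat.Prime 2) := ⟨Nat.prime_two⟩
  obtain ⟨k, hk⟩ := h.xs.1.1.exists_card_eq
  have hcop : (Nat.card A).Coprime (Nat.card Q) := by
    rw [hk]
    exact ((Nat.coprime_two_left.2 hAodd).symm).pow_right k
  haveI := h.xs.1.1.isNilpotent
  rw [sup_comm]
  exact CoprimeAct.commutator_sup_centralizer hA hcop (Or.inr inferInstance)

theorem conj_commutator (h : XSub Q z) (hA : A ≤ normalizer (Q : Set G)) {v : G} (hv : v ∈ Q)
    (hvA : v ∈ centralizer (A : Set G)) {y : G} (hy : y ∈ ⁅Q, A⁆) : y * v = v * y := by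
  have hle : ⁅Q, A⁆ ≤ centralizer ({v} : Set G) := by
    rw [commutator_le]
    intro q hq a ha
    refine mem_centralizer_one.2 (mul_inv_eq_iff_eq_mul.1 ?_)
    have hav : a * v * a⁻¹ = v := by rw [mem_centralizer_iff.1 hvA a ha, mul_inv_cancel_right]
    have haz := h.conj_fix_z (hA ha)
    obtain ⟨k, hk, e⟩ : ∃ k, (k = 1 ∨ k = z) ∧ q⁻¹ * v * q = v * k := by
      rcases h.conj_cases (inv_mem hq) hv with e | e <;> rw [inv_inv] at e
      exacts [⟨1, Or.inl rfl, by rw [e, mul_one]⟩, ⟨z, Or.inr rfl, e⟩]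
    have hak : a * k * a⁻¹ = k := by
      rcases hk with rfl | rfl
      exacts [by group, haz]
    calc ⁅q, a⁆ * v * ⁅q, a⁆⁻¹
        = q * (a * (q⁻¹ * (a⁻¹ * (a * v * a⁻¹) * a) * q) * a⁻¹) * q⁻¹ := by
          rw [hav]; simp only [commutatorElement_def]; group
      _ = q * (a * (q⁻¹ * v * q) * a⁻¹) * q⁻¹ := by group
      _ = q * (a * v * a⁻¹ * (a * k * a⁻¹)) * q⁻¹ := by rw [e]; group
      _ = q * (q⁻¹ * v * q) * q⁻¹ := by rw [hav, hak, e]
      _ = v := by group
  exact mem_centralizer_one.1 (hle hy)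

theorem exists_conj_centralizer (h : XSub Q z) (hAodd : Odd (Nat.card A)) (hA : A ≤ normalizer (Q : Set G))
    {v : G} (hv : v ∈ Q) (hvA : v ∈ centralizer (A : Set G)) (h1 : v ≠ 1) (h2 : v ≠ z) :
    ∃ u ∈ Q ⊓ centralizer (A : Set G), u * v * u⁻¹ = v * z := by
  by_contra hcon
  have hle : Q ≤ centralizer ({v} : Set G) := by
    conv_lhs => rw [← h.decomp hAodd hA]
    refine sup_le (fun u hu => mem_centralizer_one.2 ?_)
      (fun y hy => mem_centralizer_one.2 (h.conj_commutator hA hv hvA hy))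
    rcases h.conj_cases hu.1 hv with e | e
    · exact mul_inv_eq_iff_eq_mul.1 e
    · exact absurd ⟨u, hu, e⟩ hcon
  exact (h.eq_of_central hv fun r hr => (mem_centralizer_one.1 (hle hr)).symm).elim h1 h2

theorem z_mem_centralizer (h : XSub Q z) (hA : A ≤ normalizer (Q : Set G)) : z ∈ centralizer (A : Set G) :=
  fun a ha => mul_inv_eq_iff_eq_mul.1 (h.conj_fix_z (hA ha))

theorem centralizer_cases (h : XSub Q z) (hAodd : Odd (Nat.card A)) (hA : A ≤ normalizer (Q : Set G)) :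
    Q ⊓ centralizer (A : Set G) = zpowers z ∨ XSub (Q ⊓ centralizer (A : Set G)) z := by
  by_cases hle : Q ⊓ centralizer (A : Set G) ≤ zpowers z
  · exact Or.inl (le_antisymm hle (zpowers_le.2 ⟨h.mem, h.z_mem_centralizer hA⟩))
  right
  obtain ⟨v, hv, hvz⟩ := SetLike.not_le_iff_exists.1 hle
  refine h.sub inf_le_left ⟨h.mem, h.z_mem_centralizer hA⟩ (fun w hw hc => ?_) ?_
  · by_contra hcon
    rw [not_or] at hcon
    obtain ⟨u, hu, e⟩ := h.exists_conj_centralizer hAodd hA hw.1 hw.2 hcon.1 hcon.2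
    rw [XSub.conj_eq_self_iff.2 (hc u hu).symm] at e
    exact h.ne_mul_z w e
  · rw [h.mem_zpowers_iff, not_or] at hvz
    obtain ⟨u, hu, e⟩ := h.exists_conj_centralizer hAodd hA hv.1 hv.2 hvz.1 hvz.2
    refine ⟨u, hu, v, hv, fun e2 => ?_⟩
    rw [XSub.conj_eq_self_iff.2 e2] at e
    exact h.ne_mul_z v e

end XSub

/-- The image of an extraspecial subgroup in a quotient in which it embeds. -/
theorem XSub.map_injOn {H : Type*} [Group H] [Finite H] (h : XSub Q z) (f : G →* H)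
    (hf : ∀ a ∈ Q, f a = 1 → a = 1) : XSub (Q.map f) (f z) := by
  haveI : Fact (Nat.Prime 2) := ⟨Nat.prime_two⟩
  let e : Q →* Q.map f := f.subgroupMap Q
  have he : Function.Bijective e := by
    refine ⟨(injective_iff_map_eq_one e).2 fun a ha => Subtype.ext ?_, f.subgroupMap_surjective Q⟩
    exact hf a a.2 (congrArg Subtype.val ha)
  let E := MulEquiv.ofBijective e he
  refine ⟨Qd.isExtraspecial_congr E.symm h.xs, ?_⟩
  rw [← Qd.map_center_eq E, map_map,
    show (Q.map f).subtype.comp E.toMonoidHom = f.comp Q.subtype from rfl, ← map_map, h.centre,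
    MonoidHom.map_zpowers]

/-- Commutators in a central-coprime subgroup vanish on 2-elements. -/
theorem eq_one_of_conj (hAodd : Odd (Nat.card A)) {c r : G} {k : ℕ} (hr : r ^ 2 ^ k = 1)
    (hrA : r ∈ centralizer (A : Set G)) (he : c * r * c⁻¹ * r⁻¹ ∈ A) : c * r = r * c := by
  have hcomm : Commute (c * r * c⁻¹ * r⁻¹) r := mem_centralizer_iff.1 hrA _ he
  have h1 : (c * r * c⁻¹ * r⁻¹) ^ 2 ^ k = 1 := by
    have h2 : ((c * r * c⁻¹ * r⁻¹) * r) ^ 2 ^ k = 1 := by
      rw [inv_mul_cancel_right, conj_pow, hr]; group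
    rwa [hcomm.mul_pow, hr, mul_one] at h2
  have h3 : c * r * c⁻¹ * r⁻¹ = 1 := by
    rw [← orderOf_eq_one_iff]
    exact Nat.eq_one_of_dvd_coprimes ((Nat.coprime_two_left.2 hAodd).pow_left k) (orderOf_dvd_of_pow_eq_one h1)
      (Subgroup.orderOf_dvd_natCard A he)
  rwa [mul_inv_eq_one, mul_inv_eq_iff_eq_mul] at h3

end Cfsg.Agent.LargeExtra
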