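/-
The transfer of a 2-element of minimal order outside the kernel of a sign character only sees fixed cosets.
-/
import Cfsg.Agent.Lib.Transfer.SignThompson
import Mathlib.GroupTheory.Transfer

set_option autoImplicit false
set_option linter.style.haveILetI false
open Cfsg MulAction

namespace Cfsg.Agent.LargeExtra

variable {G : Type*} [Group G] [Finite G] {H : Subgroup G}

open Classical in
/-- The value of the character at the coset `x`, one if `t` moves it. -/
noncomputable def cosetVal (φ : H →* ℤˣ) (t : G) (x : G ⧸ H) : ℤˣ :=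
  if hx : x.out⁻¹ * t * x.out ∈ H then φ ⟨_, hx⟩ else 1

omit [Finite G] in
theorem cosetVal_mk (φ : H →* ℤˣ) (t g : G) (hg : g⁻¹ * t * g ∈ H) :
    cosetVal φ t (QuotientGroup.mk g : G ⧸ H) = φ ⟨_, hg⟩ := by
  obtain ⟨a, ha⟩ := QuotientGroup.mk_out_eq_mul H g
  have e : (QuotientGroup.mk g : G ⧸ H).out⁻¹ * t * (QuotientGroup.mk g : G ⧸ H).out =
      (a : G)⁻¹ * (g⁻¹ * t * g) * a := by rw [ha]; group
  have hmem : (QuotientGroup.mk g : G ⧸ H).out⁻¹ * t * (QuotientGroup.mk g : G ⧸ H).out ∈ H :=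
    e ▸ H.mul_mem (H.mul_mem (H.inv_mem a.2) hg) a.2
  rw [cosetVal, dif_pos hmem, show (⟨_, hmem⟩ : H) = a⁻¹ * ⟨_, hg⟩ * a from Subtype.ext e, map_mul,
    map_mul, map_inv, mul_comm (φ a)⁻¹, inv_mul_cancel_right]

omit [Finite G] in
theorem cosetVal_of_notMem (φ : H →* ℤˣ) (t g : G) (hg : g⁻¹ * t * g ∉ H) :
    cosetVal φ t (QuotientGroup.mk g : G ⧸ H) = 1 := by
  obtain ⟨a, ha⟩ := QuotientGroup.mk_out_eq_mul H g
  refine dif_neg fun hmem => hg ?_
  have e : g⁻¹ * t * g = (a : G) * ((QuotientGroup.mk g : G ⧸ H).out⁻¹ * t *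
      (QuotientGroup.mk g : G ⧸ H).out) * (a : G)⁻¹ := by rw [ha]; group
  exact e ▸ H.mul_mem (H.mul_mem a.2 hmem) (H.inv_mem a.2)

/-- The product of the values over the cosets is one. -/
theorem prod_cosetVal [Fintype (G ⧸ H)] (hres : Cfsg.pResidual 2 G = ⊤) (φ : H →* ℤˣ) {t : G} {m : ℕ}
    (ht : orderOf t = 2 ^ m)
    (hmin : ∀ a : H, (∃ j, orderOf a = 2 ^ j) → orderOf a < orderOf t → φ a = 1) :
    ∏ x : G ⧸ H, cosetVal φ t x = 1 := by
  classical
  haveI : Fintype (Quotient (orbitRel (Subgroup.zpowers t) (G ⧸ H))) := Fintype.ofFinite _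
  have h1 := SignThompson.hom_eq_one hres (MonoidHom.transfer φ) t
  rw [MonoidHom.transfer_eq_prod_quotient_orbitRel_zpowers_quot] at h1
  rw [← h1, ← Finset.prod_fiberwise Finset.univ
    (fun x => (Quotient.mk'' x : Quotient (orbitRel (Subgroup.zpowers t) (G ⧸ H)))) (cosetVal φ t)]
  refine Finset.prod_congr rfl fun q _ => ?_
  have hfix : ∀ x : G ⧸ H, x.out⁻¹ * t * x.out ∈ H ↔ t • x = x := fun x => by
    conv_rhs => rw [← QuotientGroup.out_eq' x, MulAction.Quotient.smul_mk, QuotientGroup.eq, smul_eq_mul,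
      ← Subgroup.inv_mem_iff]
    congr! 1
    group
  have horbit : ∀ x y : G ⧸ H, (Quotient.mk'' x : Quotient (orbitRel (Subgroup.zpowers t) (G ⧸ H))) =
      Quotient.mk'' y → ∃ i : ℤ, t ^ i • y = x := fun x y e => by
    obtain ⟨⟨_, i, rfl⟩, hi⟩ := Quotient.eq''.1 e
    exact ⟨i, hi⟩
  set p := Function.minimalPeriod (t • ·) q.out with hp
  have hper : p ∣ 2 ^ m := by
    rw [← ht, hp, ← MulAction.pow_smul_eq_iff_minimalPeriod_dvd, pow_orderOf_eq_one, one_smul]
  obtain ⟨j, hj, hpj⟩ := (Nat.dvd_prime_pow Nat.prime_two).1 hper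
  by_cases hfx : t • q.out = q.out
  · have hp1 : p = 1 := Function.minimalPeriod_eq_one_iff_isFixedPt.2 hfx
    have hone : (Finset.univ.filter fun x : G ⧸ H =>
        (Quotient.mk'' x : Quotient (orbitRel (Subgroup.zpowers t) (G ⧸ H))) = q) = {q.out} := by
      ext x
      simp only [Finset.mem_filter, Finset.mem_univ, true_and, Finset.mem_singleton]
      refine ⟨fun e => ?_, fun e => e ▸ Quotient.out_eq' q⟩
      obtain ⟨i, hi⟩ := horbit x q.out (e.trans (Quotient.out_eq' q).symm)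
      have hst : t ∈ MulAction.stabilizer G q.out := hfx
      exact hi ▸ (MulAction.mem_stabilizer_iff.1 (Subgroup.zpow_mem _ hst i))
    rw [hone, Finset.prod_singleton, cosetVal, dif_pos ((hfix _).2 hfx)]
    congr 1
    apply Subtype.ext
    show q.out.out⁻¹ * t * q.out.out = q.out.out⁻¹ * t ^ p * q.out.out
    rw [hp1, pow_one]
  · rw [Finset.prod_eq_one fun x hx => ?_]
    · symm
      have hj0 : j ≠ 0 := fun e => hfx (Function.minimalPeriod_eq_one_iff_isFixedPt.1
        (show p = 1 by rw [hpj, e, pow_zero]))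
      have hord : orderOf (q.out.out⁻¹ * t ^ p * q.out.out) = 2 ^ (m - j) := by
        rw [show q.out.out⁻¹ * t ^ p * q.out.out = MulAut.conj q.out.out⁻¹ (t ^ p) by
          rw [MulAut.conj_apply, inv_inv], MulEquiv.orderOf_eq, orderOf_pow_of_dvd (by simp [hpj]) (ht ▸ hper),
          ht, hpj, Nat.pow_div hj two_pos]
      refine hmin _ ⟨m - j, by rw [← Subgroup.orderOf_coe]; exact hord⟩ ?_
      rw [← Subgroup.orderOf_coe, ht]
      show orderOf (q.out.out⁻¹ * t ^ p * q.out.out) < _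
      rw [hord]
      exact Nat.pow_lt_pow_right one_lt_two (by omega)
    · refine dif_neg fun hmem => hfx ?_
      obtain ⟨i, hi⟩ := horbit x q.out ((Finset.mem_filter.1 hx).2.trans (Quotient.out_eq' q).symm)
      have := (hfix x).1 hmem
      rw [← hi, ← mul_smul, (Commute.self_zpow t i).eq, mul_smul] at this
      exact MulAction.injective (t ^ i) this

end Cfsg.Agent.LargeExtra
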