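/-
A subgroup of index two in the centralizer of an involution `z` whose `O₂` is extraspecial contains `O₂`
when `G` has no quotient of order two.
-/
import Cfsg.Agent.Lib.LargeExtra.Basic
import Cfsg.Agent.Lib.Transfer.SignThompson

set_option autoImplicit false
open Cfsg Subgroup
open scoped commutatorElement

namespace Cfsg.Agent.LargeExtra

variable {G : Type*} [Group G] [Finite G]

/-- The standard setting gives an extraspecial local subgroup. -/
theorem xsLocal_of_core {z : G} (hz : orderOf z = 2) {E : Subgroup G}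
    (hE : E = (Cfsg.pCore 2 ↥(centralizer ({z} : Set G))).map (centralizer ({z} : Set G)).subtype)
    (hext : IsExtraspecial 2 ↥E) (hcent : centralizer (E : Set G) ≤ E) : XSLocal E z := by
  have hle : E ≤ centralizer ({z} : Set G) := hE ▸ map_subtype_le _
  have hzC : z ∈ centralizer (E : Set G) :=
    mem_centralizer_iff.2 fun e he => mem_centralizer_one.1 (hle he)
  have hzE : z ∈ E := hcent hzC
  have heq : (center E).map E.subtype = zpowers z := by
    refine (eq_of_le_of_card_ge ?_ ?_).symm
    · exact zpowers_le.2 ⟨⟨z, hzE⟩, mem_center_iff.2 fun e => Subtype.ext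
        (mem_centralizer_iff.1 hzC e e.2), rfl⟩
    · rw [card_map_of_injective E.subtype_injective, hext.2, Nat.card_zpowers, hz]
  refine ⟨⟨hext, heq⟩, fun c hc => ?_, ?_⟩
  · rw [← heq]
    exact ⟨⟨c, hcent hc⟩, mem_center_iff.2 fun e => Subtype.ext (mem_centralizer_iff.1 hc e e.2), rfl⟩
  · rw [hE]
    exact normalizer_of_map_normal (FittingCores.pCore_normal 2)

/-- The hypotheses on a subgroup of index two of `C(z)`. -/
structure IdxTwo (K : Subgroup G) (z : G) : Prop where
  le : K ≤ centralizer ({z} : Set G)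
  mul_iff : ∀ a ∈ centralizer ({z} : Set G), ∀ b ∈ centralizer ({z} : Set G),
    (a * b ∈ K ↔ (a ∈ K ↔ b ∈ K))
  idx : K.index = 2 * (centralizer ({z} : Set G)).index

theorem IdxTwo.of_relIndex {K : Subgroup G} {z : G} (hKH : K ≤ centralizer ({z} : Set G))
    (hKi : K.relIndex (centralizer ({z} : Set G)) = 2) : IdxTwo K z := by
  refine ⟨hKH, fun a ha b hb => ?_, ?_⟩
  · have := Subgroup.mul_mem_iff_of_index_two (H := K.subgroupOf (centralizer ({z} : Set G))) hKi
      (a := ⟨a, ha⟩) (b := ⟨b, hb⟩)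
    simpa [mem_subgroupOf] using this
  · rw [← relIndex_mul_index hKH, hKi]

variable {E K : Subgroup G} {z f : G}

theorem IdxTwo.conj_iff (hK : IdxTwo K z) {a b : G} (ha : a ∈ centralizer ({z} : Set G))
    (hb : b ∈ centralizer ({z} : Set G)) : a * b * a⁻¹ ∈ K ↔ b ∈ K := by
  rw [hK.mul_iff _ (mul_mem ha hb) _ (inv_mem ha), hK.mul_iff _ ha _ hb, inv_mem_iff]
  tauto

theorem IdxTwo.comm_mem (hK : IdxTwo K z) {a b : G} (ha : a ∈ centralizer ({z} : Set G))
    (hb : b ∈ centralizer ({z} : Set G)) : ⁅a, b⁆ ∈ K := by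
  rw [commutatorElement_def, hK.mul_iff _ (mul_mem (mul_mem ha hb) (inv_mem ha)) _ (inv_mem hb),
    hK.conj_iff ha hb, inv_mem_iff]

/-- An element of `C(z)` fixing the centraliser of `f` modulo `⟨z⟩` lies in `E`. -/
theorem mem_of_fix_hyperplane (h : XSLocal E z)
    (hKc : ∀ a ∈ centralizer ({z} : Set G), ∀ b ∈ centralizer ({z} : Set G), ⁅a, b⁆ ∈ K) (hzK : z ∈ K) (hf : f ∈ E)
    (hf2 : f * f = 1) (hfK : f ∉ K) {u : G} (hu : u ∈ centralizer ({z} : Set G))
    (hc : ∀ y ∈ E, y * f = f * y → u * y * u⁻¹ = y ∨ u * y * u⁻¹ = y * z) : u ∈ E := by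
  have hEH := h.toXSub.le_centralizer
  have hun := h.norm hu
  have hzu : u * z = z * u := mem_centralizer_one.1 hu
  have hconj : ∀ x ∈ E, u * x * u⁻¹ = x ∨ u * x * u⁻¹ = x * z := by
    intro x hx
    set d := u * x * u⁻¹ * x⁻¹ with hd
    have hux : u * x * u⁻¹ = d * x := by rw [hd]; group
    have hdE : d ∈ E := mul_mem (conj_mem hun hx) (inv_mem hx)
    have hdK : d ∈ K := by
      have := hKc u hu x (hEH hx)
      rwa [commutatorElement_def] at this
    have hcomm : ∀ y ∈ E, y * f = f * y → y * d = d * y := by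
      intro y hy hyf
      obtain ⟨c, hc1, hcz⟩ : ∃ c, u * y * u⁻¹ = y * c ∧ (c = 1 ∨ c = z) := by
        rcases hc y hy hyf with e | e
        exacts [⟨1, by rw [e, mul_one], Or.inl rfl⟩, ⟨z, e, Or.inr rfl⟩]
      obtain ⟨c', hc2, hcz'⟩ : ∃ c', x * y * x⁻¹ = y * c' ∧ (c' = 1 ∨ c' = z) := by
        rcases h.toXSub.conj_cases hx hy with e | e
        exacts [⟨1, by rw [e, mul_one], Or.inl rfl⟩, ⟨z, e, Or.inr rfl⟩]
      have hcen : ∀ a ∈ E, ∀ e : G, (e = 1 ∨ e = z) → a * e = e * a := by
        rintro a ha e (rfl | rfl)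
        exacts [by simp, h.toXSub.comm ha]
      have hc'u : u * c' = c' * u := by rcases hcz' with rfl | rfl; exacts [by simp, hzu]
      have hcE : c ∈ E := by rcases hcz with rfl | rfl; exacts [one_mem _, h.toXSub.mem]
      have hc'E : c' ∈ E := by rcases hcz' with rfl | rfl; exacts [one_mem _, h.toXSub.mem]
      have hl : d * x * (y * c) * (d * x)⁻¹ = d * y * c' * c * d⁻¹ := by
        calc d * x * (y * c) * (d * x)⁻¹ = d * (x * y * x⁻¹) * (x * c * x⁻¹) * d⁻¹ := by group
          _ = _ := by rw [hc2, hcen x hx c hcz, mul_inv_cancel_right]; group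
      have hr : d * x * (y * c) * (d * x)⁻¹ = y * c * c' := by
        calc d * x * (y * c) * (d * x)⁻¹ = u * x * u⁻¹ * (u * y * u⁻¹) * (u * x * u⁻¹)⁻¹ := by rw [hux, hc1]
          _ = u * (x * y * x⁻¹) * u⁻¹ := by group
          _ = u * y * u⁻¹ * (u * c' * u⁻¹) := by rw [hc2]; group
          _ = y * c * c' := by rw [hc1, hc'u, mul_inv_cancel_right]
      have he : d * y * d⁻¹ * (c' * c) = y * (c' * c) := by
        calc d * y * d⁻¹ * (c' * c) = d * y * (d⁻¹ * c') * c := by group
          _ = d * y * c' * (d⁻¹ * c) := by rw [hcen d⁻¹ (inv_mem hdE) c' hcz']; group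
          _ = d * y * c' * c * d⁻¹ := by rw [hcen d⁻¹ (inv_mem hdE) c hcz]; group
          _ = y * c * c' := hl.symm.trans hr
          _ = y * (c' * c) := by rw [mul_assoc, hcen c hcE c' hcz']
      exact (mul_inv_eq_iff_eq_mul.1 (mul_right_cancel he)).symm
    rcases h.toXSub.mem_pair_of_commute hf hf2 hdE hcomm with e | e | e | e
    · exact Or.inl (by rw [hux, e, one_mul])
    · exact Or.inr (by rw [hux, e, h.toXSub.comm hx])
    · exact absurd (e ▸ hdK) hfK
    · exact absurd ((mul_mem_cancel_left hzK).1 (e ▸ hdK)) hfK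
  set W := E ⊓ centralizer ({u} : Set G) with hW
  by_cases hall : E ≤ centralizer ({u} : Set G)
  · exact zpowers_le.2 h.toXSub.mem (h.cent (mem_centralizer_iff.2 fun e he =>
      mem_centralizer_one.1 (hall he)))
  obtain ⟨v, hv, hvu⟩ := SetLike.not_le_iff_exists.1 hall
  have hW' : ∀ {x : G}, x ∈ E → (x ∈ W ↔ u * x * u⁻¹ = x) := by
    intro x hx
    rw [hW, Subgroup.mem_inf, mem_centralizer_one, XSub.conj_eq_self_iff]
    exact ⟨fun h => h.2.symm, fun h => ⟨hx, h.symm⟩⟩
  have hv' : u * v * u⁻¹ = v * z :=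
    (hconj v hv).resolve_left fun e => hvu ((hW' hv).2 e).2
  obtain ⟨q, hq, hqW, hqv⟩ := h.toXSub.exists_conj_mul (H := W)
    ⟨h.toXSub.mem, mem_centralizer_one.2 hzu.symm⟩ inf_le_left hv (fun hh => hvu hh.2)
  have hc2 : q⁻¹ * u ∈ centralizer (E : Set G) := by
    refine mem_centralizer_iff.2 fun x hx => ?_
    have hsame : q * x * q⁻¹ = u * x * u⁻¹ := by
      rcases hconj x hx with e | e
      · rw [e, XSub.conj_eq_self_iff]
        exact hqW x ((hW' hx).2 e)
      · have hxv : x * v⁻¹ ∈ W := (hW' (mul_mem hx (inv_mem hv))).2 <| by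
          calc u * (x * v⁻¹) * u⁻¹ = u * x * u⁻¹ * (u * v * u⁻¹)⁻¹ := by group
            _ = x * v⁻¹ := by rw [e, hv']; group
        calc q * x * q⁻¹ = q * (x * v⁻¹) * q⁻¹ * (q * v * q⁻¹) := by group
          _ = x * v⁻¹ * (v * z) := by rw [XSub.conj_eq_self_iff.2 (hqW _ hxv), hqv]
          _ = u * x * u⁻¹ := by rw [e]; group
    calc x * (q⁻¹ * u) = q⁻¹ * (q * x * q⁻¹) * u := by group
      _ = q⁻¹ * u * x := by rw [hsame]; group
  have := mul_mem hq (zpowers_le.2 h.toXSub.mem (h.cent hc2))
  rwa [mul_inv_cancel_left] at this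

/-- Transfer: an involution of `E` outside `K` has a neighbour in its coset of `⟨z⟩` conjugate to `z`. -/
theorem exists_conj_of_transfer (hres : Cfsg.pResidual 2 G = ⊤) (h : XSLocal E z) (hK : IdxTwo K z)
    (hzK : z ∈ K) (hf : f ∈ E) (hf2 : f * f = 1) (hfK : f ∉ K) :
    ∃ g : G, g * z * g⁻¹ = f ∨ g * z * g⁻¹ = z * f := by
  classical
  by_contra hcon
  push Not at hcon
  haveI : Fact (Nat.Prime 2) := ⟨Nat.prime_two⟩
  set H := centralizer ({z} : Set G) with hH
  have hEH := h.toXSub.le_centralizer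
  set P := E ⊓ centralizer ({f} : Set G) with hP
  have hPE : P ≤ E := inf_le_left
  have hfP : f ∈ P := ⟨hf, mem_centralizer_one.2 rfl⟩
  -- the cosets on which `f` is odd
  set X : Set (G ⧸ H) := {x | f • x ≠ x ∨ x.out⁻¹ * f * x.out ∉ K} with hX
  have hout : ∀ g : G, ∃ a ∈ H, (QuotientGroup.mk g : G ⧸ H).out = g * a := fun g => by
    obtain ⟨a, ha⟩ := QuotientGroup.mk_out_eq_mul H g
    exact ⟨a, a.2, ha⟩
  have hfix : ∀ g : G, f • (QuotientGroup.mk g : G ⧸ H) = QuotientGroup.mk g ↔ g⁻¹ * f * g ∈ H := fun g => by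
    rw [MulAction.Quotient.smul_mk, QuotientGroup.eq, smul_eq_mul, ← inv_mem_iff]
    congr! 1
    group
  have hmemX : ∀ g : G, (QuotientGroup.mk g : G ⧸ H) ∈ X ↔ g⁻¹ * f * g ∉ K := by
    intro g
    obtain ⟨a, ha, hga⟩ := hout g
    by_cases hg : g⁻¹ * f * g ∈ H
    · simp only [hX, Set.mem_ofPred_eq, (hfix g).2 hg, ne_eq, not_true_eq_false, false_or, hga]
      rw [show (g * a)⁻¹ * f * (g * a) = a⁻¹ * (g⁻¹ * f * g) * a⁻¹⁻¹ by group,
        hK.conj_iff (inv_mem ha) hg]
    · exact iff_of_true (Or.inl fun e => hg ((hfix g).1 e)) fun e => hg (hK.le e)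
  -- the centralizer of `f` in `E` acts on this set
  have hinv : ∀ p ∈ P, ∀ x ∈ X, p • x ∈ X := by
    intro p hp x hx
    induction x using QuotientGroup.induction_on with | H g => ?_
    rw [hmemX] at hx
    rw [MulAction.Quotient.smul_mk, hmemX, smul_eq_mul]
    rwa [show (p * g)⁻¹ * f * (p * g) = g⁻¹ * f * g by
      calc (p * g)⁻¹ * f * (p * g) = g⁻¹ * (p⁻¹ * (f * p)) * g := by group
        _ = _ := by rw [← mem_centralizer_one.1 hp.2]; group]
  let act : MulAction P X :=
    { smul := fun p x => ⟨(p : G) • (x : G ⧸ H), hinv p p.2 x x.2⟩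
      one_smul := fun x => Subtype.ext (one_smul G _)
      mul_smul := fun p q x => Subtype.ext (mul_smul (p : G) (q : G) _) }
  letI := act
  have hfixed : MulAction.fixedPoints P X = {⟨QuotientGroup.mk 1, (hmemX 1).2 (by simpa using hfK)⟩} := by
    ext ⟨x, hx⟩
    simp only [Set.mem_singleton_iff, Subtype.mk.injEq]
    induction x using QuotientGroup.induction_on with | H g => ?_
    constructor
    · intro hfx
      have hp : ∀ p ∈ P, g⁻¹ * p * g ∈ H := fun p hp => by
        have := congrArg Subtype.val (hfx ⟨p, hp⟩)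
        change p • (QuotientGroup.mk g : G ⧸ H) = QuotientGroup.mk g at this
        rw [MulAction.Quotient.smul_mk, QuotientGroup.eq, smul_eq_mul] at this
        rw [← inv_mem_iff]
        convert this using 1
        group
      set u := g * z * g⁻¹ with hu
      have huP : ∀ p ∈ P, p * u = u * p := fun p hp' => by
        have := mem_centralizer_one.1 (hp p hp')
        calc p * u = g * (g⁻¹ * p * g * z) * g⁻¹ := by rw [hu]; group
          _ = g * (z * (g⁻¹ * p * g)) * g⁻¹ := by rw [this]
          _ = u * p := by rw [hu]; group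
      have huH : u ∈ H := mem_centralizer_one.2
        (huP z ⟨h.toXSub.mem, mem_centralizer_one.2 (h.toXSub.comm hf).symm⟩).symm
      have huE : u ∈ E := mem_of_fix_hyperplane h (fun a ha b hb => hK.comm_mem ha hb) hzK hf hf2 hfK huH fun y hy hyf =>
        Or.inl (XSub.conj_eq_self_iff.2 (huP y ⟨hy, mem_centralizer_one.2 hyf⟩).symm)
      rcases h.toXSub.mem_pair_of_commute hf hf2 huE
          (fun p hp hpf => huP p ⟨hp, mem_centralizer_one.2 hpf⟩) with e | e | e | e
      · rw [hu, conj_eq_one_iff] at e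
        exact absurd e h.toXSub.ne_one
      · rw [QuotientGroup.eq, mul_one, inv_mem_iff]
        exact mem_centralizer_one.2 (mul_inv_eq_iff_eq_mul.1 (hu ▸ e))
      · exact absurd e (hcon g).1
      · exact absurd e (hcon g).2
    · intro e
      rw [MulAction.mem_fixedPoints]
      intro p
      apply Subtype.ext
      change (p : G) • (QuotientGroup.mk g : G ⧸ H) = QuotientGroup.mk g
      rw [e, MulAction.Quotient.smul_mk, QuotientGroup.eq, smul_eq_mul, mul_one, mul_one, inv_mem_iff]
      exact hEH (hPE p.2)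
  have hPp : IsPGroup 2 P := by
    obtain ⟨k, hk⟩ := FGBasics.XS.exists_card_eq h.xs
    exact (IsPGroup.of_card hk.2).to_le hPE
  have hXodd : Odd (Nat.card X) := by
    have := hPp.card_modEq_card_fixedPoints X
    rw [hfixed, Nat.card_coe_set_eq {_}, Set.ncard_singleton] at this
    exact Nat.odd_iff.2 this
  -- the sign of `f` on the cosets of `K`
  haveI : Fintype (G ⧸ K) := Fintype.ofFinite _
  set σ : Equiv.Perm (G ⧸ K) := MulAction.toPermHom G (G ⧸ K) f with hσ
  let π : G ⧸ K → G ⧸ H := Quotient.map' id fun a b hab => by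
    rw [QuotientGroup.leftRel_apply] at hab ⊢
    exact hK.le hab
  have hπ : ∀ g : G, π (QuotientGroup.mk g) = QuotientGroup.mk g := fun g => rfl
  have hmove : ∀ y : G ⧸ K, σ y ≠ y ↔ π y ∈ X := by
    intro y
    induction y using QuotientGroup.induction_on with | H g => ?_
    rw [hπ, hmemX, hσ, MulAction.toPermHom_apply, MulAction.toPerm_apply, ne_eq,
      MulAction.Quotient.smul_mk, QuotientGroup.eq, smul_eq_mul, ← inv_mem_iff (H := K)]
    congr! 2
    group
  have hcard : σ.support.card = 2 * Nat.card X := by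
    have e1 : σ.support.card = Nat.card {y : G ⧸ K // π y ∈ X} := by
      rw [← Nat.card_eq_finsetCard]
      exact Nat.card_congr (Equiv.subtypeEquivRight fun y => by rw [Equiv.Perm.mem_support, hmove])
    have hfib : ∀ x : G ⧸ H, Nat.card {y : G ⧸ K // π y = x} = 2 := by
      intro x
      have e := Subgroup.quotientEquivProdOfLE hK.le
      have h2 : Nat.card (H ⧸ K.subgroupOf H) = 2 := by
        have h3 := hK.idx
        rw [Subgroup.index_eq_card, Subgroup.index_eq_card, Nat.card_congr e, Nat.card_prod] at h3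
        exact Nat.eq_of_mul_eq_mul_left (Nat.card_pos (α := G ⧸ H)) (h3.trans (mul_comm _ _))
      induction x using QuotientGroup.induction_on with | H g => ?_
      refine (Nat.card_congr ?_).trans h2
      refine (Equiv.ofBijective (fun a : H ⧸ K.subgroupOf H => (⟨a.liftOn' (fun a => QuotientGroup.mk (g * a))
        (fun a b hab => QuotientGroup.eq.2 ?_), ?_⟩ : {y : G ⧸ K // π y = QuotientGroup.mk g})) ⟨?_, ?_⟩).symm
      · rw [QuotientGroup.leftRel_apply, mem_subgroupOf] at hab
        convert hab using 1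
        push_cast
        group
      · induction a using QuotientGroup.induction_on with | H a => ?_
        show (QuotientGroup.mk (g * a) : G ⧸ H) = QuotientGroup.mk g
        exact QuotientGroup.mk_mul_of_mem g a.2
      · intro a b hab
        induction a using QuotientGroup.induction_on with | H a => ?_
        induction b using QuotientGroup.induction_on with | H b => ?_
        have := QuotientGroup.eq.1 (congrArg Subtype.val hab)
        rw [QuotientGroup.eq, mem_subgroupOf]
        convert this using 1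
        push_cast
        group
      · rintro ⟨y, hy⟩
        induction y using QuotientGroup.induction_on with | H b => ?_
        have hb := QuotientGroup.eq.1 hy.symm
        refine ⟨QuotientGroup.mk ⟨g⁻¹ * b, hb⟩, Subtype.ext ?_⟩
        show (QuotientGroup.mk (g * (g⁻¹ * b)) : G ⧸ K) = _
        rw [mul_inv_cancel_left]
    haveI : Fintype X := Fintype.ofFinite _
    rw [e1, ← Nat.card_congr (Equiv.sigmaSubtypeFiberEquivSubtype π
      (p := fun y => π y ∈ X) (q := fun x => x ∈ X) (fun _ => Iff.rfl)), Nat.card_sigma,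
      Finset.sum_congr rfl (fun (x : X) _ => hfib x), Finset.sum_const, Finset.card_univ,
      ← Nat.card_eq_fintype_card, smul_eq_mul, mul_comm]
  have hsign : Equiv.Perm.sign σ = -1 := by
    have hσ2 : σ ^ 2 = 1 := by rw [hσ, ← map_pow, pow_two, hf2, map_one]
    have hct : ∀ l ∈ σ.cycleType, l = 2 := fun l hl =>
      le_antisymm (Nat.le_of_dvd two_pos ((Equiv.Perm.dvd_of_mem_cycleType hl).trans
        (orderOf_dvd_of_pow_eq_one hσ2))) (Equiv.Perm.two_le_of_mem_cycleType hl)
    have hrep := Multiset.eq_replicate_card.2 hct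
    rw [Equiv.Perm.sign_of_cycleType]
    have hs := Equiv.Perm.sum_cycleType σ
    rw [hrep, Multiset.sum_replicate, smul_eq_mul, hcard] at hs
    have : Multiset.card σ.cycleType = Nat.card X := by omega
    rw [hrep, Multiset.sum_replicate, Multiset.card_replicate, smul_eq_mul, this]
    exact ((even_two.mul_left _).add_odd hXodd).neg_one_pow
  have htriv := SignThompson.hom_eq_one hres (Equiv.Perm.sign.comp (MulAction.toPermHom G (G ⧸ K))) f
  rw [MonoidHom.comp_apply, ← hσ, hsign] at htriv
  exact absurd htriv (by decide)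

/-- A subgroup containing `z` and all commutators of `C(z)` contains every conjugate of `z` in `E`. -/
theorem mem_of_conj (h : XSLocal E z) (h32 : 32 ≤ Nat.card E)
    (hKc : ∀ a ∈ centralizer ({z} : Set G), ∀ b ∈ centralizer ({z} : Set G), ⁅a, b⁆ ∈ K) (hzK : z ∈ K)
    (hf : f ∈ E) {g : G} (hg : g * z * g⁻¹ = f) : f ∈ K := by
  classical
  by_contra hfK
  have hEH := h.toXSub.le_centralizer
  have hf2 : f * f = 1 := by
    rw [← hg]
    calc g * z * g⁻¹ * (g * z * g⁻¹) = g * (z * z) * g⁻¹ := by group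
      _ = 1 := by rw [h.toXSub.sq, mul_one, mul_inv_cancel]
  have hu := h.conj g
  rw [hg] at hu
  set F := E.map (MulAut.conj g).toMonoidHom with hF
  have h32F : 32 ≤ Nat.card F := by
    rwa [hF, Subgroup.card_map_of_injective (MulAut.conj g).injective]
  have hzf : z * f = f * z := (h.toXSub.comm hf).symm
  have hzNF : z ∈ normalizer (F : Set G) := hu.norm (mem_centralizer_one.2 hzf)
  -- the intersection with `E` is small
  have hD : ∀ w ∈ F, w ∈ E → (w = 1 ∨ w = z ∨ w = f ∨ w = z * f) := by
    intro w hwF hwE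
    by_cases hzF : z ∈ F
    · have key := hu.toXSub.mem_pair_of_commute hzF h.toXSub.sq hwF fun y hy hyz => by
        rcases hu.toXSub.conj_cases hy hwF with e | e
        · exact XSub.conj_eq_self_iff.1 e
        · refine absurd ?_ hfK
          have := hKc _ (mem_centralizer_one.2 hyz) _ (hEH hwE)
          rwa [commutatorElement_def, e, hu.toXSub.comm hwF, mul_inv_cancel_right] at this
      rw [← hzf] at key
      rcases key with e | e | e | e
      exacts [Or.inl e, Or.inr (Or.inr (Or.inl e)), Or.inr (Or.inl e), Or.inr (Or.inr (Or.inr e))]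
    · refine h.toXSub.mem_pair_of_commute hf hf2 hwE fun y hy hyf => ?_
      rcases h.toXSub.conj_cases hy hwE with e | e
      · exact XSub.conj_eq_self_iff.1 e
      · refine absurd ?_ hzF
        have := mul_mem (conj_mem (hu.norm (mem_centralizer_one.2 hyf)) hwF) (inv_mem hwF)
        rwa [e, h.toXSub.comm hwE, mul_inv_cancel_right] at this
  -- elements of `F` centralizing `z` lie in `E`
  have hUE : ∀ w ∈ F, w * z = z * w → w ∈ E := by
    intro w hwF hwz
    have hwH : w ∈ centralizer ({z} : Set G) := mem_centralizer_one.2 hwz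
    refine mem_of_fix_hyperplane h hKc hzK hf hf2 hfK hwH fun y hy hyf => ?_
    have hd1 : w * y * w⁻¹ * y⁻¹ ∈ E := mul_mem (conj_mem (h.norm hwH) hy) (inv_mem hy)
    have hd2 : w * y * w⁻¹ * y⁻¹ ∈ F := by
      rw [show w * y * w⁻¹ * y⁻¹ = w * (y * w⁻¹ * y⁻¹) by group]
      exact mul_mem hwF (conj_mem (hu.norm (mem_centralizer_one.2 hyf)) (inv_mem hwF))
    have hd3 : w * y * w⁻¹ * y⁻¹ ∈ K := hKc w hwH y (hEH hy)
    rcases hD _ hd2 hd1 with e | e | e | e
    · exact Or.inl (mul_inv_eq_one.1 e)
    · exact Or.inr (by rw [mul_inv_eq_iff_eq_mul.1 e, h.toXSub.comm hy])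
    · exact absurd (e ▸ hd3) hfK
    · exact absurd ((mul_mem_cancel_left hzK).1 (e ▸ hd3)) hfK
  set U := F ⊓ centralizer ({z} : Set G) with hU
  have hU4 : Nat.card U ≤ 4 ∧ (z ∉ F → ∀ w ∈ U, w = 1 ∨ w = f) := by
    have hmem : ∀ w ∈ U, w = 1 ∨ w = z ∨ w = f ∨ w = z * f := fun w hw =>
      hD w hw.1 (hUE w hw.1 (mem_centralizer_one.1 hw.2))
    refine ⟨?_, fun hzF w hw => ?_⟩
    · have hsub : (U : Set G) ⊆ ({1, z, f, z * f} : Finset G) := fun w hw => by
        simpa using hmem w hw
      rw [← SetLike.coe_sort_coe, Nat.card_coe_set_eq]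
      refine (Set.ncard_le_ncard hsub (Finset.finite_toSet _)).trans ?_
      rw [Set.ncard_coe_finset]
      exact Finset.card_le_four
    · rcases hmem w hw with e | e | e | e
      exacts [Or.inl e, absurd (e ▸ hw.1) hzF, Or.inr e,
        absurd ((mul_mem_cancel_right hu.toXSub.mem).1 (e ▸ hw.1)) hzF]
  by_cases hzF : z ∈ F
  · have h1 := FGBasics.XS.centralizer_index_le hu.xs (⟨z, hzF⟩ : F)
    have h2 := (centralizer ({(⟨z, hzF⟩ : F)} : Set F)).card_mul_index
    have h3 : Nat.card (centralizer ({(⟨z, hzF⟩ : F)} : Set F)) ≤ Nat.card U :=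
      Nat.card_le_card_of_injective (fun a => ⟨a.1, a.1.2,
        mem_centralizer_one.2 (congrArg Subtype.val (mem_centralizer_singleton_iff.1 a.2))⟩)
        fun a b hab => Subtype.ext (Subtype.ext (congrArg Subtype.val hab :))
    have := hU4.1
    nlinarith
  · -- an involution cannot have so few fixed points
    haveI : Fintype F := Fintype.ofFinite _
    let δ : F → G := fun a => z * a * z * (a : G)⁻¹
    have hzinv := h.toXSub.inv_eq
    have hδF : ∀ a : F, δ a ∈ F ∧ z * δ a * z = (δ a)⁻¹ := fun a => by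
      constructor
      · have := mul_mem (conj_mem hzNF a.2) (inv_mem a.2)
        rwa [hzinv] at this
      · calc z * δ a * z = z * z * a * z * (a : G)⁻¹ * z := by simp only [δ]; group
          _ = (a : G) * z⁻¹ * (a : G)⁻¹ * z⁻¹ := by rw [h.toXSub.sq, hzinv]; simp [mul_assoc]
          _ = (δ a)⁻¹ := by simp only [δ, mul_inv_rev, inv_inv, mul_assoc]
    have hU2 : ∀ w ∈ F, w * z = z * w → w = 1 ∨ w = f := fun w hw hwz =>
      hU4.2 hzF w ⟨hw, mem_centralizer_one.2 hwz⟩
    -- the elements inverted by `z`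
    set S : Finset F := Finset.univ.filter fun w : F => z * (w : G) * z = (w : G)⁻¹ with hS
    have hinv1 : ∀ w : F, w ∈ S → (w : G) * w = 1 → (w : G) = 1 ∨ (w : G) = f := fun w hw hw2 => by
      refine hU2 w w.2 ?_
      have h' : z * (w : G) * z = w := by
        rw [(Finset.mem_filter.1 hw).2]; exact inv_eq_of_mul_eq_one_right hw2
      calc (w : G) * z = z * (w : G) * z * z := by rw [h']
        _ = z * w := by rw [mul_assoc _ z z, h.toXSub.sq, mul_one]
    have hS4 : S.card ≤ 4 := by
      by_cases hall : ∀ w ∈ S, (w : G) * w = 1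
      · calc S.card = (S.image fun w : F => (w : G)).card := (Finset.card_image_of_injective _ Subtype.val_injective).symm
          _ ≤ ({1, f} : Finset G).card := Finset.card_le_card fun w hw => by
              obtain ⟨w, hw', rfl⟩ := Finset.mem_image.1 hw
              simpa using hinv1 w hw' (hall w hw')
          _ ≤ 4 := Finset.card_le_two.trans (by norm_num)
      push Not at hall
      obtain ⟨w₀, hw₀, hw₀2⟩ := hall
      calc S.card = (S.image fun w : F => (w : G)).card := (Finset.card_image_of_injective _ Subtype.val_injective).symm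
        _ ≤ ({1, f, (w₀ : G), f * w₀} : Finset G).card := Finset.card_le_card fun w hw => by
            obtain ⟨w, hw', rfl⟩ := Finset.mem_image.1 hw
            by_cases hw2 : (w : G) * w = 1
            · rcases hinv1 w hw' hw2 with e | e <;> simp [e]
            have e1 : (w : G)⁻¹ = w * f := inv_eq_of_mul_eq_one_right (by
              rw [← mul_assoc, (hu.toXSub.sq_cases w.2).resolve_left hw2, hf2])
            have e0 : (w₀ : G)⁻¹ = w₀ * f := inv_eq_of_mul_eq_one_right (by
              rw [← mul_assoc, (hu.toXSub.sq_cases w₀.2).resolve_left hw₀2, hf2])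
            have hfw := hu.toXSub.comm w₀.2
            have hfix : z * ((w : G) * (w₀ : G)⁻¹) * z = (w : G) * (w₀ : G)⁻¹ := by
              calc z * ((w : G) * (w₀ : G)⁻¹) * z = z * w * z * (z * w₀ * z)⁻¹ := by
                    rw [mul_inv_rev, mul_inv_rev, hzinv]
                    simp only [mul_assoc]
                    rw [← mul_assoc z z, h.toXSub.sq, one_mul]
                _ = (w : G)⁻¹ * (w₀ : G)⁻¹⁻¹ := by
                    simp only [hS, Finset.mem_filter] at hw' hw₀
                    rw [hw'.2, hw₀.2]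
                _ = w * (f * w₀) := by rw [e1, inv_inv, mul_assoc]
                _ = w * (w₀ : G)⁻¹ := by rw [e0, hfw]
            rcases hU2 _ (mul_mem w.2 (inv_mem w₀.2)) (by
              calc (w : G) * (w₀ : G)⁻¹ * z = z * ((w : G) * (w₀ : G)⁻¹) * z * z := by rw [hfix]
                _ = z * ((w : G) * (w₀ : G)⁻¹) := by rw [mul_assoc _ z z, h.toXSub.sq, mul_one]) with e | e
            · simp [mul_inv_eq_one.1 e]
            · simp [mul_inv_eq_iff_eq_mul.1 e]
        _ ≤ 4 := Finset.card_le_four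
    let δ' : F → F := fun a => ⟨δ a, (hδF a).1⟩
    have hle := Finset.card_le_mul_card_image_of_maps_to (f := δ') (s := Finset.univ) (t := S)
      (fun a _ => Finset.mem_filter.2 ⟨Finset.mem_univ _, (hδF a).2⟩) 2 fun b hb => by
      rcases (Finset.univ.filter fun a : F => δ' a = b).eq_empty_or_nonempty with he | ⟨a₀, ha₀⟩
      · simp [he]
      rw [← Finset.card_image_of_injective _ Subtype.val_injective]
      refine (Finset.card_le_card (t := ({(a₀ : G), (a₀ : G) * f} : Finset G)) fun w hw => ?_).trans Finset.card_le_two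
      obtain ⟨a, ha, rfl⟩ := Finset.mem_image.1 hw
      have hab : δ a = δ a₀ := congrArg Subtype.val ((Finset.mem_filter.1 ha).2.trans (Finset.mem_filter.1 ha₀).2.symm)
      rcases hU2 ((a₀ : G)⁻¹ * a) (mul_mem (inv_mem a₀.2) a.2) (by
        calc (a₀ : G)⁻¹ * a * z = (a₀ : G)⁻¹ * z⁻¹ * ((z * a * z * (a : G)⁻¹) * a) := by group
          _ = (a₀ : G)⁻¹ * z⁻¹ * ((z * a₀ * z * (a₀ : G)⁻¹) * a) := by rw [show z * (a : G) * z * (a : G)⁻¹ = _ from hab]
          _ = z * ((a₀ : G)⁻¹ * a) := by group) with e | e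
      · simp [(inv_mul_eq_one.1 e).symm]
      · simp [inv_mul_eq_iff_eq_mul.1 e]
    rw [Finset.card_univ, ← Nat.card_eq_fintype_card] at hle
    omega

/-- The extraspecial normal subgroup lies in every subgroup of index two of `C(z)`. -/
theorem le_of_idxTwo (hres : Cfsg.pResidual 2 G = ⊤) (h : XSLocal E z) (h32 : 32 ≤ Nat.card E)
    (hK : IdxTwo K z) : E ≤ K := by
  classical
  by_contra hEK
  obtain ⟨x, hx, hxK⟩ := SetLike.not_le_iff_exists.1 hEK
  have hEH := h.toXSub.le_centralizer
  have hzH : z ∈ centralizer ({z} : Set G) := hEH h.toXSub.mem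
  have hzK : z ∈ K := by
    obtain ⟨q, hq, a, ha, -, -, e⟩ := h.toXSub.exists_noncomm h32 hx
    have := hK.comm_mem (hEH hq) (hEH ha)
    rwa [commutatorElement_def, e, h.toXSub.comm ha, mul_inv_cancel_right] at this
  -- an involution of `E` outside `K`
  obtain ⟨f, hf, hf2, hfK⟩ : ∃ f ∈ E, f * f = 1 ∧ f ∉ K := by
    rcases h.toXSub.sq_cases hx with hx2 | hx2
    · exact ⟨x, hx, hx2, hxK⟩
    obtain ⟨a, ha, b, hb, hax, hbx, hab⟩ := h.toXSub.exists_noncomm h32 hx
    have hba : b * a = a * b * z := by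
      have h2 := h.toXSub.sq
      calc b * a = a * b * a⁻¹ * z * a := by rw [hab, mul_assoc b z z, h2, mul_one]
        _ = a * b * a⁻¹ * a * z := by rw [mul_assoc _ z a, ← h.toXSub.comm ha, ← mul_assoc]
        _ = a * b * z := by rw [inv_mul_cancel_right]
    by_contra hno
    push Not at hno
    have hout : ∀ y ∈ E, y ∉ K → y * y = z := fun y hy hyK => (h.toXSub.sq_cases hy).resolve_left
      fun e => hyK (hno y hy e)
    have hin : ∀ y ∈ E, y * x = x * y → y ∈ K → y * y = 1 := fun y hy hyx hyK => by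
      have := hout (x * y) (mul_mem hx hy) fun hc => hxK ((mul_mem_cancel_right hyK).1 hc)
      rw [show x * y * (x * y) = x * (y * x) * y by group, hyx,
        show x * (x * y) * y = x * x * (y * y) by group, hx2] at this
      exact mul_eq_left.1 this
    have hab2 : a * b * (a * b) = a * a * (b * b) * z := by
      calc a * b * (a * b) = a * (b * a) * b := by group
        _ = a * a * b * (z * b) := by rw [hba]; group
        _ = a * a * (b * b) * z := by rw [← h.toXSub.comm hb]; group
    have habx : a * b * x = x * (a * b) := by rw [mul_assoc, hbx, ← mul_assoc, hax, mul_assoc]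
    have habK := hK.mul_iff a (hEH ha) b (hEH hb)
    have hz1 := h.toXSub.ne_one
    by_cases haK : a ∈ K <;> by_cases hbK : b ∈ K
    · rw [hin a ha hax haK, hin b hb hbx hbK,
        hin _ (mul_mem ha hb) habx (habK.2 (iff_of_true haK hbK))] at hab2
      exact hz1 (by simpa using hab2.symm)
    · rw [hin a ha hax haK, hout b hb hbK,
        hout _ (mul_mem ha hb) fun hc => hbK ((habK.1 hc).1 haK)] at hab2
      exact hz1 (by simpa [h.toXSub.sq] using hab2)
    · rw [hout a ha haK, hin b hb hbx hbK,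
        hout _ (mul_mem ha hb) fun hc => haK ((habK.1 hc).2 hbK)] at hab2
      exact hz1 (by simpa [h.toXSub.sq] using hab2)
    · rw [hout a ha haK, hout b hb hbK,
        hin _ (mul_mem ha hb) habx (habK.2 (iff_of_false haK hbK)), h.toXSub.sq, one_mul] at hab2
      exact hz1 hab2.symm
  obtain ⟨g, hg⟩ := exists_conj_of_transfer hres h hK hzK hf hf2 hfK
  obtain ⟨f, hf, hf2, hfK, g, hg⟩ : ∃ f ∈ E, f * f = 1 ∧ f ∉ K ∧ ∃ g : G, g * z * g⁻¹ = f := by
    rcases hg with hg | hg
    · exact ⟨f, hf, hf2, hfK, g, hg⟩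
    · refine ⟨z * f, mul_mem h.toXSub.mem hf, ?_, fun hc => hfK ((mul_mem_cancel_left hzK).1 hc), g, hg⟩
      rw [mul_assoc, ← mul_assoc f z f, h.toXSub.comm hf, mul_assoc z f f, hf2, mul_one, h.toXSub.sq]
  exact hfK (mem_of_conj h h32 (fun a ha b hb => hK.comm_mem ha hb) hzK hf (g := g) hg)

end Cfsg.Agent.LargeExtra
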