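import Cfsg.Agent.Lib.LargeExtra.Setting
import Cfsg.Agent.Lib.Components.Local
import Cfsg.Agent.Lib.MinNormal.Factors
import Mathlib.GroupTheory.Transfer

/-!
The minimal normal subgroup of a group with a large extraspecial 2-subgroup.
-/

set_option autoImplicit false
set_option linter.unusedSectionVars false
set_option linter.style.haveILetI false

namespace Cfsg.Agent.LargeExtra

open Subgroup
open scoped commutatorElement

/-- In a non-abelian simple group no involution is self-centralizing. -/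
theorem false_of_centralizer_two {U : Type*} [Group U] [Finite U] [IsSimpleGroup U]
    (hna : ¬ IsMulCommutative U) {x : U} (hx1 : x ≠ 1) (hx : x * x = 1)
    (hC : ∀ c : U, c * x = x * c → c = 1 ∨ c = x) : False := by
  haveI : Fact (Nat.Prime 2) := ⟨Nat.prime_two⟩
  have hord : orderOf x = 2 := orderOf_eq_prime (by rw [pow_two, hx]) hx1
  have hev : 2 ∣ Nat.card U := hord ▸ orderOf_dvd_natCard x
  have hp : (Nat.card U).minFac = 2 := (Nat.minFac_eq_two_iff _).2 hev
  obtain ⟨P, hP⟩ := (IsPGroup.of_card (G := zpowers x) (n := 1) (by rw [Nat.card_zpowers, hord, pow_one])).exists_le_sylow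
  have hxP : x ∈ (P : Subgroup U) := hP (mem_zpowers x)
  haveI : Nontrivial (P : Subgroup U) := ⟨⟨⟨x, hxP⟩, 1, fun e => hx1 (congrArg Subtype.val e)⟩⟩
  haveI := P.isPGroup'.center_nontrivial
  obtain ⟨⟨y, hy⟩, hy1⟩ := exists_ne (1 : center (P : Subgroup U))
  have hyx : (y : U) = x := by
    rcases hC y (congrArg Subtype.val (mem_center_iff.1 hy ⟨x, hxP⟩)).symm with e | e
    · exact absurd (Subtype.ext (Subtype.ext e)) hy1
    · exact e
  have hPle : (P : Subgroup U) ≤ zpowers x := by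
    intro q hq
    have h1 : q * (y : U) = (y : U) * q := congrArg Subtype.val (mem_center_iff.1 hy ⟨q, hq⟩)
    rw [hyx] at h1
    rcases hC q h1 with rfl | rfl
    · exact one_mem _
    · exact mem_zpowers _
  have hPe : (P : Subgroup U) = zpowers x := le_antisymm hPle hP
  have hcyc : IsCyclic (P : Subgroup U) := by rw [hPe]; infer_instance
  have hK := IsCyclic.isComplement' hp hcyc
  rcases (inferInstance : (MonoidHom.transferSylow P (hcyc.normalizer_le_centralizer hp)).ker.Normal).eq_bot_or_eq_top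
    with e | e
  · rw [e, isComplement'_bot_left] at hK
    refine hna ⟨⟨fun a b => ?_⟩⟩
    have hmem : ∀ c : U, c = 1 ∨ c = x := fun c => hC c (by
      obtain ⟨k, hk⟩ := (hPe ▸ hK ▸ mem_top c : c ∈ zpowers x)
      rw [← hk]
      exact ((Commute.refl x).zpow_left k).eq)
    rcases hmem a with rfl | rfl <;> rcases hmem b with rfl | rfl <;> simp
  · rw [e, isComplement'_top_left] at hK
    exact hx1 (mem_bot.1 (hK ▸ hxP))

variable {G : Type*} [Group G] [Finite G] {Q : Subgroup G} {z : G}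

namespace XSLocal

/-- The normal closure of `z` lies in every non-trivial normal subgroup. -/
theorem closure_le_normal (h : XSLocal Q z) (hL : IsLargeExtraspecial Q) {N : Subgroup G} (hN : N.Normal)
    (hne : N ≠ ⊥) : normalClosure ({z} : Set G) ≤ N :=
  normalClosure_le_normal (Set.singleton_subset_iff.2 (h.mem_of_normal hL le_normalizer_of_normal hne))

theorem fitting_le (_h : XSLocal Q z) (hL : IsLargeExtraspecial Q) :
    Cfsg.fittingSubgroup G ≤ Cfsg.pCore 2 G := by
  haveI : (Cfsg.fittingSubgroup G).Normal := Components.fittingSubgroup_normal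
  haveI : Group.IsNilpotent ↥(Cfsg.fittingSubgroup G) := Components.fittingSubgroup_nilpotent
  haveI : Fact (Nat.Prime 2) := ⟨Nat.prime_two⟩
  refine le_sSup ⟨inferInstance, ?_⟩
  rw [IsPGroup.iff_card]
  set n := Nat.card ↥(Cfsg.fittingSubgroup G) with hn
  refine ⟨n.primeFactorsList.length, Nat.eq_prime_pow_of_unique_prime_dvd Nat.card_pos.ne' ?_⟩
  intro p hp hpn
  by_contra hp2
  haveI : Fact p.Prime := ⟨hp⟩
  obtain ⟨⟨y, hy⟩, hyo⟩ := exists_prime_orderOf_dvd_card' p hpn
  rw [orderOf_mk] at hyo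
  have hyP := FiniteGroup.mem_pCore_of_mem_normal_nilpotent _ hy ⟨1, by rw [hyo, pow_one]⟩
  have hpo : Odd (Nat.card ↥(Cfsg.pCore p G)) := by
    obtain ⟨k, hk⟩ := (FiniteGroup.pCore_isPGroup (G := G) p).exists_card_eq
    rw [hk]
    exact (hp.odd_of_ne_two hp2).pow
  haveI := FiniteGroup.pCore_normal (G := G) p
  rw [hL.2.2.2 _ hpo le_normalizer_of_normal, mem_bot] at hyP
  rw [hyP, orderOf_one] at hyo
  exact hp.one_lt.ne hyo

/-- The abelian case. -/
theorem fstar_of_abelian (h : XSLocal Q z) (hL : IsLargeExtraspecial Q)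
    (hab : IsMulCommutative ↥(normalClosure ({z} : Set G))) :
    Cfsg.generalizedFittingSubgroup G = Cfsg.pCore 2 G := by
  haveI : Fact (Nat.Prime 2) := ⟨Nat.prime_two⟩
  refine le_antisymm (sup_le ?_ (h.fitting_le hL))
    (Components.pCore_le_fittingSubgroup.trans le_sup_right)
  suffices hb : Cfsg.layer G = ⊥ by rw [hb]; exact bot_le
  by_contra hne
  have hn : (Cfsg.layer G).Normal := Components.layer_normal
  haveI := hn
  set M := normalClosure ({z} : Set G)
  haveI : Group.IsSolvable ↥M := by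
    letI : CommGroup ↥M := { (inferInstance : Group ↥M) with mul_comm := hab.is_comm.comm }
    infer_instance
  have hEM := Components.layer_commute_solvable (H := M) inferInstance le_normalizer_of_normal
  have hEz : Cfsg.layer G ≤ normalizer (Q : Set G) := fun e he => h.norm <| mem_centralizer_one.2 <|
    commutatorElement_eq_one_iff_mul_comm.1 <| mem_bot.1 <| hEM ▸
      commutator_mem_commutator he (subset_normalClosure (Set.mem_singleton z) : z ∈ M)
  set H := Q ⊓ Cfsg.layer G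
  haveI : Group.IsNilpotent ↥Q := h.xs.1.1.isNilpotent
  haveI : Group.IsSolvable ↥H := by
    haveI : Group.IsSolvable ↥Q := inferInstance
    exact Components.isSolvable_mono inf_le_left
  have hH : ⁅Cfsg.layer G, H⁆ = ⊥ := Components.layer_commute_solvable (H := H) inferInstance
    ((le_inf hEz le_normalizer).trans inf_normalizer_le_normalizer_inf)
  have h1 : ⁅⁅Cfsg.layer G, Q⁆, Cfsg.layer G⁆ = ⊥ := by
    have hle : ⁅Cfsg.layer G, Q⁆ ≤ H := by
      rw [commutator_le]
      intro e he q hq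
      rw [commutatorElement_def]
      refine ⟨(show e * q * e⁻¹ * q⁻¹ ∈ Q from mul_mem (conj_mem (hEz he) hq) (inv_mem hq)), ?_⟩
      show e * q * e⁻¹ * q⁻¹ ∈ Cfsg.layer G
      rw [show e * q * e⁻¹ * q⁻¹ = e * (q * e⁻¹ * q⁻¹) by group]
      exact mul_mem he (hn.conj_mem _ (inv_mem he) q)
    rw [eq_bot_iff, ← hH, commutator_comm (Cfsg.layer G) H]
    exact commutator_mono hle le_rfl
  have h2 : ⁅⁅Q, Cfsg.layer G⁆, Cfsg.layer G⁆ = ⊥ := by rw [commutator_comm Q]; exact h1
  have h3 := commutator_commutator_eq_bot_of_rotate (H₁ := Cfsg.layer G) (H₂ := Cfsg.layer G) (H₃ := Q) h1 h2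
  rw [Components.layer_commutator_eq] at h3
  have hle : Cfsg.layer G ≤ zpowers z := (commutator_eq_bot_iff_le_centralizer.1 h3).trans h.cent
  haveI : Group.IsNilpotent ↥(zpowers z) := Components.isNilpotent_mono (zpowers_le.2 h.mem)
  exact hne (Components.layer_eq_bot_of_le hle)

/-- The non-abelian case. -/
theorem fstar_of_nonabelian (h : XSLocal Q z) (hL : IsLargeExtraspecial Q)
    (hna : ¬ IsMulCommutative ↥(normalClosure ({z} : Set G))) :
    normalClosure ({z} : Set G) = Cfsg.generalizedFittingSubgroup G := by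
  haveI : Fact (Nat.Prime 2) := ⟨Nat.prime_two⟩
  set M := normalClosure ({z} : Set G) with hM
  have hMne : M ≠ ⊥ := fun e => h.ne_one (mem_bot.1 (e ▸ subset_normalClosure (Set.mem_singleton z)))
  have hCM : centralizer (M : Set G) = ⊥ := by
    by_contra hne
    exact hna (le_centralizer_iff_isMulCommutative.1 (h.closure_le_normal hL inferInstance hne))
  have hp : Cfsg.pCore 2 G = ⊥ := by
    by_contra hne
    have hle : M ≤ Cfsg.pCore 2 G := h.closure_le_normal hL (FiniteGroup.pCore_normal 2) hne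
    have hMp : IsPGroup 2 ↥M := (FiniteGroup.pCore_isPGroup 2).to_le hle
    haveI : Nontrivial ↥M := (nontrivial_iff_ne_bot _).2 hMne
    haveI := hMp.center_nontrivial
    haveI : ((center ↥M).map M.subtype).Normal := inferInstance
    have hcne : (center ↥M).map M.subtype ≠ ⊥ := fun e =>
      (nontrivial_iff_ne_bot _).1 inferInstance ((map_eq_bot_iff_of_injective _ M.subtype_injective).1 e)
    refine hna ⟨⟨fun a b => ?_⟩⟩
    obtain ⟨c, hc, hca⟩ := h.closure_le_normal hL inferInstance hcne a.2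
    rw [← (Subtype.ext hca : c = a)]
    exact (mem_center_iff.1 hc b).symm
  have hF : Cfsg.generalizedFittingSubgroup G = Cfsg.layer G := by
    rw [Cfsg.generalizedFittingSubgroup, eq_bot_iff.2 ((h.fitting_le hL).trans hp.le), sup_bot_eq]
  refine le_antisymm ?_ ?_
  · rw [hF]
    refine h.closure_le_normal hL Components.layer_normal fun e => hMne ?_
    have h1 := Components.centralizer_generalizedFitting_le (G := G)
    rw [hF, e] at h1
    exact le_bot_iff.1 fun a _ => h1 (by simp [mem_centralizer_iff])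
  · rw [hF, Components.layer_le_iff]
    intro L hcomp
    refine (Components.component_le_or_commute hcomp (normalClosure_normal (s := ({z} : Set G))).isSubnormal).resolve_right
      fun e => Components.component_ne_bot hcomp (le_bot_iff.1 ?_)
    exact hCM ▸ commutator_eq_bot_iff_le_centralizer.1 e

end XSLocal

/-! ### The factors -/

section Factors

open MinFactors

variable (S : NAMin G)

/-- Conjugation of factors. -/
def facConj (g : G) (U : S.Fac) : S.Fac :=
  ⟨conjS g U.1, by obtain ⟨k, hk⟩ := U.2; exact ⟨g * k, by rw [← conjS_conjS, hk]⟩⟩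

theorem facConj_mul (g k : G) (U : S.Fac) : facConj S (g * k) U = facConj S g (facConj S k U) :=
  Subtype.ext (conjS_conjS g k U.1).symm

theorem facConj_one (U : S.Fac) : facConj S 1 U = U := Subtype.ext (conjS_one U.1)

theorem conj_others {g c : G} {U : S.Fac} (hc : c ∈ S.others U) : g * c * g⁻¹ ∈ S.others (facConj S g U) := by
  have hle : S.others U ≤ (S.others (facConj S g U)).comap (MulAut.conj g).toMonoidHom :=
    iSup₂_le fun V hV v hv => S.le_others (V := facConj S g V) (fun e => hV (by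
      have := congrArg (facConj S g⁻¹) e
      rwa [← facConj_mul, ← facConj_mul, inv_mul_cancel, facConj_one, facConj_one] at this))
      (show g * v * g⁻¹ ∈ conjS g V.1 from ⟨v, hv, rfl⟩)
  exact hle hc

theorem conj_mem_N (g : G) {x : G} (hx : x ∈ S.N) : g * x * g⁻¹ ∈ S.N := S.normal.conj_mem x hx g

/-- Projection as an element of the group. -/
noncomputable def comp (U : S.Fac) (x : S.N) : G := (S.proj U x : G)

theorem comp_mul (U : S.Fac) (x y : S.N) : comp S U (x * y) = comp S U x * comp S U y := by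
  simp [comp]

theorem comp_inv (U : S.Fac) (x : S.N) : comp S U x⁻¹ = (comp S U x)⁻¹ := by simp [comp]

theorem comp_one (U : S.Fac) : comp S U 1 = 1 := by simp [comp]

theorem comp_mem (U : S.Fac) (x : S.N) : comp S U x ∈ U.1 := (S.proj U x).2

theorem comp_self (U : S.Fac) {c : G} (hc : c ∈ U.1) :
    comp S U ⟨c, (S.fac_stable U).2.1 hc⟩ = c := by
  rw [comp, S.proj_self U _ hc]

theorem comp_other {U V : S.Fac} (hne : V ≠ U) {c : G} (hc : c ∈ V.1) :
    comp S U ⟨c, (S.fac_stable V).2.1 hc⟩ = 1 := by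
  rw [comp, S.proj_other hne _ hc]; rfl

theorem comp_conj (g : G) (U : S.Fac) (x : S.N) :
    comp S (facConj S g U) ⟨g * x * g⁻¹, conj_mem_N S g x.2⟩ = g * comp S U x * g⁻¹ := by
  obtain ⟨u, hu, c, hc, e⟩ := S.decomp U x.2
  have h1 : S.proj (facConj S g U) ⟨g * x * g⁻¹, conj_mem_N S g x.2⟩ = ⟨g * u * g⁻¹, ⟨u, hu, rfl⟩⟩ :=
    S.proj_eq _ _ _ (conj_others S hc) (by show g * (x : G) * g⁻¹ = _; rw [e]; group)
  rw [comp, h1, comp, S.proj_eq U x hu hc e]

theorem ext_comp {x y : S.N} (hxy : ∀ U, comp S U x = comp S U y) : x = y := by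
  rw [← mul_inv_eq_one]
  refine S.proj_injective fun U => Subtype.ext ?_
  show comp S U (x * y⁻¹) = 1
  rw [comp_mul, comp_inv, hxy, mul_inv_cancel]

/-- An element of a factor commuting with the component of `x` commutes with `x`. -/
theorem commute_of_comp {U : S.Fac} {x : S.N} {c : G} (hc : c ∈ U.1)
    (he : c * comp S U x = comp S U x * c) : c * (x : G) = x * c := by
  obtain ⟨u, hu, d, hd, e⟩ := S.decomp U x.2
  rw [comp, S.proj_eq U x hu hd e] at he
  simp only at he
  rw [e, ← mul_assoc, he, mul_assoc, S.others_comm U hc hd, mul_assoc]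

end Factors

section Structure

open MinFactors

variable {S : NAMin G} (h : XSLocal Q z) (hL : IsLargeExtraspecial Q) (hzN : z ∈ S.N)

include h hL hzN

theorem comp_z_fixed {q : G} (hq : q ∈ Q) (U : S.Fac) :
    comp S (facConj S q U) ⟨z, hzN⟩ = q * comp S U ⟨z, hzN⟩ * q⁻¹ := by
  rw [← comp_conj]
  congr 1
  exact Subtype.ext (by show z = q * z * q⁻¹; rw [h.comm hq, mul_inv_cancel_right])

theorem transitive (U V : S.Fac) : ∃ q ∈ Q, facConj S q U = V := by
  obtain ⟨V0, hV0⟩ : ∃ V0 : S.Fac, comp S V0 ⟨z, hzN⟩ ≠ 1 := by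
    by_contra hc
    push Not at hc
    exact h.ne_one (congrArg Subtype.val (ext_comp S (x := ⟨z, hzN⟩) (y := 1) fun W => by rw [hc W, comp_one]))
  suffices key : ∀ U : S.Fac, ∃ q ∈ Q, facConj S q U = V0 by
    obtain ⟨q, hq, e1⟩ := key U
    obtain ⟨r, hr, e2⟩ := key V
    exact ⟨r⁻¹ * q, mul_mem (inv_mem hr) hq, by
      rw [facConj_mul, e1, ← e2, ← facConj_mul, inv_mul_cancel, facConj_one]⟩
  intro U
  by_contra hno
  push Not at hno
  set W : Subgroup G := ⨆ q : Q, (facConj S (q : G) U).1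
  have hWo : W ≤ S.others V0 := iSup_le fun q => S.le_others (hno q q.2)
  have hQW : Q ≤ normalizer (W : Set G) := by
    have hq : ∀ q ∈ Q, ∀ w ∈ W, q * w * q⁻¹ ∈ W := by
      intro q hq w hw
      have hle : W ≤ W.comap (MulAut.conj q).toMonoidHom := iSup_le fun r x hx => by
        refine mem_iSup_of_mem (⟨q, hq⟩ * r) ?_
        show q * x * q⁻¹ ∈ (facConj S (q * (r : G)) U).1
        rw [facConj_mul]
        exact ⟨x, hx, rfl⟩
      exact hle hw
    intro q hq'
    refine mem_normalizer_iff.2 fun w => ⟨hq q hq' w, fun hw => ?_⟩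
    simpa [mul_assoc] using hq q⁻¹ (inv_mem hq') _ hw
  have hWne : W ≠ ⊥ := fun e => (S.fac_stable U).1 (le_bot_iff.1 (e ▸
    (le_iSup (fun q : Q => (facConj S (q : G) U).1) 1).trans' (by simp [facConj_one])))
  have hzW := hWo (h.mem_of_normal hL hQW hWne)
  refine hV0 ?_
  rw [comp, S.proj_eq V0 ⟨z, hzN⟩ (one_mem _) hzW (one_mul z).symm]

theorem comp_z_ne_one (U : S.Fac) : comp S U ⟨z, hzN⟩ ≠ 1 := by
  intro e
  apply h.ne_one
  refine congrArg Subtype.val (ext_comp S (x := ⟨z, hzN⟩) (y := 1) fun W => ?_)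
  obtain ⟨q, hq, rfl⟩ := transitive h hL hzN U W
  rw [comp_z_fixed h hL hzN hq, e, comp_one]
  group

theorem comp_z_sq (U : S.Fac) : comp S U ⟨z, hzN⟩ * comp S U ⟨z, hzN⟩ = 1 := by
  rw [← comp_mul, show (⟨z, hzN⟩ : S.N) * ⟨z, hzN⟩ = 1 from Subtype.ext h.sq, comp_one]

/-- The centralizer in a factor of the component of `z` is not of order two. -/
theorem not_two (U : S.Fac)
    (hC : ∀ c ∈ U.1, c * comp S U ⟨z, hzN⟩ = comp S U ⟨z, hzN⟩ * c → c = 1 ∨ c = comp S U ⟨z, hzN⟩) : False := by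
  haveI := S.fac_simple U
  obtain ⟨a, ha, b, hb, hab⟩ := S.fac_nonabelian U
  refine false_of_centralizer_two (U := U.1) (fun hc => hab
    (congrArg Subtype.val (hc.is_comm.comm (⟨a, ha⟩ : U.1) ⟨b, hb⟩))) (x := S.proj U ⟨z, hzN⟩)
    (fun e => comp_z_ne_one h hL hzN U (congrArg Subtype.val e))
    (Subtype.ext (comp_z_sq h hL hzN U)) fun c hc => ?_
  exact (hC c c.2 (congrArg Subtype.val hc)).imp (fun e => Subtype.ext e) (fun e => Subtype.ext e)

/-- Commutators of a moved centralizer element lie in `Q`. -/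
theorem exists_moved {U : S.Fac} {u c : G} (hu : u ∈ Q) (hne : facConj S u U ≠ U) (hc : c ∈ U.1)
    (hcz : c * comp S U ⟨z, hzN⟩ = comp S U ⟨z, hzN⟩ * c) :
    ∃ w : S.N, (w : G) ∈ Q ∧ comp S U w = c⁻¹ ∧ comp S (facConj S u U) w = u * c * u⁻¹ ∧
      ∀ W, W ≠ U → W ≠ facConj S u U → comp S W w = 1 := by
  have hcC : c * z = z * c := commute_of_comp S hc hcz
  have hcN := h.norm (mem_centralizer_one.2 hcC)
  set V := facConj S u U
  have hcV : u * c * u⁻¹ ∈ V.1 := ⟨c, hc, rfl⟩
  refine ⟨⟨u * c * u⁻¹, (S.fac_stable V).2.1 hcV⟩ * ⟨c⁻¹, (S.fac_stable U).2.1 (inv_mem hc)⟩, ?_, ?_, ?_, ?_⟩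
  · show u * c * u⁻¹ * c⁻¹ ∈ Q
    rw [show u * c * u⁻¹ * c⁻¹ = u * (c * u⁻¹ * c⁻¹) by group]
    exact mul_mem hu (conj_mem hcN (inv_mem hu))
  · rw [comp_mul, comp_other S hne hcV, comp_self S U (inv_mem hc), one_mul]
  · rw [comp_mul, comp_self S V hcV, comp_other S hne.symm (inv_mem hc), mul_one]
  · intro W hWU hWV
    rw [comp_mul, comp_other S hWV.symm hcV, comp_other S hWU.symm (inv_mem hc), mul_one]

/-- There are at most two factors. -/
theorem at_most_two {U V : S.Fac} (hUV : V ≠ U) (W : S.Fac) : W = U ∨ W = V := by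
  by_contra hW
  rw [not_or] at hW
  obtain ⟨u, hu, hue⟩ := transitive h hL hzN U V
  obtain ⟨q, hq, hqe⟩ := transitive h hL hzN U W
  refine not_two h hL hzN U fun c hc hcz => ?_
  obtain ⟨w, hwQ, hwU, hwV, hwo⟩ := exists_moved h hL hzN hu (hue ▸ hUV) hc hcz
  rw [hue] at hwV hwo
  have hwW : comp S W w = 1 := hwo W hW.1 hW.2
  have hWc := comp_conj S q U w
  rw [hqe, hwU] at hWc
  rcases h.conj_cases hq hwQ with e | e
  · left
    rw [show (⟨q * (w : G) * q⁻¹, conj_mem_N S q w.2⟩ : S.N) = w from Subtype.ext e, hwW] at hWc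
    exact inv_eq_one.1 (conj_eq_one_iff.1 hWc.symm)
  · right
    rw [show (⟨q * (w : G) * q⁻¹, conj_mem_N S q w.2⟩ : S.N) = w * ⟨z, hzN⟩ from Subtype.ext e, comp_mul,
      hwW, one_mul, ← hqe, comp_z_fixed h hL hzN hq] at hWc
    have e' := mul_left_cancel (mul_right_cancel hWc)
    exact (inv_inv c).symm.trans ((congrArg (fun a => a⁻¹) e'.symm).trans
      (inv_eq_of_mul_eq_one_right (comp_z_sq h hL hzN U)))

theorem centralizer_props {U V : S.Fac} (hUV : V ≠ U) :
    (∀ c ∈ U.1, c * comp S U ⟨z, hzN⟩ = comp S U ⟨z, hzN⟩ * c →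
      c * c = 1 ∨ c * c = comp S U ⟨z, hzN⟩) ∧
    ∀ c ∈ U.1, ∀ d ∈ U.1, c * comp S U ⟨z, hzN⟩ = comp S U ⟨z, hzN⟩ * c →
      d * comp S U ⟨z, hzN⟩ = comp S U ⟨z, hzN⟩ * d →
      ⁅c, d⁆ = 1 ∨ ⁅c, d⁆ = comp S U ⟨z, hzN⟩ := by
  obtain ⟨u, hu, hue⟩ := transitive h hL hzN U V
  have hz' : comp S U ⟨z, hzN⟩⁻¹ = comp S U ⟨z, hzN⟩ := by
    congr 1; exact Subtype.ext h.inv_eq
  constructor
  · intro c hc hcz
    obtain ⟨w, hwQ, hwU, -, -⟩ := exists_moved h hL hzN hu (hue ▸ hUV) hc hcz
    have hw2 : comp S U (w * w) = c⁻¹ * c⁻¹ := by rw [comp_mul, hwU]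
    rcases h.sq_cases hwQ with e | e
    · rw [show w * w = 1 from Subtype.ext e, comp_one, eq_comm, ← mul_inv_rev, inv_eq_one] at hw2
      exact Or.inl hw2
    · rw [show w * w = ⟨z, hzN⟩ from Subtype.ext e, ← mul_inv_rev] at hw2
      right
      rw [← hz', comp_inv, hw2, inv_inv]
  · intro c hc d hd hcz hdz
    have hcz' : c⁻¹ * comp S U ⟨z, hzN⟩ = comp S U ⟨z, hzN⟩ * c⁻¹ := (Commute.inv_left hcz).eq
    have hdz' : d⁻¹ * comp S U ⟨z, hzN⟩ = comp S U ⟨z, hzN⟩ * d⁻¹ := (Commute.inv_left hdz).eq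
    obtain ⟨v, hvQ, hvU, -, -⟩ := exists_moved h hL hzN hu (hue ▸ hUV) (inv_mem hc) hcz'
    obtain ⟨w, hwQ, hwU, -, -⟩ := exists_moved h hL hzN hu (hue ▸ hUV) (inv_mem hd) hdz'
    have h2 : comp S U ⁅v, w⁆ = ⁅c, d⁆ := by
      simp only [commutatorElement_def, comp_mul, comp_inv, hvU, hwU, inv_inv]
    rcases h.comm_cases hvQ hwQ with e | e
    · left
      rw [← h2, show ⁅v, w⁆ = 1 from Subtype.ext (by simpa [commutatorElement_def] using e), comp_one]
    · right
      rw [← h2, show ⁅v, w⁆ = ⟨z, hzN⟩ from Subtype.ext (by simpa [commutatorElement_def] using e)]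

theorem pow_four {U V : S.Fac} (hUV : V ≠ U) {c : G} (hc : c ∈ U.1)
    (hcz : c * comp S U ⟨z, hzN⟩ = comp S U ⟨z, hzN⟩ * c) : c ^ 4 = 1 := by
  rw [show 4 = 2 + 2 by rfl, pow_add, pow_two]
  rcases (centralizer_props h hL hzN hUV).1 c hc hcz with e | e <;> rw [e]
  exacts [one_mul 1, comp_z_sq h hL hzN U]

end Structure

end Cfsg.Agent.LargeExtra
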