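import Cfsg.Agent.Lib.LargeExtra.Basic

/-!
The extraspecial groups of order `2 ^ (2m+3)` of both types as central extensions.
-/

set_option autoImplicit false
set_option linter.unusedSectionVars false
set_option linter.style.haveILetI false
set_option linter.unusedSimpArgs false

namespace Cfsg.Agent.LargeExtra.Models

local notation "F" => ZMod 2

/-- The underlying space. -/
abbrev V (m : ℕ) := (F × F) × ((Fin m → F) × (Fin m → F))

/-- The cocycle; `e` selects the type. -/
def beta {m : ℕ} (e : F) (u v : V m) : F :=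
  u.1.1 * v.1.2 + e * (u.1.1 * v.1.1 + u.1.2 * v.1.2) + ∑ i, u.2.1 i * v.2.2 i

theorem beta_add_left {m : ℕ} (e : F) (u v w : V m) : beta e (u + v) w = beta e u w + beta e v w := by
  simp only [beta, Prod.fst_add, Prod.snd_add, Pi.add_apply, add_mul, Finset.sum_add_distrib]
  ring

theorem beta_add_right {m : ℕ} (e : F) (u v w : V m) : beta e u (v + w) = beta e u v + beta e u w := by
  simp only [beta, Prod.fst_add, Prod.snd_add, Pi.add_apply, mul_add, Finset.sum_add_distrib]
  ring

/-- The extension. -/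
@[ext] structure E (e : F) (m : ℕ) where
  v : V m
  c : F

variable {e : F} {m : ℕ}

theorem two_eq (x : F) : x + x = 0 := CharTwo.add_self_eq_zero x

theorem v_two (u : V m) : u + u = 0 := by
  ext i <;> exact two_eq _

theorem beta_zero_left (u : V m) : beta e 0 u = 0 := by simp [beta]

theorem beta_zero_right (u : V m) : beta e u 0 = 0 := by simp [beta]

instance : Group (E e m) where
  mul x y := ⟨x.v + y.v, x.c + y.c + beta e x.v y.v⟩
  one := ⟨0, 0⟩
  inv x := ⟨x.v, x.c + beta e x.v x.v⟩
  mul_assoc x y z := by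
    refine E.ext (add_assoc _ _ _) ?_
    show x.c + y.c + beta e x.v y.v + z.c + beta e (x.v + y.v) z.v =
      x.c + (y.c + z.c + beta e y.v z.v) + beta e x.v (y.v + z.v)
    rw [beta_add_left, beta_add_right]; ring
  one_mul x := E.ext (zero_add _) (by
    show (0 : F) + x.c + beta e 0 x.v = x.c
    rw [beta_zero_left]; ring)
  mul_one x := E.ext (add_zero _) (by
    show x.c + (0 : F) + beta e x.v 0 = x.c
    rw [beta_zero_right]; ring)
  inv_mul_cancel x := E.ext (v_two _) (by
    show x.c + beta e x.v x.v + x.c + beta e x.v x.v = 0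
    linear_combination two_eq x.c + two_eq (beta e x.v x.v))

theorem mul_v (x y : E e m) : (x * y).v = x.v + y.v := rfl
theorem mul_c (x y : E e m) : (x * y).c = x.c + y.c + beta e x.v y.v := rfl
theorem inv_v (x : E e m) : x⁻¹.v = x.v := rfl
theorem one_v : (1 : E e m).v = 0 := rfl
theorem one_c : (1 : E e m).c = 0 := rfl

/-- The equivalence with the product. -/
def equivProd : E e m ≃ V m × F where
  toFun x := (x.v, x.c)
  invFun p := ⟨p.1, p.2⟩
  left_inv _ := rfl
  right_inv _ := rfl

instance : Finite (E e m) := Finite.of_equiv _ equivProd.symm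

theorem natCard : Nat.card (E e m) = 2 ^ (2 * (m + 1) + 1) := by
  rw [Nat.card_congr equivProd]
  simp [Nat.card_prod, Nat.card_pi, Nat.card_zmod]
  ring

/-- The symplectic form. -/
def omega (u v : V m) : F := u.1.1 * v.1.2 + v.1.1 * u.1.2 + ∑ i, (u.2.1 i * v.2.2 i + v.2.1 i * u.2.2 i)

theorem beta_swap (u v : V m) : beta e u v + beta e v u = omega u v := by
  simp only [beta, omega, Finset.sum_add_distrib]
  linear_combination two_eq (e * (u.1.1 * v.1.1)) + two_eq (e * (u.1.2 * v.1.2))

theorem commute_iff (x y : E e m) : x * y = y * x ↔ omega x.v y.v = 0 := by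
  rw [← beta_swap (e := e), CharTwo.add_eq_zero]
  constructor
  · intro h
    have := congrArg E.c h
    rw [mul_c, mul_c] at this
    linear_combination this
  · intro h
    refine E.ext (by rw [mul_v, mul_v, add_comm]) ?_
    rw [mul_c, mul_c]
    linear_combination h

theorem sq_eq_one_iff (x : E e m) : x ^ 2 = 1 ↔ beta e x.v x.v = 0 := by
  rw [pow_two, E.ext_iff, mul_v, mul_c, one_v, one_c, two_eq, zero_add]
  exact ⟨fun h => h.2, fun h => ⟨v_two _, h⟩⟩

/-- The central involution. -/
def zc : E e m := ⟨0, 1⟩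

theorem zc_sq : (zc : E e m) ^ 2 = 1 := (sq_eq_one_iff _).2 (beta_zero_left _)

theorem orderOf_zc : orderOf (zc : E e m) = 2 :=
  orderOf_eq_prime zc_sq fun h => by
    have := congrArg E.c h
    simp [zc, one_c] at this

theorem mem_zc {x : E e m} : x ∈ Subgroup.zpowers (zc : E e m) ↔ x.v = 0 := by
  constructor
  · classical
    rw [mem_zpowers_iff_mem_range_orderOf, orderOf_zc]
    intro h
    rw [Finset.mem_image] at h
    obtain ⟨k, hk, rfl⟩ := h
    rw [Finset.mem_range] at hk
    interval_cases k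
    · rw [pow_zero, one_v]
    · rw [pow_one]; rfl
  · intro h
    rcases ((by decide : ∀ c : F, c = 0 ∨ c = 1) x.c) with hc | hc
    · rw [show x = 1 from E.ext h hc]; exact one_mem _
    · rw [show x = zc from E.ext h hc]; exact Subgroup.mem_zpowers _

theorem isExtraspecial : Cfsg.IsExtraspecial 2 (E e m) := by
  classical
  haveI : Fact (Nat.Prime 2) := ⟨Nat.prime_two⟩
  refine isExtraspecial_of (IsPGroup.of_card natCard) orderOf_zc (fun x => ?_) (fun x y => ?_) (fun x => ?_) ?_
  · rw [mem_zc]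
    constructor
    · intro h
      have key : ∀ v : V m, omega x.v v = 0 := fun v => (commute_iff x ⟨v, 0⟩).1 (h _)
      ext i
      · simpa [omega] using key ((0, 1), (0, 0))
      · simpa [omega] using key ((1, 0), (0, 0))
      · simpa [omega, Pi.single_apply] using key ((0, 0), (0, Pi.single i 1))
      · simpa [omega, Pi.single_apply] using key ((0, 0), (Pi.single i 1, 0))
    · intro h y
      rw [commute_iff, h]
      simp [omega]
  · rw [mem_zc, commutatorElement_def, mul_v, mul_v, mul_v, inv_v, inv_v,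
      show x.v + y.v + x.v + y.v = (x.v + x.v) + (y.v + y.v) by abel, v_two, v_two, add_zero]
  · rw [mem_zc, pow_two, mul_v, v_two]
  · refine ⟨⟨((1, 0), (0, 0)), 0⟩, ⟨((0, 1), (0, 0)), 0⟩, fun h => ?_⟩
    simpa [omega] using (commute_iff _ _).1 h

/-- A singular subgroup: `a0 = a = 0`, and `b0 = 0` as well if `e = 1`. -/
def sing (e : F) (m : ℕ) : Subgroup (E e m) where
  carrier := {x | x.v.1.1 = 0 ∧ x.v.2.1 = 0 ∧ e * x.v.1.2 = 0}
  one_mem' := ⟨rfl, rfl, mul_zero e⟩
  mul_mem' := fun {x y} hx hy => ⟨by simp [mul_v, hx.1, hy.1], by simp [mul_v, hx.2.1, hy.2.1],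
    by simp [mul_v, mul_add, hx.2.2, hy.2.2]⟩
  inv_mem' := fun {x} hx => hx

theorem sing_elementary : Cfsg.IsElementaryAbelian 2 (sing e m) := by
  refine ⟨⟨⟨fun x y => Subtype.ext ?_⟩⟩, fun x hx => (sq_eq_one_iff _).2 ?_⟩
  · refine (commute_iff _ _).2 ?_
    simp [omega, x.2.1, x.2.2.1, y.2.1, y.2.2.1]
  · simp [beta, hx.1, hx.2.1, ← mul_assoc, hx.2.2]

theorem card_sing_zero : Nat.card (sing 0 m) = 2 ^ (m + 2) := by
  let f : sing (0 : F) m ≃ F × (Fin m → F) × F :=
    { toFun := fun x => (x.1.v.1.2, x.1.v.2.2, x.1.c)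
      invFun := fun p => ⟨⟨((0, p.1), (0, p.2.1)), p.2.2⟩, rfl, rfl, zero_mul _⟩
      left_inv := fun x => by
        apply Subtype.ext
        refine E.ext (Prod.ext (Prod.ext x.2.1.symm rfl) (Prod.ext x.2.2.1.symm rfl)) rfl
      right_inv := fun p => rfl }
  rw [Nat.card_congr f]
  simp [Nat.card_prod, Nat.card_pi, Nat.card_zmod]
  ring

theorem card_sing_one : Nat.card (sing 1 m) = 2 ^ (m + 1) := by
  let f : sing (1 : F) m ≃ (Fin m → F) × F :=
    { toFun := fun x => (x.1.v.2.2, x.1.c)
      invFun := fun p => ⟨⟨((0, 0), (0, p.1)), p.2⟩, rfl, rfl, mul_zero _⟩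
      left_inv := fun x => by
        apply Subtype.ext
        have h := x.2.2.2
        rw [one_mul] at h
        refine E.ext (Prod.ext (Prod.ext x.2.1.symm h.symm) (Prod.ext x.2.2.1.symm rfl)) rfl
      right_inv := fun p => rfl }
  rw [Nat.card_congr f]
  simp [Nat.card_prod, Nat.card_pi, Nat.card_zmod]
  ring

/-- In the minus type elementary abelian subgroups have order at most `2 ^ (m+1)`. -/
theorem card_le_minus (A : Subgroup (E (1 : F) m)) (hA : Cfsg.IsElementaryAbelian 2 A) :
    Nat.card A ≤ 2 ^ (m + 1) := by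
  classical
  let φ : A →* Multiplicative (Fin m → F) :=
    { toFun := fun x => Multiplicative.ofAdd x.1.v.2.2
      map_one' := rfl
      map_mul' := fun x y => rfl }
  let W : AddSubgroup (Fin m → F) :=
    { carrier := {a | ∃ c, (⟨((0, 0), (a, 0)), c⟩ : E (1 : F) m) ∈ A}
      zero_mem' := ⟨0, A.one_mem⟩
      add_mem' := fun {a b} ⟨c, hc⟩ ⟨d, hd⟩ => ⟨c + d + beta 1 ((0, 0), (a, 0)) ((0, 0), (b, 0)), by
        have : (⟨((0, 0), (a, 0)), c⟩ : E (1 : F) m) * ⟨((0, 0), (b, 0)), d⟩ =
            ⟨((0, 0), (a + b, 0)), c + d + beta 1 ((0, 0), (a, 0)) ((0, 0), (b, 0))⟩ :=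
          E.ext (by simp [mul_v]) rfl
        exact this ▸ mul_mem hc hd⟩
      neg_mem' := fun {a} ⟨c, hc⟩ => ⟨c, by rwa [show -a = a from funext fun i => ZMod.neg_eq_self_mod_two _]⟩ }
  let B : AddSubgroup (Fin m → F) :=
    { carrier := {b | Multiplicative.ofAdd b ∈ φ.range}
      zero_mem' := one_mem φ.range
      add_mem' := fun {a b} ha hb => show Multiplicative.ofAdd (a + b) ∈ φ.range from mul_mem ha hb
      neg_mem' := fun {a} ha => show Multiplicative.ofAdd (-a) ∈ φ.range from inv_mem ha }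
  have hBW : Nat.card B * Nat.card W ≤ 2 ^ m := by
    let W' := W.toZModSubmodule 2
    let B' := B.toZModSubmodule 2
    have h1 : B'.map (dotProductEquiv F (Fin m)).toLinearMap ≤ W'.dualAnnihilator := by
      rintro _ ⟨b, ⟨x, hx⟩, rfl⟩
      rw [Submodule.mem_dualAnnihilator]
      rintro a ⟨c, hc⟩
      have hcomm := (commute_iff (⟨((0, 0), (a, 0)), c⟩ : E (1 : F) m) x.1).1
        (congrArg Subtype.val (hA.1.is_comm.comm (⟨_, hc⟩ : A) x))
      have hxb : x.1.v.2.2 = b := Multiplicative.ofAdd.injective hx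
      rw [omega] at hcomm
      simp [hxb] at hcomm
      simpa [dotProduct, mul_comm] using hcomm
    have h2 := Submodule.finrank_mono h1
    rw [LinearEquiv.finrank_map_eq] at h2
    have h3 := Subspace.finrank_add_finrank_dualAnnihilator_eq W'
    rw [Module.finrank_fin_fun] at h3
    have hB : Nat.card B = 2 ^ Module.finrank F B' :=
      (Module.natCard_eq_pow_finrank (K := F) (V := B')).trans (by simp)
    have hW : Nat.card W = 2 ^ Module.finrank F W' :=
      (Module.natCard_eq_pow_finrank (K := F) (V := W')).trans (by simp)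
    rw [hB, hW, ← pow_add]
    exact Nat.pow_le_pow_right two_pos (by omega)
  have hBr : Nat.card B = Nat.card φ.range := Nat.card_congr
    { toFun := fun b => ⟨Multiplicative.ofAdd b.1, b.2⟩
      invFun := fun x => ⟨x.1.toAdd, x.2⟩
      left_inv := fun _ => rfl
      right_inv := fun _ => rfl }
  have hker : ∀ x : A, φ x = 1 → x.1.v.1 = (0, 0) ∧ x.1.v.2.2 = 0 := by
    intro x hx
    have hb : x.1.v.2.2 = 0 := Multiplicative.ofAdd.injective hx
    refine ⟨?_, hb⟩
    have hq := (sq_eq_one_iff _).1 (hA.2 _ x.2)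
    rw [beta, hb] at hq
    simp at hq
    revert hq
    generalize x.1.v.1 = p
    revert p
    decide
  have hK : Nat.card φ.ker ≤ Nat.card W * 2 := by
    refine le_of_le_of_eq (b := Nat.card (W × F)) ?_ (by rw [Nat.card_prod, Nat.card_zmod])
    refine Nat.card_le_card_of_injective (fun x : φ.ker => ((⟨x.1.1.v.2.1, x.1.1.c, ?_⟩ : W), x.1.1.c))
      (fun x y h => ?_)
    · obtain ⟨h1, h2⟩ := hker x.1 x.2
      convert x.1.2 using 1
      exact E.ext (Prod.ext h1.symm (Prod.ext rfl h2.symm)) rfl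
    · obtain ⟨h1, h2⟩ := hker x.1 x.2
      obtain ⟨h1', h2'⟩ := hker y.1 y.2
      simp only [Prod.mk.injEq, Subtype.mk.injEq] at h
      refine Subtype.ext (Subtype.ext (E.ext (Prod.ext (h1.trans h1'.symm) (Prod.ext h.1 (h2.trans h2'.symm))) h.2))
  rw [← φ.ker.card_mul_index, Subgroup.index_ker, ← hBr, pow_succ]
  calc Nat.card φ.ker * Nat.card B ≤ Nat.card W * 2 * Nat.card B := Nat.mul_le_mul_right _ hK
    _ = Nat.card B * Nat.card W * 2 := by ring
    _ ≤ 2 ^ m * 2 := Nat.mul_le_mul_right _ hBW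

end Cfsg.Agent.LargeExtra.Models
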