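/-
Parity of the values of a sign character on the orbits of an extraspecial normal subgroup of `C(z)` on the
cosets of `C(z)` fixed by a 2-element.
-/
import Cfsg.Agent.Lib.LargeExtra.IndexTwo
import Cfsg.Agent.Lib.LargeExtra.FixedTransfer

set_option autoImplicit false
set_option linter.style.haveILetI false
open Cfsg Subgroup

namespace Cfsg.Agent.LargeExtra

section Abstract

/-- A sign function of degree at most two on an elementary abelian 2-group with at least eight elements has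
product one. -/
theorem prod_eq_one_of_quadratic {M : Type*} [CommGroup M] [Fintype M] (hsq : ∀ m : M, m * m = 1)
    (F : M → ℤˣ) (hF : ∀ x a b : M, F x * F (x * a) * F (x * b) * F (x * (a * b)) =
      F 1 * F a * F b * F (a * b))
    (h8 : 8 ≤ Fintype.card M) : ∏ m, F m = 1 := by
  classical
  obtain ⟨a, ha⟩ : ∃ a : M, a ≠ 1 := by
    by_contra hcon
    push Not at hcon
    have : Fintype.card M ≤ 1 := Fintype.card_le_one_iff.2 fun x y => by rw [hcon x, hcon y]
    omega
  obtain ⟨b, hb⟩ : ∃ b : M, b ∉ ({1, a} : Finset M) := by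
    by_contra hcon
    push Not at hcon
    have := Finset.card_le_card (s := (Finset.univ : Finset M)) (t := {1, a}) fun x _ => hcon x
    rw [Finset.card_univ] at this
    have := this.trans Finset.card_le_two
    omega
  simp only [Finset.mem_insert, Finset.mem_singleton, not_or] at hb
  have hba : b * a = a * b := mul_comm b a
  have e1 : a * (a * b) = b := by rw [← mul_assoc, hsq, one_mul]
  have e2 : b * (a * b) = a := by rw [mul_comm a b, ← mul_assoc, hsq, one_mul]
  let R : Subgroup M :=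
    { carrier := {m | m ∈ ({1, a, b, a * b} : Finset M)}
      one_mem' := by simp
      mul_mem' := by
        intro x y hx hy
        simp only [Set.mem_ofPred_eq, Finset.mem_insert, Finset.mem_singleton] at hx hy ⊢
        rcases hx with rfl | rfl | rfl | rfl <;> rcases hy with rfl | rfl | rfl | rfl <;>
          simp [hsq, e1, e2, hba, mul_assoc]
      inv_mem' := by
        intro x hx
        rwa [inv_eq_of_mul_eq_one_right (hsq x)] }
  have hab1 : a * b ≠ 1 := fun e => hb.2 (by rw [← e2, e, mul_one])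
  have hset : (Finset.univ.filter fun m : M => m ∈ R) = {1, a, b, a * b} := by
    ext m; simp [R]
  have hcardR : Nat.card R = 4 := by
    rw [Nat.card_eq_fintype_card, Fintype.card_subtype, hset, Finset.card_insert_of_notMem,
      Finset.card_insert_of_notMem, Finset.card_pair] <;>
      simp [ha, ha.symm, hb.1, Ne.symm hb.1, hb.2, Ne.symm hb.2, hab1, Ne.symm hab1]
  have h4 : ∀ x : M, ∏ m ∈ Finset.univ.filter (fun m => (QuotientGroup.mk m : M ⧸ R) = QuotientGroup.mk x), F m =
      F 1 * F a * F b * F (a * b) := by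
    intro x
    have hfil : (Finset.univ.filter fun m => (QuotientGroup.mk m : M ⧸ R) = QuotientGroup.mk x) =
        ({1, a, b, a * b} : Finset M).image (x * ·) := by
      rw [← hset]
      ext m
      simp only [Finset.mem_filter, Finset.mem_univ, true_and, Finset.mem_image]
      rw [eq_comm, QuotientGroup.eq]
      exact ⟨fun h => ⟨_, h, mul_inv_cancel_left x m⟩, by rintro ⟨r, hr, rfl⟩; rwa [inv_mul_cancel_left]⟩
    rw [hfil, Finset.prod_image (fun _ _ _ _ e => mul_left_cancel e), Finset.prod_insert, Finset.prod_insert,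
      Finset.prod_pair, ← hF x a b, mul_one]
    · simp [mul_assoc]
    all_goals simp [ha, ha.symm, hb.1, Ne.symm hb.1, hb.2, Ne.symm hb.2, hab1, Ne.symm hab1]
  rw [← Finset.prod_fiberwise Finset.univ (fun m => (QuotientGroup.mk m : M ⧸ R)) F,
    Finset.prod_congr rfl (fun q _ => show _ = F 1 * F a * F b * F (a * b) by
      induction q using QuotientGroup.induction_on with | H x => exact h4 x),
    Finset.prod_const, Finset.card_univ]
  have hev : Even (Fintype.card (M ⧸ R)) := by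
    haveI : Fact (Nat.Prime 2) := ⟨Nat.prime_two⟩
    have hp : IsPGroup 2 M := fun m => ⟨1, by rw [pow_one, pow_two, hsq]⟩
    obtain ⟨k, hk⟩ := IsPGroup.iff_card.1 (hp.to_quotient R)
    have := R.card_eq_card_quotient_mul_card_subgroup
    rw [hk, hcardR, Nat.card_eq_fintype_card] at this
    rw [← Nat.card_eq_fintype_card, hk]
    refine Nat.even_pow.2 ⟨even_two, ?_⟩
    rintro rfl
    omega
  obtain ⟨r, hr⟩ := hev
  rw [hr, pow_add, Int.units_mul_self]

end Abstract

variable {G : Type*} [Group G] [Finite G] {E : Subgroup G} {z : G}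

/-- A conjugate-like element centralizing a hyperplane of `E` lies in `E`. -/
theorem mem_of_index_two (h : XSLocal E z) {u : G} (hu : u ∈ centralizer ({z} : Set G)) (hu2 : u * u = 1)
    (hidx : Nat.card E = 2 * Nat.card (E ⊓ centralizer ({u} : Set G) : Subgroup G)) : u ∈ E := by
  set W := E ⊓ centralizer ({u} : Set G) with hW
  have hzu : u * z = z * u := mem_centralizer_one.1 hu
  have hun := h.norm hu
  have hzW : z ∈ W := ⟨h.toXSub.mem, mem_centralizer_one.2 hzu.symm⟩
  have hi2 : (W.subgroupOf E).index = 2 := by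
    have h1 := (W.subgroupOf E).card_mul_index
    rw [Nat.card_congr (subgroupOfEquivOfLe (inf_le_left : W ≤ E)).toEquiv, hidx] at h1
    exact Nat.eq_of_mul_eq_mul_left (Nat.card_pos (α := W)) (h1.trans (mul_comm _ _))
  obtain ⟨x, hx, hxW⟩ : ∃ x ∈ E, x ∉ W := by
    by_contra hcon
    push Not at hcon
    rw [le_antisymm hcon inf_le_left |> subgroupOf_eq_top.2 ∘ Eq.le, index_top] at hi2
    exact absurd hi2 (by norm_num)
  have hmul : ∀ a ∈ E, ∀ b ∈ E, a * b ∈ W ↔ (a ∈ W ↔ b ∈ W) := fun a ha b hb => by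
    have := mul_mem_iff_of_index_two hi2 (a := ⟨a, ha⟩) (b := ⟨b, hb⟩)
    simpa [mem_subgroupOf] using this
  have hfix : ∀ w ∈ W, u * w * u⁻¹ = w := fun w hw =>
    XSub.conj_eq_self_iff.2 (mem_centralizer_one.1 hw.2).symm
  set d := x⁻¹ * (u * x * u⁻¹) with hd
  have hdE : d ∈ E := mul_mem (inv_mem hx) (conj_mem hun hx)
  have hux : u * x * u⁻¹ = x * d := by rw [hd, mul_inv_cancel_left]
  have hcomm : ∀ w ∈ W, w * d = d * w := by
    intro w hw
    obtain ⟨c, hc, hcz⟩ : ∃ c, x * w * x⁻¹ = w * c ∧ (c = 1 ∨ c = z) := by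
      rcases h.toXSub.conj_cases hx hw.1 with e | e
      exacts [⟨1, by rw [e, mul_one], Or.inl rfl⟩, ⟨z, e, Or.inr rfl⟩]
    have hcu : u * c * u⁻¹ = c := by
      rcases hcz with rfl | rfl
      exacts [by simp, XSub.conj_eq_self_iff.2 hzu]
    have e1 : x * d * w * (x * d)⁻¹ = x * w * x⁻¹ := by
      calc x * d * w * (x * d)⁻¹ = u * x * u⁻¹ * (u * w * u⁻¹) * (u * x * u⁻¹)⁻¹ := by rw [hux, hfix w hw]
        _ = u * (x * w * x⁻¹) * u⁻¹ := by group
        _ = u * w * u⁻¹ * (u * c * u⁻¹) := by rw [hc]; group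
        _ = x * w * x⁻¹ := by rw [hfix w hw, hcu, hc]
    have e2 : d * w * d⁻¹ = w := by
      calc d * w * d⁻¹ = x⁻¹ * (x * d * w * (x * d)⁻¹) * x := by group
        _ = w := by rw [e1]; group
    exact (XSub.conj_eq_self_iff.1 e2).symm
  have hdW : d ∈ W := by
    by_contra hdW
    have hdc : ∀ r ∈ E, d * r = r * d := fun r hr => by
      by_cases hrW : r ∈ W
      · exact (hcomm r hrW).symm
      · have hrd : r * d⁻¹ ∈ W := (hmul r hr d⁻¹ (inv_mem hdE)).2 (iff_of_false hrW (by rwa [inv_mem_iff]))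
        have := hcomm _ hrd
        rw [inv_mul_cancel_right] at this
        calc d * r = d * (r * d⁻¹) * d := by group
          _ = r * d⁻¹ * d * d := by rw [← hcomm _ hrd]
          _ = r * d := by rw [inv_mul_cancel_right]
    exact hdW (by rcases h.toXSub.eq_of_central hdE hdc with e | e <;> rw [e]; exacts [one_mem _, hzW])
  have hall : d = 1 ∨ d = z := by
    rcases h.toXSub.comm_cases hx hdE with hxd | hxd
    · refine h.toXSub.eq_of_central hdE fun r hr => ?_
      have hxd' : x * d = d * x := commutatorElement_eq_one_iff_mul_comm.1 hxd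
      by_cases hrW : r ∈ W
      · exact (hcomm r hrW).symm
      · have hrd : r * x⁻¹ ∈ W := (hmul r hr x⁻¹ (inv_mem hx)).2 (iff_of_false hrW (by rwa [inv_mem_iff]))
        calc d * r = d * (r * x⁻¹) * x := by group
          _ = r * x⁻¹ * (d * x) := by rw [← hcomm _ hrd]; group
          _ = r * d := by rw [← hxd']; group
    · exfalso
      have hd2 : d * d = 1 := by
        have e : x = x * (d * d) := by
          calc x = (u * u) * x * (u * u)⁻¹ := by rw [hu2]; group
            _ = u * (u * x * u⁻¹) * u⁻¹ := by group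
            _ = u * x * u⁻¹ * (u * d * u⁻¹) := by conv_lhs => rw [hux]
                                                  group
            _ = x * (d * d) := by rw [hfix d hdW, hux, mul_assoc]
        exact mul_eq_left.1 e.symm
      have hx2 : u * (x * x) * u⁻¹ = x * x := by
        rcases h.toXSub.sq_cases hx with e | e <;> rw [e]
        exacts [by simp, XSub.conj_eq_self_iff.2 hzu]
      have hxdx : x * d = z * (d * x) := by rw [← hxd, commutatorElement_def]; group
      apply h.toXSub.ne_one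
      have hzd : x * d * (x * d) = x * x * z := by
        calc x * d * (x * d) = x * (d * x) * d := by group
          _ = x * (z * (x * d)) * d := by
            rw [show z * (x * d) = d * x by rw [hxdx, ← mul_assoc, h.toXSub.sq, one_mul]]
          _ = x * z * x * (d * d) := by group
          _ = x * x * z := by rw [hd2, mul_one, mul_assoc, mul_assoc, h.toXSub.comm hx]
      have e3 : x * d * (x * d) = x * x := by
        rw [← hux, show u * x * u⁻¹ * (u * x * u⁻¹) = u * (x * x) * u⁻¹ by group, hx2]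
      exact mul_eq_left.1 (hzd.symm.trans e3)
  obtain ⟨q, hq, hqW, hqx⟩ : ∃ q ∈ E, (∀ a ∈ W, q * a = a * q) ∧ q * x * q⁻¹ = x * d := by
    rcases hall with e | e
    · exact ⟨1, one_mem _, fun a _ => by simp, by rw [e]; simp⟩
    · rw [e]
      exact h.toXSub.exists_conj_mul hzW inf_le_left hx hxW
  have hc2 : q⁻¹ * u ∈ centralizer (E : Set G) := by
    refine mem_centralizer_iff.2 fun r hr => ?_
    have hsame : q * r * q⁻¹ = u * r * u⁻¹ := by
      by_cases hrW : r ∈ W
      · rw [hfix r hrW, XSub.conj_eq_self_iff.2 (hqW r hrW)]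
      · have hrd : r * x⁻¹ ∈ W := (hmul r hr x⁻¹ (inv_mem hx)).2 (iff_of_false hrW (by rwa [inv_mem_iff]))
        calc q * r * q⁻¹ = q * (r * x⁻¹) * q⁻¹ * (q * x * q⁻¹) := by group
          _ = u * (r * x⁻¹) * u⁻¹ * (u * x * u⁻¹) := by
            rw [hfix _ hrd, XSub.conj_eq_self_iff.2 (hqW _ hrd), hqx, hux]
          _ = u * r * u⁻¹ := by group
    calc r * (q⁻¹ * u) = q⁻¹ * (q * r * q⁻¹) * u := by group
      _ = q⁻¹ * u * r := by rw [hsame]; group
  have := mul_mem hq (zpowers_le.2 h.toXSub.mem (h.cent hc2))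
  rwa [mul_inv_cancel_left] at this

variable {u t : G} {ψ : G → ℤˣ}

/-- The value attached to a point of the orbit. -/
noncomputable def orbVal (ψ : G → ℤˣ) (t u x : G) : ℤˣ :=
  open Classical in if x⁻¹ * t * x ∈ centralizer ({u} : Set G) then ψ (x⁻¹ * t * x) else 1

/-- The product over the `E`-orbit of a conjugate `u ≠ z` of `z` is one. -/
theorem prod_orbit (h : XSLocal E z) (ht : t ∈ centralizer ({z} : Set G)) {m : ℕ} (htm : orderOf t = 2 ^ m)
    (hu : u ∈ centralizer ({z} : Set G)) (hu2 : u * u = 1) (hu1 : u ≠ 1) (huz : u ≠ z)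
    (htu : t ∈ centralizer ({u} : Set G))
    (hψ : ∀ a ∈ centralizer ({u} : Set G), ∀ b ∈ centralizer ({u} : Set G), ψ (a * b) = ψ a * ψ b)
    (hsq : ∀ x ∈ E, x⁻¹ * (t * t) * x ∈ centralizer ({u} : Set G) → ψ (x⁻¹ * (t * t) * x) = 1)
    (hinv : ψ z = 1 ∨ (t * t = 1 ∧ 128 ≤ Nat.card E))
    (hE2 : u ∈ E → ∀ y ∈ E, y ∈ centralizer ({u} : Set G) → ψ y = 1)
    (N : Subgroup E) (hN : N = (E ⊓ centralizer ({u} : Set G)).subgroupOf E) [N.Normal] [Fintype (E ⧸ N)] :
    ∏ q : E ⧸ N, orbVal ψ t u (q.out : E) = 1 := by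
  classical
  set C := centralizer ({u} : Set G) with hC
  set W := E ⊓ C with hW
  have hzC : z ∈ C := mem_centralizer_one.2 (mem_centralizer_one.1 hu).symm
  have hzW : z ∈ W := ⟨h.toXSub.mem, hzC⟩
  have hmemN : ∀ {x : E}, x ∈ N → (x : G) ∈ C := fun {x} hx => by
    rw [hN, mem_subgroupOf] at hx
    exact hx.2
  have hz1 : ∀ c, c = 1 ∨ c = z → c ∈ W := by rintro c (rfl | rfl); exacts [one_mem _, hzW]
  -- the quotient is elementary abelian
  have hsqM : ∀ q : E ⧸ N, q * q = 1 := fun q => by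
    induction q using QuotientGroup.induction_on with | H x => ?_
    rw [← QuotientGroup.mk_mul, QuotientGroup.eq_one_iff, hN, mem_subgroupOf]
    exact hz1 _ (h.toXSub.sq_cases x.2)
  letI : CommGroup (E ⧸ N) := { (inferInstance : Group (E ⧸ N)) with
    mul_comm := fun a b => by
      induction a using QuotientGroup.induction_on with | H x => ?_
      induction b using QuotientGroup.induction_on with | H y => ?_
      rw [← QuotientGroup.mk_mul, ← QuotientGroup.mk_mul, QuotientGroup.eq, hN, mem_subgroupOf]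
      refine hz1 _ ?_
      have := h.toXSub.comm_cases (inv_mem y.2) (inv_mem x.2)
      rw [commutatorElement_def, inv_inv, inv_inv] at this
      push_cast
      rwa [mul_inv_rev, show (y : G)⁻¹ * (x : G)⁻¹ * ((y : G) * x) = (y : G)⁻¹ * (x : G)⁻¹ * y * x by group] }
  -- the commutator with `t`
  have htn := h.norm ht
  have htin := inv_mem htn
  have heE : ∀ {s : G}, s ∈ normalizer (E : Set G) → ∀ {x : G}, x ∈ E → s⁻¹ * x⁻¹ * s * x ∈ E := fun hs x hx =>
    mul_mem (by simpa using conj_mem (inv_mem hs) (inv_mem hx)) hx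
  let e : G → G := fun x => t⁻¹ * x⁻¹ * t * x
  have heq : ∀ x, x⁻¹ * t * x = t * e x := fun x => by simp only [e]; group
  have hcen : ∀ {c y : G}, y ∈ E → (c = 1 ∨ c = z) → c * y = y * c := by
    rintro c y hy (rfl | rfl)
    exacts [by simp, (h.toXSub.comm hy).symm]
  -- `e` respects products up to the centre
  let χ : G → G → G := fun a y => a⁻¹ * (y⁻¹ * a * y)
  have hχc : ∀ {a y : G}, a ∈ E → y ∈ E → χ a y = 1 ∨ χ a y = z := fun {a y} ha hy => by
    have := h.toXSub.comm_cases (inv_mem ha) (inv_mem hy)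
    rwa [commutatorElement_def, inv_inv, inv_inv, show a⁻¹ * y⁻¹ * a * y = χ a y by simp only [χ]; group] at this
  have hχmul : ∀ {a y₁ y₂ : G}, a ∈ E → y₁ ∈ E → y₂ ∈ E → χ a (y₁ * y₂) = χ a y₁ * χ a y₂ := fun {a y₁ y₂} ha h1 h2 => by
    have hc := hcen (inv_mem h2) (hχc ha h1)
    calc χ a (y₁ * y₂) = a⁻¹ * y₂⁻¹ * a * χ a y₁ * y₂ := by simp only [χ]; group
      _ = a⁻¹ * y₂⁻¹ * a * (y₂ * χ a y₁) := by rw [← hcen h2 (hχc ha h1)]; group
      _ = χ a y₂ * χ a y₁ := by simp only [χ]; group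
      _ = χ a y₁ * χ a y₂ := by rw [hcen (hz1 _ (hχc ha h2)).1 (hχc ha h1)]
  have hemul : ∀ {x y : G}, x ∈ E → y ∈ E → e (x * y) = e y * e x * χ (e x) y := fun {x y} _ _ => by
    simp only [e, χ]; group
  let Φ : E →* E ⧸ N := MonoidHom.mk' (fun x => QuotientGroup.mk ⟨e x, heE htn x.2⟩) fun x y => by
    have hval := hemul x.2 y.2
    have : (⟨e (x * y : E), heE htn (x * y).2⟩ : E) = ⟨e y, heE htn y.2⟩ * ⟨e x, heE htn x.2⟩ *
        ⟨χ (e x) y, (hz1 _ (hχc (heE htn x.2) y.2)).1⟩ := Subtype.ext hval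
    rw [this, QuotientGroup.mk_mul, QuotientGroup.mk_mul, mul_comm (QuotientGroup.mk ⟨e y, heE htn y.2⟩ : E ⧸ N),
      mul_eq_left, QuotientGroup.eq_one_iff, hN, mem_subgroupOf]
    exact hz1 _ (hχc (heE htn x.2) y.2)
  have hΦN : N ≤ Φ.ker := fun x hx => by
    rw [MonoidHom.mem_ker, show Φ x = QuotientGroup.mk ⟨e x, heE htn x.2⟩ from rfl, QuotientGroup.eq_one_iff, hN,
      mem_subgroupOf]
    have hxC := hmemN hx
    exact ⟨heE htn x.2, C.mul_mem (C.mul_mem (C.mul_mem (C.inv_mem htu) (C.inv_mem hxC)) htu) hxC⟩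
  let ε : E ⧸ N →* E ⧸ N := QuotientGroup.lift N Φ hΦN
  have hεmk : ∀ x : E, ε (QuotientGroup.mk x) = QuotientGroup.mk ⟨e x, heE htn x.2⟩ := fun x => rfl
  have hker : ∀ x : E, ε (QuotientGroup.mk x) = 1 ↔ (x : G)⁻¹ * t * x ∈ C := fun x => by
    rw [hεmk, QuotientGroup.eq_one_iff, hN, mem_subgroupOf, heq]
    exact ⟨fun hh => mul_mem htu hh.2, fun hh => ⟨heE htn x.2, (mul_mem_cancel_left htu).1 hh⟩⟩
  -- `ε` is nilpotent
  have hnil : ∀ q : E ⧸ N, ε^[2 ^ m] q = 1 := by
    have key : ∀ k : ℕ, ∀ x : E, ∀ hm : (t⁻¹) ^ (2 ^ k) * (x : G) * t ^ (2 ^ k) ∈ E,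
        (QuotientGroup.mk (⟨_, hm⟩ : E) : E ⧸ N) = QuotientGroup.mk x * ε^[2 ^ k] (QuotientGroup.mk x) := by
      intro k
      induction k with
      | zero =>
        intro x hm
        have hy : (⟨_, hm⟩ : E) = (⟨e x, heE htn x.2⟩ * x⁻¹)⁻¹ := Subtype.ext (by
          push_cast; simp only [e, pow_zero, pow_one]; group)
        rw [hy, QuotientGroup.mk_inv, QuotientGroup.mk_mul, QuotientGroup.mk_inv,
          inv_eq_of_mul_eq_one_right (hsqM _), inv_eq_of_mul_eq_one_right (hsqM (QuotientGroup.mk x)),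
          pow_zero, Function.iterate_one, hεmk, mul_comm]
      | succ k ih =>
        intro x hm
        have h1 : (t⁻¹) ^ (2 ^ k) * (x : G) * t ^ (2 ^ k) ∈ E := by
          simpa [inv_pow] using conj_mem (inv_mem (pow_mem htn (2 ^ k))) x.2
        have h2 : (t⁻¹) ^ (2 ^ k) * ((t⁻¹) ^ (2 ^ k) * (x : G) * t ^ (2 ^ k)) * t ^ (2 ^ k) ∈ E := by
          simpa [inv_pow] using conj_mem (inv_mem (pow_mem htn (2 ^ k))) h1
        have hy : (⟨_, hm⟩ : E) = ⟨_, h2⟩ := Subtype.ext (by
          simp only [pow_succ, mul_two, pow_add]; group)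
        rw [hy, ih ⟨_, h1⟩ h2, ih x h1, ← MonoidHom.coe_coe ε, iterate_map_mul, MonoidHom.coe_coe,
          pow_succ, mul_two, Function.iterate_add_apply]
        simp only [mul_assoc]
        congr 1
        rw [← mul_assoc, hsqM, one_mul]
    intro q
    induction q using QuotientGroup.induction_on with | H x => ?_
    have htp : t ^ 2 ^ m = 1 := htm ▸ pow_orderOf_eq_one t
    have h1 : (t⁻¹) ^ (2 ^ m) * (x : G) * t ^ (2 ^ m) ∈ E := by simp [inv_pow, htp]
    have := key m x h1
    rwa [show (⟨_, h1⟩ : E) = x from Subtype.ext (by simp [inv_pow, htp]), left_eq_mul] at this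
  -- a kernel element in the image, unless `ε` is trivial
  have himage : ∀ q : E ⧸ N, ε q ≠ 1 → ∃ q', ε q' ≠ 1 ∧ ε (ε q') = 1 := by
    intro q hq
    have hex : ∃ k, ε^[k] q = 1 := ⟨_, hnil q⟩
    obtain ⟨k, hk, hlt⟩ : ∃ k, ε^[k] q = 1 ∧ ∀ l < k, ε^[l] q ≠ 1 :=
      ⟨Nat.find hex, Nat.find_spec hex, fun l hl => Nat.find_min hex hl⟩
    match k, hk, hlt with
    | 0, hk, _ => exact absurd (by rw [show q = 1 from hk, map_one]) hq
    | 1, hk, _ => exact absurd hk hq
    | k + 2, hk, hlt =>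
      refine ⟨ε^[k] q, ?_, ?_⟩
      · rw [← Function.iterate_succ_apply' ε k q]
        exact hlt _ (by omega)
      · rw [← Function.iterate_succ_apply' ε k q, ← Function.iterate_succ_apply' ε (k + 1) q]
        exact hk
  -- the orbit is not a single point
  obtain ⟨x₁, hx₁⟩ : ∃ x : E, (x : G) ∉ C := by
    by_contra hcon
    push Not at hcon
    have hcE : u ∈ centralizer (E : Set G) :=
      mem_centralizer_iff.2 fun r hr => mem_centralizer_one.1 (hcon ⟨r, hr⟩)
    rcases h.toXSub.mem_zpowers_iff.1 (h.cent hcE) with e1 | e1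
    exacts [hu1 e1, huz e1]
  have hKne : ε.ker ≠ ⊥ := fun hb => by
    have hinj : Function.Injective ε := (MonoidHom.ker_eq_bot_iff ε).1 hb
    have := hnil (QuotientGroup.mk x₁)
    rw [← iterate_map_one ε (2 ^ m)] at this
    have h1 := hinj.iterate _ this
    rw [QuotientGroup.eq_one_iff, hN, mem_subgroupOf] at h1
    exact hx₁ h1.2
  -- the values as a function on the quotient
  let F : E ⧸ N → ℤˣ := fun q => orbVal ψ t u (q.out : E)
  have hψ1 : ψ 1 = 1 := mul_eq_left.1 (show ψ 1 * ψ 1 = ψ 1 by rw [← hψ 1 (one_mem _) 1 (one_mem _), mul_one])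
  have hψc : ∀ a ∈ C, ∀ b ∈ C, b * a ∈ C → ψ (b⁻¹ * a * b) = ψ a := fun a ha b hb _ => by
    rw [hψ _ (mul_mem (inv_mem hb) ha) b hb, hψ _ (inv_mem hb) a ha, mul_comm (ψ b⁻¹), mul_assoc,
      ← hψ _ (inv_mem hb) b hb, inv_mul_cancel, hψ1, mul_one]
  have hFmk : ∀ x : E, (x : G)⁻¹ * t * x ∈ C → F (QuotientGroup.mk x) = ψ ((x : G)⁻¹ * t * x) := fun x hx => by
    obtain ⟨n, hn⟩ := QuotientGroup.mk_out_eq_mul N x
    have hnC := hmemN n.2
    have hval : ((QuotientGroup.mk x : E ⧸ N).out : G)⁻¹ * t * (QuotientGroup.mk x : E ⧸ N).out =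
        (n.1 : G)⁻¹ * ((x : G)⁻¹ * t * x) * (n.1 : G) := by rw [hn]; push_cast; group
    show orbVal ψ t u _ = _
    rw [orbVal, hval, if_pos (C.mul_mem (C.mul_mem (C.inv_mem hnC) hx) hnC),
      hψc _ hx _ hnC (mul_mem hnC hx)]
  have hoff : ∀ q, ε q ≠ 1 → F q = 1 := fun q hq => by
    refine if_neg fun hh => hq ?_
    rw [← QuotientGroup.out_eq' q]
    exact (hker _).2 hh
  rw [show (∏ q : E ⧸ N, orbVal ψ t u (q.out : E)) = ∏ q : ε.ker, F q by
    rw [← Finset.prod_subtype (Finset.univ.filter fun q => ε q = 1) (by simp [MonoidHom.mem_ker]) F,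
      Finset.prod_filter_of_ne fun q _ hne => by_contra fun hq => hne (hoff q hq)]]
  -- the quotient values
  have hQ : ∀ x : E, (x : G)⁻¹ * t * x ∈ C →
      e x ∈ W ∧ F (QuotientGroup.mk x) = ψ t * ψ (e x) := fun x hx => by
    have hex : e x ∈ C := (mul_mem_cancel_left htu).1 (heq x ▸ hx)
    exact ⟨⟨heE htn x.2, hex⟩, by rw [hFmk x hx, heq, hψ t htu _ hex]⟩
  have hχψ : ∀ {a y : G}, a ∈ E → y ∈ E → χ a y ∈ C ∧ (ψ z = 1 → ψ (χ a y) = 1) := fun ha hy => by
    refine ⟨(hz1 _ (hχc ha hy)).2, fun hz => ?_⟩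
    rcases hχc ha hy with e1 | e1 <;> rw [e1]
    exacts [hψ1, hz]
  have hFmul : ∀ x y : E, (x : G)⁻¹ * t * x ∈ C → (y : G)⁻¹ * t * y ∈ C →
      F (QuotientGroup.mk (x * y)) = ψ t * ψ (e x) * ψ (e y) * ψ (χ (e x) y) := fun x y hx hy => by
    have hxy : ((x * y : E) : G)⁻¹ * t * (x * y : E) ∈ C := (hker _).1 (by
      rw [QuotientGroup.mk_mul, map_mul, (hker x).2 hx, (hker y).2 hy, one_mul])
    obtain ⟨hexW, -⟩ := hQ x hx
    obtain ⟨heyW, -⟩ := hQ y hy
    rw [(hQ _ hxy).2, show e ((x * y : E) : G) = e y * e x * χ (e x) y from hemul x.2 y.2,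
      hψ _ (mul_mem heyW.2 hexW.2) _ (hχψ hexW.1 y.2).1, hψ _ heyW.2 _ hexW.2]
    simp only [mul_assoc, mul_comm, mul_left_comm]
  have hF1 : F 1 = ψ t := by
    rw [← QuotientGroup.mk_one, (hQ 1 (by simpa using htu)).2,
      show e ((1 : E) : G) = 1 by simp [e], hψ1, mul_one]
  -- an element of the kernel inside the image
  have hpick : ∀ q, ε q ≠ 1 → ε (ε q) = 1 → ∃ a : E, ∃ x : E, (a : G) = e x ∧
      (a : G)⁻¹ * t * a ∈ C ∧ (a : G) ∉ C := by
    intro q hq hqq
    induction q using QuotientGroup.induction_on with | H x => ?_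
    rw [hεmk] at hqq hq
    refine ⟨⟨e x, heE htn x.2⟩, x, rfl, (hker _).1 hqq, fun hc => hq ?_⟩
    rw [QuotientGroup.eq_one_iff, hN, mem_subgroupOf]
    exact ⟨heE htn x.2, hc⟩
  obtain ⟨k, hk⟩ : ∃ k, Nat.card ε.ker = 2 ^ k := by
    haveI : Fact (Nat.Prime 2) := ⟨Nat.prime_two⟩
    exact IsPGroup.iff_card.1 ((show IsPGroup 2 (E ⧸ N) from fun q => ⟨1, by rw [pow_one, pow_two, hsqM]⟩).to_subgroup _)
  have hk0 : k ≠ 0 := by
    rintro rfl
    exact hKne (Subgroup.card_eq_one.1 (by simpa using hk))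
  rw [Nat.card_eq_fintype_card] at hk
  have hsqK : ∀ q : ε.ker, q * q = 1 := fun q => Subtype.ext (hsqM q.1)
  have hlift : ∀ q : ε.ker, ∃ x : E, (x : G)⁻¹ * t * x ∈ C ∧ (QuotientGroup.mk x : E ⧸ N) = q := fun q =>
    ⟨q.1.out, (hker _).1 (by rw [QuotientGroup.out_eq']; exact q.2), QuotientGroup.out_eq' _⟩
  have hsame : ∀ x : E, (hx : (x : G)⁻¹ * t * x ∈ C) → ∀ y : E, (y : G)⁻¹ * t * y ∈ C →
      ((x * y : E) : G)⁻¹ * t * (x * y : E) ∈ C := fun x hx y hy => (hker _).1 (by
    rw [QuotientGroup.mk_mul, map_mul, (hker x).2 hx, (hker y).2 hy, one_mul])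
  rcases Nat.lt_or_ge k 3 with hk3 | hk3
  swap
  · refine prod_eq_one_of_quadratic hsqK (fun q : ε.ker => F q) (fun qx qa qb => ?_)
      (hk ▸ le_trans (by norm_num) (Nat.pow_le_pow_right two_pos hk3))
    obtain ⟨x, hx, hxq⟩ := hlift qx
    obtain ⟨a, ha, haq⟩ := hlift qa
    obtain ⟨b, hb, hbq⟩ := hlift qb
    obtain ⟨hexW, hFx⟩ := hQ x hx
    obtain ⟨heaW, hFa⟩ := hQ a ha
    obtain ⟨hebW, hFb⟩ := hQ b hb
    simp only [Subgroup.coe_mul, OneMemClass.coe_one, ← hxq, ← haq, ← hbq, ← QuotientGroup.mk_mul]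
    obtain ⟨-, hFab'⟩ := hQ (a * b) (hsame a ha b hb)
    rw [hFx, hFmul x a hx ha, hFmul x b hx hb, hFmul x (a * b) hx (hsame a ha b hb), hF1, hFa, hFb, hFab',
      show ((a * b : E) : G) = (a : G) * b from rfl, hχmul hexW.1 a.2 b.2,
      hψ _ (hχψ hexW.1 a.2).1 _ (hχψ hexW.1 b.2).1]
    have key : ∀ T X A B P R S : ℤˣ, T * X * (T * X * A * P) * (T * X * B * R) * (T * X * S * (P * R)) =
        T * (T * A) * (T * B) * (T * S) := by decide
    exact key _ _ _ _ _ _ _
  -- at most four fixed points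
  have hlarge : ψ z ≠ 1 → (∀ q, ε (ε q) = 1) ∧ 8 ≤ Fintype.card (E ⧸ N) := by
    intro hz
    obtain ⟨ht2, h128⟩ := hinv.resolve_left hz
    refine ⟨fun q => ?_, ?_⟩
    · induction q using QuotientGroup.induction_on with | H x => ?_
      rw [hεmk, hεmk, QuotientGroup.eq_one_iff, hN, mem_subgroupOf]
      refine hz1 _ ?_
      have hti : t⁻¹ = t := inv_eq_of_mul_eq_one_right ht2
      show e (e x) = 1 ∨ e (e x) = z
      rw [show e (e x) = e x * e x by
        calc e (e x) = t⁻¹ * ((x : G)⁻¹ * t⁻¹ * x * t) * t * e x := by simp only [e]; group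
          _ = t⁻¹ * ((x : G)⁻¹ * t * x) * (t * t) * e x := by rw [hti]; group
          _ = e x * e x := by rw [ht2, mul_one, heq, inv_mul_cancel_left]]
      exact h.toXSub.sq_cases (heE htn x.2)
    · have hab : IsMulCommutative N := ⟨⟨fun a b => by
        rcases h.toXSub.conj_cases a.1.2 b.1.2 with e1 | e1
        · exact Subtype.ext (Subtype.ext (XSub.conj_eq_self_iff.1 e1))
        · exfalso
          have ha := hmemN a.2
          have hb := hmemN b.2
          apply hz
          have e2 : ψ ((a.1 : G) * b.1 * (a.1 : G)⁻¹) = ψ (b.1 : G) * ψ z := by rw [e1, hψ _ hb z hzC]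
          rw [hψ _ (C.mul_mem ha hb) _ (C.inv_mem ha), hψ _ ha _ hb, mul_comm (ψ (a.1 : G)), mul_assoc,
            ← hψ _ ha _ (C.inv_mem ha), mul_inv_cancel, hψ1, mul_one] at e2
          exact mul_eq_left.1 e2.symm⟩⟩
      haveI : Fact (Nat.Prime 2) := ⟨Nat.prime_two⟩
      have h2 := FGBasics.XS.card_abelian_sq_le h.xs N hab
      have h3 := N.card_eq_card_quotient_mul_card_subgroup
      rw [Nat.card_eq_fintype_card (α := E ⧸ N)] at h3
      by_contra hlt
      push Not at hlt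
      have h4 : Nat.card E ≤ 7 * Nat.card N := h3 ▸ Nat.mul_le_mul_right _ (by omega)
      nlinarith
  have hnontriv : ψ z ≠ 1 → ∃ q, ε q ≠ 1 := fun hz => by
    by_contra hcon
    push Not at hcon
    have hcard : Fintype.card ε.ker = Fintype.card (E ⧸ N) :=
      Fintype.card_congr (Equiv.subtypeUnivEquiv fun q => MonoidHom.mem_ker.2 (hcon q))
    have h8 := (hlarge hz).2
    have h4 : 2 ^ k ≤ 2 ^ 2 := Nat.pow_le_pow_right two_pos (by omega)
    omega
  have hz' : k = 1 → ψ z = 1 := fun hk1 => by_contra fun hz => by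
    obtain ⟨hee, h8⟩ := hlarge hz
    have h1 := ε.ker.card_eq_card_quotient_mul_card_subgroup
    rw [Nat.card_congr (QuotientGroup.quotientKerEquivRange ε).toEquiv,
      Nat.card_eq_fintype_card (α := E ⧸ N), Nat.card_eq_fintype_card (α := ε.ker)] at h1
    have h2 : Nat.card ε.range ≤ Fintype.card ε.ker := by
      rw [← Nat.card_eq_fintype_card]
      exact Subgroup.card_le_of_le (by rintro _ ⟨q, rfl⟩; exact hee q)
    rw [hk, hk1] at h2 h1
    omega
  interval_cases k
  · exact absurd rfl hk0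
  · -- two fixed points on the orbit
    have hz : ψ z = 1 := hz' rfl
    obtain ⟨qa, -, hall⟩ := (Nat.card_eq_two_iff' (1 : ε.ker)).1 (by rw [Nat.card_eq_fintype_card, hk, pow_one])
    obtain ⟨a, hqa, hψa⟩ : ∃ a : ε.ker, a ≠ 1 ∧ F a = ψ t := by
      by_cases htriv : ∀ q, ε q = 1
      · obtain ⟨q, hq⟩ : ∃ q : ε.ker, q ≠ 1 := Fintype.exists_ne_of_one_lt_card (by rw [hk]; norm_num) 1
        refine ⟨q, hq, ?_⟩
        obtain ⟨x, hx, hxq⟩ := hlift q
        obtain ⟨hexW, hFx⟩ := hQ x hx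
        have huE : u ∈ E := mem_of_index_two h hu hu2 (by
          have h3 := N.card_eq_card_quotient_mul_card_subgroup
          rw [Nat.card_eq_fintype_card (α := E ⧸ N), ← Fintype.card_congr
            (Equiv.subtypeUnivEquiv fun q => MonoidHom.mem_ker.2 (htriv q) : ε.ker ≃ E ⧸ N), hk, pow_one] at h3
          rw [h3, hN, Nat.card_congr (subgroupOfEquivOfLe (inf_le_left : E ⊓ C ≤ E)).toEquiv])
        rw [← hxq, hFx, hE2 huE _ hexW.1 hexW.2, mul_one]
      · push Not at htriv
        obtain ⟨q, hq⟩ := htriv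
        obtain ⟨q', hq1, hq2⟩ := himage q hq
        obtain ⟨a, x, hax, ha, haC⟩ := hpick q' hq1 hq2
        refine ⟨⟨QuotientGroup.mk a, MonoidHom.mem_ker.2 ((hker a).2 ha)⟩, fun hone => haC ?_, ?_⟩
        · exact hmemN ((QuotientGroup.eq_one_iff a).1 (congrArg Subtype.val hone))
        obtain ⟨heaW, hFa⟩ := hQ a ha
        show F (QuotientGroup.mk a) = _
        rw [hFa]
        -- compare with the square of `t`
        set d := (t * t)⁻¹ * (x : G)⁻¹ * (t * t) * x with hd
        have hdE : d ∈ E := heE (mul_mem htn htn) x.2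
        have hea : e a = (a : G) * d⁻¹ * (a : G) := by rw [hd, hax]; simp only [e]; group
        obtain ⟨c, hc, hcz⟩ : ∃ c, (a : G) * d⁻¹ * (a : G)⁻¹ = d⁻¹ * c ∧ (c = 1 ∨ c = z) := by
          rcases h.toXSub.conj_cases a.2 (inv_mem hdE) with e1 | e1
          exacts [⟨1, by rw [e1, mul_one], Or.inl rfl⟩, ⟨z, e1, Or.inr rfl⟩]
        have hea' : e a = d⁻¹ * c * ((a : G) * a) := by rw [hea, ← hc]; group
        have haaC : (a : G) * a ∈ C := (hz1 _ (h.toXSub.sq_cases a.2)).2
        have hcC : c ∈ C := (hz1 _ hcz).2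
        have hdC : d ∈ C := inv_mem_iff.1 ((mul_mem_cancel_right hcC).1 ((mul_mem_cancel_right haaC).1
          (hea' ▸ heaW.2)))
        have hconst : ∀ w, w = 1 ∨ w = z → ψ w = 1 := by rintro w (rfl | rfl); exacts [hψ1, hz]
        have htt : ψ (t * t) = 1 := by rw [hψ t htu t htu, Int.units_mul_self]
        have hxtx : (x : G)⁻¹ * (t * t) * x = t * t * d := by rw [hd]; group
        have hψd : ψ d = 1 := by
          have := hsq x x.2 (by rw [hxtx]; exact C.mul_mem (C.mul_mem htu htu) hdC)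
          rwa [hxtx, hψ _ (C.mul_mem htu htu) d hdC, htt, one_mul] at this
        have hψdi : ψ d⁻¹ = 1 := by
          have := hψ _ (C.inv_mem hdC) d hdC
          rw [inv_mul_cancel, hψ1, hψd, mul_one] at this
          exact this.symm
        rw [hea', hψ _ (C.mul_mem (C.inv_mem hdC) hcC) _ haaC, hψ _ (C.inv_mem hdC) c hcC, hψdi,
          hconst c hcz, hconst _ (h.toXSub.sq_cases a.2)]
        simp
    have huniv : (Finset.univ : Finset ε.ker) = {1, a} := by
      ext q
      simp only [Finset.mem_univ, Finset.mem_insert, Finset.mem_singleton, true_iff]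
      by_cases hq : q = 1
      · exact Or.inl hq
      · exact Or.inr ((hall q hq).trans (hall a hqa).symm)
    rw [huniv, Finset.prod_pair (Ne.symm hqa), OneMemClass.coe_one, hF1, hψa, Int.units_mul_self]
  · -- four fixed points on the orbit
    obtain ⟨a, b, ha, hb, ha1, hb1, hab, hχab⟩ : ∃ a b : E, ∃ _ : (a : G)⁻¹ * t * a ∈ C,
        ∃ _ : (b : G)⁻¹ * t * b ∈ C, (QuotientGroup.mk a : E ⧸ N) ≠ 1 ∧ (QuotientGroup.mk b : E ⧸ N) ≠ 1 ∧
        (QuotientGroup.mk a : E ⧸ N) ≠ QuotientGroup.mk b ∧ ψ (χ (e a) b) = 1 := by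
      obtain ⟨a, ha, ha1, hcen'⟩ : ∃ a : E, ∃ _ : (a : G)⁻¹ * t * a ∈ C,
          (QuotientGroup.mk a : E ⧸ N) ≠ 1 ∧ (ψ z = 1 ∨ e a = 1 ∨ e a = z) := by
        by_cases hz : ψ z = 1
        · obtain ⟨q, hq⟩ : ∃ q : ε.ker, q ≠ 1 := Fintype.exists_ne_of_one_lt_card (by rw [hk]; norm_num) 1
          obtain ⟨x, hx, hxq⟩ := hlift q
          exact ⟨x, hx, fun h1 => hq (Subtype.ext (hxq.symm.trans h1)), Or.inl hz⟩
        · obtain ⟨q, hq⟩ := hnontriv hz
          obtain ⟨a, x, hax, ha, haC⟩ := hpick q hq ((hlarge hz).1 q)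
          refine ⟨a, ha, fun h1 => haC (hmemN ((QuotientGroup.eq_one_iff a).1 h1)), Or.inr ?_⟩
          have hti : t⁻¹ = t := inv_eq_of_mul_eq_one_right (hinv.resolve_left hz).1
          have : e a = (a : G) * a := by
            rw [hax]
            calc e (e x) = t⁻¹ * ((x : G)⁻¹ * t⁻¹ * x * t) * t * e x := by simp only [e]; group
              _ = t⁻¹ * ((x : G)⁻¹ * t * x) * (t * t) * e x := by rw [hti]; group
              _ = e x * e x := by rw [(hinv.resolve_left hz).1, mul_one, heq, inv_mul_cancel_left]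
          rw [this]
          exact h.toXSub.sq_cases a.2
      obtain ⟨q, hq⟩ : ∃ q : ε.ker, q ∉ ({1, ⟨_, MonoidHom.mem_ker.2 ((hker a).2 ha)⟩} : Finset ε.ker) := by
        by_contra hcon
        push Not at hcon
        have := (Finset.card_le_card (s := (Finset.univ : Finset ε.ker)) fun x _ => hcon x).trans Finset.card_le_two
        rw [Finset.card_univ, hk] at this
        omega
      simp only [Finset.mem_insert, Finset.mem_singleton, not_or] at hq
      obtain ⟨b, hb, hbq⟩ := hlift q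
      refine ⟨a, b, ha, hb, ha1, fun h1 => hq.1 (Subtype.ext (hbq.symm.trans h1)),
        fun h1 => hq.2 (Subtype.ext (hbq.symm.trans h1.symm)), ?_⟩
      obtain ⟨heaW, -⟩ := hQ a ha
      rcases hcen' with hz | hc
      · exact (hχψ heaW.1 b.2).2 hz
      · rw [show χ (e a) b = 1 by
          simp only [χ]; rw [mul_assoc _ _ (b : G), hcen b.2 hc]; group, hψ1]
    let qa : ε.ker := ⟨_, MonoidHom.mem_ker.2 ((hker a).2 ha)⟩
    let qb : ε.ker := ⟨_, MonoidHom.mem_ker.2 ((hker b).2 hb)⟩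
    have e1 : qa ≠ 1 := fun h1 => ha1 (congrArg Subtype.val h1)
    have e2 : qb ≠ 1 := fun h1 => hb1 (congrArg Subtype.val h1)
    have e3 : qa ≠ qb := fun h1 => hab (congrArg Subtype.val h1)
    have e4 : qa * qb ≠ 1 := fun h1 => e3 (by
      rw [← mul_one qa, ← hsqK qb, ← mul_assoc, h1, one_mul])
    have e5 : qa * qb ≠ qa := fun h1 => e2 (mul_eq_left.1 h1)
    have e6 : qa * qb ≠ qb := fun h1 => e1 (mul_eq_right.1 h1)
    have huniv : (Finset.univ : Finset ε.ker) = {1, qa, qb, qa * qb} := by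
      refine (Finset.eq_univ_of_card _ ?_).symm
      rw [hk, Finset.card_insert_of_notMem, Finset.card_insert_of_notMem, Finset.card_pair (Ne.symm e6)] <;>
        simp [e1.symm, e2.symm, e3, e4.symm, e5.symm]
    rw [huniv, Finset.prod_insert (by simp [e1.symm, e2.symm, e4.symm]),
      Finset.prod_insert (by simp [e3, e5.symm]), Finset.prod_pair (Ne.symm e6)]
    show F 1 * (F (QuotientGroup.mk a) * (F (QuotientGroup.mk b) * F (QuotientGroup.mk (a * b)))) = 1
    rw [hF1, (hQ a ha).2, (hQ b hb).2, hFmul a b ha hb, hχab]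
    have key : ∀ T A B : ℤˣ, T * (T * A * (T * B * (T * A * B * 1))) = 1 := by decide
    exact key _ _ _

end Cfsg.Agent.LargeExtra
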