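import Cfsg.Agent.Lib.LargeExtra.Basic
import Mathlib.LinearAlgebra.GeneralLinearGroup.AlgEquiv
import Mathlib.LinearAlgebra.QuadraticForm.Basic
import Mathlib.LinearAlgebra.Matrix.BilinearForm
import Mathlib.LinearAlgebra.Matrix.ToLin
import Mathlib.LinearAlgebra.Matrix.Trace

/-!
# The normalizer of the monomial extraspecial group over the field with three elements

Every isometry of the hyperbolic quadratic space over the field with two elements is induced by a matrix over
the field with three elements, unique up to sign and the extraspecial group.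
-/

set_option autoImplicit false

namespace Cfsg.Agent.PlusLift

open Matrix

local notation "F₂" => ZMod 2
local notation "F₃" => ZMod 3

/-- The translations. -/
abbrev Pt (n : ℕ) := Fin n → ZMod 2

/-- The symplectic space. -/
abbrev Sp (n : ℕ) := Pt n × Pt n

/-- The matrix group. -/
abbrev GG (n : ℕ) := (Matrix (Pt n) (Pt n) (ZMod 3))ˣ

variable {n : ℕ}

instance : Fact (Nat.Prime 3) := ⟨Nat.prime_three⟩

/-- The sign character. -/
def sgn (x : F₂) : F₃ := if x = 0 then 1 else -1

theorem sgn_add : ∀ x y : F₂, sgn (x + y) = sgn x * sgn y := by decide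

theorem sgn_sq : ∀ x : F₂, sgn x * sgn x = 1 := by decide

theorem sgn_zero : sgn 0 = 1 := rfl

theorem sgn_ne : ∀ x : F₂, sgn x ≠ 0 := by decide

theorem sgn_inj : ∀ x y : F₂, sgn x = sgn y → x = y := by decide

theorem sgn_one : sgn 1 = -1 := rfl

theorem add_self (u : Sp n) : u + u = 0 :=
  Prod.ext (funext fun i => CharTwo.add_self_eq_zero (u.1 i)) (funext fun i => CharTwo.add_self_eq_zero (u.2 i))

/-- The cocycle. -/
def beta (u v : Sp n) : F₂ := u.2 ⬝ᵥ v.1

/-- The translation-sign matrices. -/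
def M (u : Sp n) : Matrix (Pt n) (Pt n) F₃ := fun i j => if i = j + u.1 then sgn (u.2 ⬝ᵥ j) else 0

theorem M_zero : M (0 : Sp n) = 1 := by
  ext i j
  simp only [M, Prod.fst_zero, Prod.snd_zero, add_zero, zero_dotProduct, sgn_zero, Matrix.one_apply]

theorem M_mul (u v : Sp n) : M u * M v = sgn (beta u v) • M (u + v) := by
  ext i k
  rw [Matrix.mul_apply, Finset.sum_eq_single (k + v.1)]
  · simp only [M, Matrix.smul_apply, smul_eq_mul, Prod.fst_add, Prod.snd_add, beta, if_true]
    by_cases h : i = k + (u.1 + v.1)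
    · rw [if_pos h, if_pos (by rw [h]; abel), dotProduct_add, add_dotProduct, sgn_add, sgn_add]
      ring
    · rw [if_neg h, if_neg (fun h' => h (by rw [h']; abel)), zero_mul, mul_zero]
  · intro j _ hj
    simp only [M, if_neg hj, mul_zero]
  · exact fun h => absurd (Finset.mem_univ _) h

theorem trace_M {u : Sp n} (hu : u ≠ 0) : Matrix.trace (M u) = 0 := by
  simp only [Matrix.trace, Matrix.diag, M]
  by_cases h1 : u.1 = 0
  · have h2 : u.2 ≠ 0 := fun h => hu (Prod.ext h1 h)
    simp only [h1, add_zero, if_true]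
    obtain ⟨i, hi⟩ : ∃ i, u.2 i ≠ 0 := by
      by_contra h
      push_neg at h
      exact h2 (funext h)
    have hi1 : u.2 i = 1 := (by decide : ∀ x : F₂, x ≠ 0 → x = 1) _ hi
    have h := Equiv.sum_comp (Equiv.addRight (Pi.single i 1 : Pt n)) fun j => sgn (u.2 ⬝ᵥ j)
    simp only [Equiv.coe_addRight, dotProduct_add, dotProduct_single, hi1, mul_one, sgn_add, sgn_one, mul_neg,
      Finset.sum_neg_distrib] at h
    exact (by decide : ∀ x : F₃, -x = x → x = 0) _ h
  · refine Finset.sum_eq_zero fun j _ => if_neg fun h => h1 ?_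
    exact left_eq_add.1 h

theorem two_pow_ne : ((2 : F₃) ^ n) ≠ 0 := pow_ne_zero _ (by decide)

theorem linInd : LinearIndependent F₃ (M : Sp n → Matrix (Pt n) (Pt n) F₃) := by
  classical
  refine Fintype.linearIndependent_iff.2 fun c hc v => ?_
  have h := congrArg (fun X => Matrix.trace (X * M v)) hc
  simp only [Finset.sum_mul, Matrix.trace_sum, Matrix.smul_mul, M_mul, Matrix.trace_smul, zero_mul,
    Matrix.trace_zero] at h
  rw [Finset.sum_eq_single v] at h
  · rw [add_self, M_zero, Matrix.trace_one, smul_eq_mul, smul_eq_mul, Fintype.card_fun, ZMod.card, Fintype.card_fin,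
      Nat.cast_pow, ← mul_assoc] at h
    exact (mul_eq_zero.1 ((mul_eq_zero.1 h).resolve_right two_pow_ne)).resolve_right (sgn_ne _)
  · intro u _ huv
    rw [trace_M fun h' => huv ?_, smul_zero, smul_zero]
    calc u = u + (v + v) := by rw [add_self, add_zero]
      _ = v := by rw [← add_assoc, h', zero_add]
  · exact fun h' => absurd (Finset.mem_univ _) h'

theorem card_Sp : Fintype.card (Sp n) = Module.finrank F₃ (Matrix (Pt n) (Pt n) F₃) := by
  rw [Module.finrank_matrix, Module.finrank_self, mul_one, Fintype.card_prod]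

/-- The basis. -/
noncomputable def bas : Module.Basis (Sp n) F₃ (Matrix (Pt n) (Pt n) F₃) :=
  basisOfLinearIndependentOfCardEqFinrank linInd card_Sp

theorem bas_apply (u : Sp n) : bas u = M u := congrFun (coe_basisOfLinearIndependentOfCardEqFinrank linInd card_Sp) u

theorem M_eq_of_smul {a b : F₃} (ha : a ≠ 0) {u v : Sp n} (h : a • M u = b • M v) : u = v := by
  by_contra huv
  have h2 := congrArg (fun X => bas.repr X u) h
  simp only [← bas_apply, map_smul, Module.Basis.repr_self, Finsupp.smul_apply, Finsupp.single_eq_same,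
    Finsupp.single_eq_of_ne huv, smul_eq_mul, mul_one, mul_zero] at h2
  exact ha h2

theorem sgn_smul_inj {a b : F₂} {u v : Sp n} (h : sgn a • M u = sgn b • M v) : u = v ∧ a = b := by
  obtain rfl := M_eq_of_smul (sgn_ne a) h
  exact ⟨rfl, sgn_inj _ _ (smul_left_injective F₃ ((linInd (n := n)).ne_zero u) h)⟩

/-- `M u` as a unit. -/
def Mu (u : Sp n) : GG n where
  val := M u
  inv := sgn (beta u u) • M u
  val_inv := by rw [Matrix.mul_smul, M_mul, add_self, M_zero, smul_smul, sgn_sq, one_smul]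
  inv_val := by rw [Matrix.smul_mul, M_mul, add_self, M_zero, smul_smul, sgn_sq, one_smul]

/-- A correcting quadratic function. -/
theorem exists_correction (k : Sp n ≃ₗ[F₂] Sp n) (hk : ∀ u, beta (k u) (k u) = beta u u) :
    ∃ c : Sp n → F₂, ∀ u v, beta u v + c (u + v) = c u + c v + beta (k u) (k v) := by
  classical
  let γ : Sp n →ₗ[F₂] Sp n →ₗ[F₂] F₂ := LinearMap.mk₂ F₂ (fun u v => beta (k u) (k v) + beta u v)
    (fun a b v => by simp only [beta, map_add, Prod.snd_add, add_dotProduct]; abel)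
    (fun r a v => by simp only [beta, map_smul, Prod.smul_snd, smul_dotProduct, smul_eq_mul, mul_add])
    (fun u a b => by simp only [beta, map_add, Prod.fst_add, dotProduct_add]; abel)
    (fun r u a => by simp only [beta, map_smul, Prod.smul_fst, dotProduct_smul, smul_eq_mul, mul_add])
  have hγ : ∀ u, γ u u = 0 := fun u => by
    show beta (k u) (k u) + beta u u = 0
    rw [hk]; exact CharTwo.add_self_eq_zero _
  have hsymm : ∀ u v, γ u v = γ v u := fun u v => by
    have h := hγ (u + v)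
    simp only [map_add, LinearMap.add_apply, hγ, zero_add, add_zero] at h
    exact (CharTwo.add_eq_zero.1 h).symm
  let b := Module.finBasis F₂ (Sp n)
  let up := Matrix.toBilin b (Matrix.of fun i j => if i < j then γ (b i) (b j) else 0)
  have hup : ∀ i j, up (b i) (b j) = if i < j then γ (b i) (b j) else 0 := fun i j => by
    have h := congrFun (congrFun (LinearMap.BilinForm.toMatrix_toBilin (b := b)
      (M := Matrix.of fun i j => if i < j then γ (b i) (b j) else 0)) i) j
    rwa [LinearMap.BilinForm.toMatrix_apply] at h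
  have hadd : up + LinearMap.flip up = γ := b.ext fun i => b.ext fun j => by
    rw [LinearMap.add_apply, LinearMap.add_apply, LinearMap.flip_apply, hup, hup]
    rcases lt_trichotomy i j with h | rfl | h
    · rw [if_pos h, if_neg h.not_gt, add_zero]
    · rw [if_neg (lt_irrefl _), hγ, add_zero]
    · rw [if_neg h.not_gt, if_pos h, zero_add, hsymm]
  refine ⟨fun u => up u u, fun u v => ?_⟩
  have h : up u v + up v u = γ u v := LinearMap.congr_fun (LinearMap.congr_fun hadd u) v
  replace h : up u v + up v u = beta (k u) (k v) + beta u v := h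
  simp only [map_add, LinearMap.add_apply]
  linear_combination h + CharTwo.add_self_eq_zero (beta u v)

/-- Every isometry is induced by a matrix. -/
theorem exists_lift (k : Sp n ≃ₗ[F₂] Sp n) (hk : ∀ u, beta (k u) (k u) = beta u u) :
    ∃ g : GG n, ∀ u, ∃ a : F₂, (g : Matrix (Pt n) (Pt n) F₃) * M u = sgn a • (M (k u) * g) := by
  classical
  obtain ⟨c, hc⟩ := exists_correction k hk
  set Φ : Matrix (Pt n) (Pt n) F₃ →ₗ[F₃] Matrix (Pt n) (Pt n) F₃ :=
    bas.constr F₃ fun u => sgn (c u) • M (k u) with hΦ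
  have hb : ∀ u, Φ (M u) = sgn (c u) • M (k u) := fun u => by rw [← bas_apply, hΦ, Module.Basis.constr_basis]
  have hc0 : c 0 = 0 := by
    have h := hc 0 0
    simp only [beta, map_zero, Prod.fst_zero, Prod.snd_zero, dotProduct_zero, add_zero, zero_add] at h
    rw [h]; exact CharTwo.add_self_eq_zero _
  have h1 : Φ 1 = 1 := by rw [← M_zero, hb, hc0, sgn_zero, one_smul, map_zero]
  have hmul : ∀ x y, Φ (x * y) = Φ x * Φ y := by
    have h : (LinearMap.mul F₃ (Matrix (Pt n) (Pt n) F₃)).compr₂ Φ =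
        (LinearMap.mul F₃ (Matrix (Pt n) (Pt n) F₃)).compl₁₂ Φ Φ := bas.ext fun u => bas.ext fun v => by
      simp only [LinearMap.compr₂_apply, LinearMap.compl₁₂_apply, LinearMap.mul_apply', bas_apply]
      rw [M_mul, map_smul, hb, hb, hb, Matrix.smul_mul, Matrix.mul_smul, M_mul, smul_smul, smul_smul, smul_smul,
        map_add k, ← sgn_add, ← sgn_add, ← sgn_add, hc u v, add_assoc]
    exact fun x y => LinearMap.congr_fun (LinearMap.congr_fun h x) y
  let Φa : Matrix (Pt n) (Pt n) F₃ →ₐ[F₃] Matrix (Pt n) (Pt n) F₃ := AlgHom.ofLinearMap Φ h1 hmul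
  have hsurj : Function.Surjective Φ := by
    refine LinearMap.range_eq_top.1 (top_le_iff.1 (bas.span_eq ▸ Submodule.span_le.2 ?_))
    rintro _ ⟨v, rfl⟩
    refine ⟨sgn (c (k.symm v)) • M (k.symm v), ?_⟩
    rw [map_smul, hb, smul_smul, sgn_sq, one_smul, k.apply_symm_apply, bas_apply]
  let Φe : Matrix (Pt n) (Pt n) F₃ ≃ₐ[F₃] Matrix (Pt n) (Pt n) F₃ :=
    AlgEquiv.ofBijective Φa ⟨LinearMap.injective_iff_surjective.2 hsurj, hsurj⟩
  let e := Matrix.toLinAlgEquiv' (R := F₃) (n := Pt n)
  obtain ⟨T, hT⟩ := (e.symm.trans (Φe.trans e)).eq_linearEquivConjAlgEquiv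
  have hTA : ∀ A, e (Φ A) ∘ₗ (T : (Pt n → F₃) →ₗ[F₃] Pt n → F₃) = (T : (Pt n → F₃) →ₗ[F₃] Pt n → F₃) ∘ₗ e A := by
    intro A
    refine LinearMap.ext fun x => ?_
    have h : e (Φ (e.symm (e A))) (T x) = T ((e A) (T.symm (T x))) :=
      LinearMap.congr_fun (AlgEquiv.ext_iff.1 hT (e A)) (T x)
    rwa [e.symm_apply_apply, T.symm_apply_apply] at h
  let g : GG n :=
    { val := e.symm (T : (Pt n → F₃) →ₗ[F₃] Pt n → F₃)
      inv := e.symm (T.symm : (Pt n → F₃) →ₗ[F₃] Pt n → F₃)
      val_inv := by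
        rw [← map_mul, ← map_one e.symm]; congr 1
        exact LinearMap.ext fun x => T.apply_symm_apply x
      inv_val := by
        rw [← map_mul, ← map_one e.symm]; congr 1
        exact LinearMap.ext fun x => T.symm_apply_apply x }
  refine ⟨g, fun u => ⟨c u, e.injective ?_⟩⟩
  have h := hTA (M u)
  rw [hb] at h
  rw [← Matrix.smul_mul, map_mul, map_mul, show e (g : Matrix (Pt n) (Pt n) F₃) = _ from e.apply_symm_apply _]
  exact h.symm

/-- A matrix commuting with all `M u` is a sign. -/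
theorem eq_sgn_of_commute (g : GG n)
    (h : ∀ u, (g : Matrix (Pt n) (Pt n) F₃) * M u = M u * (g : Matrix (Pt n) (Pt n) F₃)) :
    ∃ a : F₂, (g : Matrix (Pt n) (Pt n) F₃) = sgn a • 1 := by
  classical
  have hall : ∀ x : Matrix (Pt n) (Pt n) F₃, Commute (g : Matrix (Pt n) (Pt n) F₃) x := fun x => by
    have hx : x ∈ Submodule.span F₃ (Set.range bas) := by rw [bas.span_eq]; trivial
    induction hx using Submodule.span_induction with
    | mem y hy => obtain ⟨u, rfl⟩ := hy; rw [bas_apply]; exact h u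
    | zero => exact Commute.zero_right _
    | add y z _ _ h1 h2 => exact h1.add_right h2
    | smul a y _ h1 => exact h1.smul_right a
  obtain ⟨a, ha⟩ := Matrix.mem_range_scalar_of_commute_single fun i j _ => (hall (Matrix.single i j 1)).symm
  have ha0 : a ≠ 0 := fun h0 => by
    rw [h0, map_zero] at ha
    exact g.ne_zero ha.symm
  obtain ⟨b, rfl⟩ := (by decide : ∀ a : F₃, a ≠ 0 → ∃ b, a = sgn b) a ha0
  exact ⟨b, by rw [← ha, Matrix.scalar_apply, Matrix.smul_one_eq_diagonal]⟩

section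

variable {K : Type*} [Group K] (ρ : K → Sp n ≃ₗ[F₂] Sp n)

/-- Inducing a member of `K`. -/
def Induces (k : K) (g : GG n) : Prop :=
  ∀ u, ∃ a : F₂, (g : Matrix (Pt n) (Pt n) F₃) * M u = sgn a • (M (ρ k u) * g)

variable (hmul : ∀ k l u, ρ (k * l) u = ρ k (ρ l u)) (hone : ∀ u, ρ 1 u = u) (hinj : Function.Injective ρ)

include hone in
theorem induces_one : Induces ρ 1 (1 : GG n) := fun u =>
  ⟨0, by rw [hone, sgn_zero, one_smul, Units.val_one, one_mul, mul_one]⟩

include hmul in
theorem Induces.mul {k l : K} {g h : GG n} (hg : Induces ρ k g) (hh : Induces ρ l h) : Induces ρ (k * l) (g * h) := by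
  intro u
  obtain ⟨a, ha⟩ := hh u
  obtain ⟨b, hb⟩ := hg (ρ l u)
  refine ⟨a + b, ?_⟩
  rw [hmul, Units.val_mul, mul_assoc, ha, mul_smul_comm, ← mul_assoc, hb, smul_mul_assoc, smul_smul, ← sgn_add,
    mul_assoc]

include hinj in
theorem Induces.unique {k l : K} {g : GG n} (hg : Induces ρ k g) (hg' : Induces ρ l g) : k = l := by
  refine hinj (LinearEquiv.ext fun u => ?_)
  obtain ⟨a, ha⟩ := hg u
  obtain ⟨b, hb⟩ := hg' u
  have h : sgn a • M (ρ k u) = sgn b • M (ρ l u) := by
    have h2 := congrArg (fun X => X * (↑g⁻¹ : Matrix (Pt n) (Pt n) F₃)) (ha.symm.trans hb)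
    simpa only [smul_mul_assoc, mul_assoc, Units.mul_inv, mul_one] using h2
  exact (sgn_smul_inj h).1

include hmul hone in
theorem Induces.inv {k : K} {g : GG n} (hg : Induces ρ k g) : Induces ρ k⁻¹ g⁻¹ := by
  intro u
  obtain ⟨a, ha⟩ := hg (ρ k⁻¹ u)
  rw [← hmul, mul_inv_cancel, hone] at ha
  refine ⟨a, ?_⟩
  have h := congrArg (fun X : Matrix (Pt n) (Pt n) F₃ =>
    sgn a • ((↑g⁻¹ : Matrix (Pt n) (Pt n) F₃) * X * (↑g⁻¹ : Matrix (Pt n) (Pt n) F₃))) ha
  simp only [mul_smul_comm, smul_mul_assoc, smul_smul, sgn_sq, one_smul, mul_assoc, Units.mul_inv, mul_one] at h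
  rw [← mul_assoc (↑g⁻¹ : Matrix (Pt n) (Pt n) F₃), Units.inv_mul, one_mul] at h
  exact h.symm

/-- The lifts. -/
def lifts : Subgroup (GG n) where
  carrier := {g | ∃ k, Induces ρ k g ∧ (∀ a b u, ρ (a * b) u = ρ a (ρ b u)) ∧ ∀ u, ρ 1 u = u} ∪ {1}
  one_mem' := Or.inr rfl
  mul_mem' := by
    rintro g h (⟨k, hk, h1, h2⟩ | rfl) hh
    · rcases hh with ⟨l, hl, -, -⟩ | rfl
      · exact Or.inl ⟨k * l, Induces.mul ρ h1 hk hl, h1, h2⟩
      · rw [mul_one]; exact Or.inl ⟨k, hk, h1, h2⟩
    · rw [one_mul]; exact hh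
  inv_mem' := by
    rintro g (⟨k, hk, h1, h2⟩ | rfl)
    · exact Or.inl ⟨k⁻¹, Induces.inv ρ h1 h2 hk, h1, h2⟩
    · exact Or.inr inv_one

include hmul hone in
theorem mem_lifts {g : GG n} : g ∈ lifts ρ ↔ ∃ k, Induces ρ k g :=
  ⟨fun h => h.elim (fun ⟨k, hk, _⟩ => ⟨k, hk⟩) fun h => ⟨1, (show g = 1 from h) ▸ induces_one ρ hone⟩,
    fun ⟨k, hk⟩ => Or.inl ⟨k, hk, hmul, hone⟩⟩

end

end Cfsg.Agent.PlusLift
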