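import Cfsg.Agent.Lib.LargeExtra.Setting

/-!
Singular subgroups: pairwise orthogonal conjugates of the central involution.
-/

set_option autoImplicit false
set_option linter.unusedSectionVars false
set_option linter.style.haveILetI false

namespace Cfsg.Agent.LargeExtra

open Subgroup

variable {G : Type*} [Group G] [Finite G]

/-- A singular subgroup with the 2-cores of the centralizers. -/
structure Singular (Q : G → Subgroup G) (U : Subgroup G) : Prop where
  core : ∀ x, Q x = coreAt x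
  loc : ∀ u ∈ U, u ≠ 1 → XSLocal (Q u) u
  sq : ∀ u ∈ U, u * u = 1
  orth : ∀ u ∈ U, ∀ v ∈ U, u ≠ 1 → v ≠ 1 → v ∈ Q u

theorem singular_of {Q : G → Subgroup G} {z : G} {U : Subgroup G}
    (hQ : ∀ x : G, Q x = (Cfsg.pCore 2 ↥(centralizer ({x} : Set G))).map (centralizer ({x} : Set G)).subtype)
    (hz : orderOf z = 2) (hE : IsExtraspecial 2 ↥(Q z)) (hC : centralizer ((Q z : Subgroup G) : Set G) ≤ Q z)
    (hU2 : ∀ u ∈ U, u * u = 1) (hS : ∀ u ∈ U, u ≠ 1 → ∃ g : G, g * z * g⁻¹ = u)
    (hO : ∀ u ∈ U, ∀ v ∈ U, u ≠ 1 → v ≠ 1 → v ∈ Q u) : Singular Q U := by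
  have hQ' : ∀ x, Q x = coreAt x := hQ
  refine ⟨hQ', fun u hu h1 => ?_, hU2, hO⟩
  obtain ⟨g, rfl⟩ := hS u hu h1
  rw [hQ'] at hE hC ⊢
  have hzc : z ∈ centralizer ((coreAt z : Subgroup G) : Set G) :=
    fun q hq => mem_centralizer_one.1 (coreAt_le z hq)
  have h : XSLocal (coreAt z) z := XSLocal.of_core hz hE (hC hzc) (coreAt_le z) hC (coreAt_normal z)
  rw [coreAt_conj]
  exact h.conj g

namespace Singular

variable {Q : G → Subgroup G} {U : Subgroup G}

theorem comm (S : Singular Q U) {a b : G} (ha : a ∈ U) (hb : b ∈ U) : a * b = b * a := by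
  have h := S.sq _ (mul_mem ha hb)
  calc a * b = a * b * (b * a * (a * b)) := by
        rw [show b * a * (a * b) = b * (a * a) * b by group, S.sq a ha, mul_one, S.sq b hb, mul_one]
    _ = a * (b * b) * a * (a * b) := by group
    _ = a * b := by rw [S.sq b hb, mul_one, S.sq a ha, one_mul]
    _ = a * b * (a * b) * (b * a) := by
        rw [show a * b * (a * b) * (b * a) = a * b * a * (b * b) * a by group, S.sq b hb, mul_one,
          show a * b * a * a = a * b * (a * a) by group, S.sq a ha, mul_one]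
    _ = b * a := by rw [h, one_mul]

theorem le_core (S : Singular Q U) {u : G} (hu : u ∈ U) (h1 : u ≠ 1) : U ≤ Q u := by
  intro v hv
  by_cases hv1 : v = 1
  · exact hv1 ▸ one_mem _
  · exact S.orth u hu v hv h1 hv1

theorem conj_mem_self (S : Singular Q U) {u : G} (hu : u ∈ U) (h1 : u ≠ 1) {q v : G} (hq : q ∈ Q u) (hv : v ∈ U) :
    q * v * q⁻¹ ∈ U := by
  rcases (S.loc u hu h1).conj_cases hq (S.le_core hu h1 hv) with e | e <;> rw [e]
  exacts [hv, mul_mem hv hu]

theorem core_le_normalizer (S : Singular Q U) {u : G} (hu : u ∈ U) (h1 : u ≠ 1) :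
    Q u ≤ normalizer (U : Set G) := by
  intro q hq
  refine mem_normalizer_iff.2 fun v => ⟨fun hv => S.conj_mem_self hu h1 hq hv, fun hv => ?_⟩
  simpa [mul_assoc] using S.conj_mem_self hu h1 (inv_mem hq) hv

/-- The radical of the product. -/
theorem mem_core_mul (S : Singular Q U) {u v : G} (hu : u ∈ U) (hv : v ∈ U) (hu1 : u ≠ 1) (hv1 : v ≠ 1)
    (huv : v * u ≠ 1) {x : G} (hxu : x ∈ Q u) (hxv : x ∈ Q v) : x ∈ Q (v * u) := by
  have hne : v ≠ u := fun e => huv (by rw [e]; exact S.sq u hu)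
  obtain ⟨q, hq, e⟩ := (S.loc u hu hu1).exists_conj (S.orth u hu v hv hu1 hv1) hv1 hne
  rw [← e, S.core, coreAt_conj, mem_conjMap, ← S.core]
  rcases (S.loc u hu hu1).conj_cases (inv_mem hq) hxu with e1 | e1 <;> rw [inv_inv] at e1 <;> rw [e1]
  exacts [hxv, mul_mem hxv (S.orth v hv u hu hv1 hu1)]

theorem mem_sup_zpowers (S : Singular Q U) {W : Subgroup G} (hW : W ≤ U) {u : G} (hu : u ∈ U) {a : G}
    (ha : a ∈ W ⊔ zpowers u) : a ∈ W ∨ a * u ∈ W := by
  rw [← closure_eq W, zpowers_eq_closure, ← Subgroup.closure_union] at ha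
  have hui : u⁻¹ = u := inv_eq_of_mul_eq_one_right (S.sq u hu)
  induction ha using closure_induction_left with
  | one => exact Or.inl (one_mem W)
  | mul_left y hy w hw ih =>
    have hwU : w ∈ U := (closure_le U).2 (Set.union_subset hW (Set.singleton_subset_iff.2 hu)) hw
    rcases hy with hy | hy
    · exact ih.imp (fun h => mul_mem hy h) fun h => mul_assoc y w u ▸ mul_mem hy h
    · rcases (hy : y = u) with rfl
      rcases ih with h | h
      · exact Or.inr (by rwa [S.comm hu hwU, mul_assoc, S.sq y hu, mul_one])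
      · exact Or.inl (by rwa [S.comm hu hwU])
  | inv_mul_cancel y hy w hw ih =>
    have hwU : w ∈ U := (closure_le U).2 (Set.union_subset hW (Set.singleton_subset_iff.2 hu)) hw
    rcases hy with hy | hy
    · exact ih.imp (fun h => mul_mem (inv_mem hy) h) fun h => mul_assoc y⁻¹ w u ▸ mul_mem (inv_mem hy) h
    · rcases (hy : y = u) with rfl
      rw [hui]
      rcases ih with h | h
      · exact Or.inr (by rwa [S.comm hu hwU, mul_assoc, S.sq y hu, mul_one])
      · exact Or.inl (by rwa [S.comm hu hwU])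

end Singular

end Cfsg.Agent.LargeExtra
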