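/-
A subgroup of index two of `C(z)` is impossible when the orbits of `O₂(C(z))` on the fixed cosets are even.
-/
import Cfsg.Agent.Lib.LargeExtra.OrbitParity

set_option autoImplicit false
set_option linter.style.haveILetI false
open Cfsg Subgroup

namespace Cfsg.Agent.LargeExtra

variable {G : Type*} [Group G] [Finite G] {E K : Subgroup G} {z : G}

/-- An element of 2-power order of `C(z)` outside `K` of smallest order. -/
theorem IdxTwo.exists_min (hK : IdxTwo K z) :
    ∃ t : G, t ∈ centralizer ({z} : Set G) ∧ t ∉ K ∧ (∃ m, orderOf t = 2 ^ m) ∧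
      ∀ a ∈ centralizer ({z} : Set G), (∃ j, orderOf a = 2 ^ j) → orderOf a < orderOf t → a ∈ K := by
  classical
  haveI : Fact (Nat.Prime 2) := ⟨Nat.prime_two⟩
  obtain ⟨x, hx, hxK⟩ : ∃ x ∈ centralizer ({z} : Set G), x ∉ K := by
    by_contra hcon
    push Not at hcon
    have := hK.idx
    rw [le_antisymm hK.le hcon] at this
    have h0 := (centralizer ({z} : Set G)).index_ne_zero_of_finite
    omega
  obtain ⟨a, b, hab, ha, hb, ⟨j, hj⟩, hodd⟩ := PBasic.exists_pPart_mul (p := 2) x
  have haH : a ∈ centralizer ({z} : Set G) := zpowers_le.2 hx ha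
  have hbH : b ∈ centralizer ({z} : Set G) := zpowers_le.2 hx hb
  have hbK : b ∈ K := by
    by_contra hbK
    have hpow : ∀ k : ℕ, b ^ k ∈ K ↔ Even k := by
      intro k
      induction k with
      | zero => simp
      | succ k ih =>
        rw [pow_succ, hK.mul_iff _ (pow_mem hbH k) _ hbH, ih, Nat.even_add_one]
        simp [hbK]
    have := (hpow (orderOf b)).1 (by rw [pow_orderOf_eq_one]; exact one_mem K)
    exact Nat.not_even_iff_odd.2 ((Nat.coprime_two_right).1 hodd) this
  have hex : ∃ n, ∃ a, a ∈ centralizer ({z} : Set G) ∧ a ∉ K ∧ (∃ m, orderOf a = 2 ^ m) ∧ orderOf a = n :=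
    ⟨_, a, haH, fun hc => hxK (hab ▸ mul_mem hc hbK), ⟨j, hj⟩, rfl⟩
  obtain ⟨t, ht, htK, htm, htn⟩ := Nat.find_spec hex
  refine ⟨t, ht, htK, htm, fun c hc hc2 hlt => ?_⟩
  by_contra hcK
  exact Nat.find_min hex (htn ▸ hlt) ⟨c, hc, hcK, hc2, rfl⟩

/-- The transfer contradiction. -/
theorem false_of_even_orbits (hres : Cfsg.pResidual 2 G = ⊤) (h : XSLocal E z) (hK : IdxTwo K z)
    (hinv : (∀ a ∈ centralizer ({z} : Set G), a * a = 1 → a ∈ K) ∨ 128 ≤ Nat.card E)
    (hE2 : ∀ g : G, g * z * g⁻¹ ∈ E → g * z * g⁻¹ ≠ z → ∀ y ∈ E,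
      g⁻¹ * y * g ∈ centralizer ({z} : Set G) → g⁻¹ * y * g ∈ K) : False := by
  classical
  obtain ⟨t, ht, htK, ⟨m, htm⟩, hmin⟩ := hK.exists_min
  set H := centralizer ({z} : Set G) with hH
  have hEH := h.toXSub.le_centralizer
  have hzH : z ∈ H := hEH h.toXSub.mem
  have htz : t * z = z * t := mem_centralizer_one.1 ht
  haveI : Fintype (G ⧸ H) := Fintype.ofFinite _
  let φ : H →* ℤˣ := MonoidHom.mk' (fun a => if (a : G) ∈ K then 1 else -1) fun a b => by
    have := hK.mul_iff a a.2 b b.2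
    by_cases haK : (a : G) ∈ K <;> by_cases hbK : (b : G) ∈ K <;> simp_all
  have hφ : ∀ a : H, φ a = 1 ↔ (a : G) ∈ K := fun a => by
    show (if (a : G) ∈ K then (1 : ℤˣ) else -1) = 1 ↔ _
    by_cases haK : (a : G) ∈ K <;> simp [haK]
  have hm0 : m ≠ 0 := fun e => htK (by
    rw [e, pow_zero, orderOf_eq_one_iff] at htm
    exact htm ▸ one_mem K)
  have hprod := prod_cosetVal hres φ htm fun a ⟨j, hj⟩ hlt => (hφ a).2
    (hmin a a.2 ⟨j, by rw [orderOf_coe, hj]⟩ (by rwa [orderOf_coe]))
  set x₀ : G ⧸ H := QuotientGroup.mk 1 with hx₀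
  have hval0 : cosetVal φ t x₀ = -1 := by
    have h1 : (1 : G)⁻¹ * t * 1 ∈ H := by simpa using ht
    rw [hx₀, cosetVal_mk φ t 1 h1]
    show (if (1 : G)⁻¹ * t * 1 ∈ K then (1 : ℤˣ) else -1) = -1
    rw [if_neg]
    simpa using htK
  -- cosets moved by `z` cancel in pairs
  have hzval : ∀ x : G ⧸ H, cosetVal φ t (z • x) = cosetVal φ t x := by
    intro x
    induction x using QuotientGroup.induction_on with | H g => ?_
    rw [MulAction.Quotient.smul_mk, smul_eq_mul]
    have e : (z * g)⁻¹ * t * (z * g) = g⁻¹ * t * g := by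
      calc (z * g)⁻¹ * t * (z * g) = g⁻¹ * z⁻¹ * (t * z) * g := by group
        _ = g⁻¹ * t * g := by rw [htz]; group
    by_cases hg : g⁻¹ * t * g ∈ H
    · rw [cosetVal_mk φ t g hg, cosetVal_mk φ t (z * g) (e.symm ▸ hg)]
      exact congrArg φ (Subtype.ext e)
    · rw [cosetVal_of_notMem φ t g hg, cosetVal_of_notMem φ t (z * g) (fun hh => hg (e ▸ hh))]
  have hmoved : ∏ x ∈ Finset.univ.filter (fun x : G ⧸ H => ¬ z • x = x), cosetVal φ t x = 1 := by
    refine Finset.prod_involution (fun x _ => z • x) (fun x _ => by rw [hzval, Int.units_mul_self])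
      (fun x hx _ => (Finset.mem_filter.1 hx).2) (fun x hx => ?_) fun x _ => by
        rw [← mul_smul, h.toXSub.sq, one_smul]
    refine Finset.mem_filter.2 ⟨Finset.mem_univ _, fun e => (Finset.mem_filter.1 hx).2 ?_⟩
    exact MulAction.injective z e
  rw [← Finset.prod_filter_mul_prod_filter_not Finset.univ (fun x : G ⧸ H => z • x = x), hmoved, mul_one,
    ← Finset.mul_prod_erase _ _ (show x₀ ∈ Finset.univ.filter (fun x : G ⧸ H => z • x = x) from
      Finset.mem_filter.2 ⟨Finset.mem_univ _, by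
        rw [hx₀, MulAction.Quotient.smul_mk, QuotientGroup.eq, smul_eq_mul, mul_one, mul_one, inv_mem_iff]
        exact hzH⟩), hval0] at hprod
  set S := (Finset.univ.filter (fun x : G ⧸ H => z • x = x)).erase x₀ with hS
  suffices hone : ∏ x ∈ S, cosetVal φ t x = 1 by
    rw [hone, mul_one] at hprod
    exact absurd hprod (by decide)
  rw [← Finset.prod_fiberwise S (fun x => (Quotient.mk'' x : Quotient (MulAction.orbitRel E (G ⧸ H))))
    (cosetVal φ t)]
  refine Finset.prod_eq_one fun q _ => ?_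
  by_cases hall : ∀ x ∈ S, (Quotient.mk'' x : Quotient (MulAction.orbitRel E (G ⧸ H))) = q → cosetVal φ t x = 1
  · exact Finset.prod_eq_one fun x hx => hall x (Finset.mem_filter.1 hx).1 (Finset.mem_filter.1 hx).2
  push Not at hall
  obtain ⟨x, hxS, hxq, hxv⟩ := hall
  induction x using QuotientGroup.induction_on with | H g => ?_
  have hgt : g⁻¹ * t * g ∈ H := by_contra fun hg => hxv (cosetVal_of_notMem φ t g hg)
  obtain ⟨hne, hfx⟩ := Finset.mem_erase.1 hxS
  have hgz : g⁻¹ * z * g ∈ H := by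
    have := (Finset.mem_filter.1 hfx).2
    rw [MulAction.Quotient.smul_mk, QuotientGroup.eq, smul_eq_mul, ← inv_mem_iff] at this
    convert this using 1
    group
  set u := g * z * g⁻¹ with hu
  have hconjH : ∀ a : G, g⁻¹ * a * g ∈ H ↔ a ∈ centralizer ({u} : Set G) := fun a => by
    rw [hH, mem_centralizer_one, mem_centralizer_one, hu]
    constructor <;> intro e
    · calc a * (g * z * g⁻¹) = g * (g⁻¹ * a * g * z) * g⁻¹ := by group
        _ = g * z * g⁻¹ * a := by rw [e]; group
    · calc g⁻¹ * a * g * z = g⁻¹ * (a * (g * z * g⁻¹)) * g := by group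
        _ = z * (g⁻¹ * a * g) := by rw [e]; group
  let ψ : G → ℤˣ := fun a => if g⁻¹ * a * g ∈ K then 1 else -1
  have hzu : z ∈ centralizer ({u} : Set G) := (hconjH z).1 hgz
  have huH : u ∈ H := mem_centralizer_one.2 (mem_centralizer_one.1 hzu).symm
  have hu1 : u ≠ 1 := fun e => h.toXSub.ne_one (by
    rw [hu, conj_eq_one_iff] at e; exact e)
  have huz : u ≠ z := fun e => hne (by
    rw [hx₀, QuotientGroup.eq, mul_one, inv_mem_iff]
    exact mem_centralizer_one.2 (mul_inv_eq_iff_eq_mul.1 (hu ▸ e)))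
  have hu2 : u * u = 1 := by
    calc u * u = g * (z * z) * g⁻¹ := by rw [hu]; group
      _ = 1 := by rw [h.toXSub.sq, mul_one, mul_inv_cancel]
  let N : Subgroup E := (E ⊓ centralizer ({u} : Set G)).subgroupOf E
  haveI : N.Normal := ⟨fun n hn e => by
    rw [mem_subgroupOf] at hn ⊢
    have hnE : ((n : E) : G) ∈ E := n.2
    refine ⟨(e * n * e⁻¹).2, ?_⟩
    push_cast
    rcases h.toXSub.conj_cases e.2 hnE with c | c <;> rw [c]
    exacts [hn.2, mul_mem hn.2 hzu]⟩
  haveI : Fintype (E ⧸ N) := Fintype.ofFinite _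
  have horb := prod_orbit h ht htm huH hu2 hu1 huz ((hconjH t).1 hgt) (ψ := ψ)
    (fun a ha b hb => by
      have := hK.mul_iff _ ((hconjH a).2 ha) _ ((hconjH b).2 hb)
      rw [show g⁻¹ * a * g * (g⁻¹ * b * g) = g⁻¹ * (a * b) * g by group] at this
      simp only [ψ]
      by_cases haK : g⁻¹ * a * g ∈ K <;> by_cases hbK : g⁻¹ * b * g ∈ K <;> simp_all)
    (fun y _ hy => if_pos (hmin _ ((hconjH _).2 hy) (by
        rw [show g⁻¹ * (y⁻¹ * (t * t) * y) * g = MulAut.conj (y * g)⁻¹ (t * t) by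
          rw [MulAut.conj_apply]; group, MulEquiv.orderOf_eq, ← pow_two,
          orderOf_pow_of_dvd two_ne_zero (htm ▸ dvd_pow_self 2 hm0), htm]
        exact ⟨m - 1, by rw [← Nat.pow_div (Nat.one_le_iff_ne_zero.2 hm0) two_pos, pow_one]⟩) (by
        rw [show g⁻¹ * (y⁻¹ * (t * t) * y) * g = MulAut.conj (y * g)⁻¹ (t * t) by
          rw [MulAut.conj_apply]; group, MulEquiv.orderOf_eq, ← pow_two,
          orderOf_pow_of_dvd two_ne_zero (htm ▸ dvd_pow_self 2 hm0)]
        exact Nat.div_lt_self (orderOf_pos t) one_lt_two)))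
    (by
      by_cases hzK : g⁻¹ * z * g ∈ K
      · exact Or.inl (if_pos hzK)
      have hord : orderOf (g⁻¹ * z * g) = 2 ^ 1 := by
        rw [show g⁻¹ * z * g = MulAut.conj g⁻¹ z by rw [MulAut.conj_apply]; group, MulEquiv.orderOf_eq,
          h.toXSub.orderOf_eq, pow_one]
      rcases hinv with hall | h128
      · refine absurd (hall _ hgz ?_) hzK
        rw [← pow_two, ← pow_one 2, ← hord, pow_orderOf_eq_one]
      · refine Or.inr ⟨?_, h128⟩
        have hle : orderOf t ≤ 2 := by
          by_contra hlt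
          exact hzK (hmin _ hgz ⟨1, hord⟩ (by rw [hord]; omega))
        have hm1 : m = 1 := by
          rw [htm] at hle
          have := (Nat.pow_le_pow_iff_right (le_refl 2)).1 (hle.trans (pow_one 2).ge)
          omega
        rw [← pow_two, show 2 = orderOf t by rw [htm, hm1, pow_one], pow_orderOf_eq_one])
    (fun huE y hy hyC => if_pos (hE2 g huE huz y hy ((hconjH y).2 hyC)))
    N rfl
  let ι : E ⧸ N → G ⧸ H := fun c => QuotientGroup.mk ((c.out : G) * g)
  have hι : ∀ e : E, ι (QuotientGroup.mk e) = QuotientGroup.mk ((e : G) * g) := fun e => by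
    obtain ⟨n, hn⟩ := QuotientGroup.mk_out_eq_mul N e
    show (QuotientGroup.mk _ : G ⧸ H) = _
    rw [QuotientGroup.eq, hn]
    have := (hconjH _).2 (mem_subgroupOf.1 (inv_mem n.2)).2
    convert this using 1
    push_cast
    group
  have hinj : Function.Injective ι := by
    intro c d hcd
    induction c using QuotientGroup.induction_on with | H a => ?_
    induction d using QuotientGroup.induction_on with | H b => ?_
    rw [hι, hι, QuotientGroup.eq] at hcd
    rw [QuotientGroup.eq]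
    refine mem_subgroupOf.2 ⟨(a⁻¹ * b).2, (hconjH _).1 ?_⟩
    convert hcd using 1
    push_cast
    group
  have hfib : (S.filter fun y => (Quotient.mk'' y : Quotient (MulAction.orbitRel E (G ⧸ H))) = q) =
      Finset.univ.image ι := by
    ext y
    simp only [Finset.mem_filter, Finset.mem_image, Finset.mem_univ, true_and]
    constructor
    · rintro ⟨-, hy⟩
      obtain ⟨e, he⟩ := Quotient.eq''.1 (hy.trans hxq.symm)
      exact ⟨QuotientGroup.mk e, by rw [hι, ← he]; rfl⟩
    · rintro ⟨c, rfl⟩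
      induction c using QuotientGroup.induction_on with | H e => ?_
      rw [hι]
      refine ⟨Finset.mem_erase.2 ⟨fun heq => ?_, Finset.mem_filter.2 ⟨Finset.mem_univ _, ?_⟩⟩, ?_⟩
      · refine hne ?_
        rw [hx₀, QuotientGroup.eq, mul_one, inv_mem_iff] at heq
        rw [hx₀, QuotientGroup.eq, mul_one, inv_mem_iff]
        exact (mul_mem_cancel_left (hEH e.2)).1 heq
      · have := (Finset.mem_filter.1 hfx).2
        rw [← smul_eq_mul (e : G) g, ← MulAction.Quotient.smul_mk, ← mul_smul, h.toXSub.comm e.2 |>.symm,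
          mul_smul, this]
      · rw [← hxq]
        exact Quotient.eq''.2 ⟨e, rfl⟩
  rw [hfib, Finset.prod_image fun a _ b _ e => hinj e, ← horb]
  refine Finset.prod_congr rfl fun c _ => ?_
  induction c using QuotientGroup.induction_on with | H e => ?_
  show cosetVal φ t (QuotientGroup.mk (((QuotientGroup.mk e : E ⧸ N).out : G) * g) : G ⧸ H) = _
  generalize ((QuotientGroup.mk e : E ⧸ N).out : G) = a
  have hconv : (a * g)⁻¹ * t * (a * g) = g⁻¹ * (a⁻¹ * t * a) * g := by group
  by_cases hc : a⁻¹ * t * a ∈ centralizer ({u} : Set G)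
  · rw [orbVal, if_pos hc, cosetVal_mk φ t (a * g) (hconv.symm ▸ (hconjH _).2 hc)]
    show (if (a * g)⁻¹ * t * (a * g) ∈ K then (1 : ℤˣ) else -1) = if _ then 1 else -1
    rw [hconv]
  · rw [orbVal, if_neg hc, cosetVal_of_notMem φ t (a * g) fun hh => hc ((hconjH _).1 (hconv ▸ hh))]

end Cfsg.Agent.LargeExtra
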