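import Cfsg.Agent.Lib.LargeExtra.Setting
import Mathlib.LinearAlgebra.Matrix.GeneralLinearGroup.Defs
import Mathlib.GroupTheory.PGroup

/-!
Groups with a faithful linear representation over `F_2` containing all matrices with fixed last row: the
centralizer of a transvection is `2^(1+2n) : GL(n,2)` and its 2-core is large extraspecial.
-/

set_option autoImplicit false
set_option linter.unusedSectionVars false
set_option linter.unusedSimpArgs false
set_option linter.style.haveILetI false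

namespace Cfsg.Agent.LargeExtra.Tv

open Matrix
open scoped commutatorElement

local notation "F" => ZMod 2

/-- Indices. -/
abbrev I (n : ℕ) := Fin 2 ⊕ Fin n

variable {n : ℕ}

theorem add_self (x : F) : x + x = 0 := CharTwo.add_self_eq_zero x

theorem eq_one_of_ne : ∀ a : F, a ≠ 0 → a = 1 := by decide

theorem vec_add_self {ι : Type} (u : ι → F) : u + u = 0 := funext fun i => add_self (u i)

/-- The block matrix. -/
def blk (a : Fin n → F) (B : Matrix (Fin n) (Fin n) F) (d : Fin n → F) (c : F) : Matrix (I n) (I n) F :=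
  fromBlocks (of ![![1, c], ![0, 1]]) (of ![a, 0]) (of fun i => ![0, d i]) B

theorem blk_mul (a a' : Fin n → F) (B B' : Matrix (Fin n) (Fin n) F) (d d' : Fin n → F) (c c' : F) :
    blk a B d c * blk a' B' d' c' = blk (a' + a ᵥ* B') (B * B') (d + B *ᵥ d') (c' + c + a ⬝ᵥ d') := by
  rw [blk, blk, blk, fromBlocks_multiply, fromBlocks_inj]
  refine ⟨?_, ?_, ?_, ?_⟩
  · ext i j
    fin_cases i <;> fin_cases j <;> simp [Matrix.mul_apply, Fin.sum_univ_two, dotProduct, vecMul]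
  · ext i j
    fin_cases i <;> simp [Matrix.mul_apply, Fin.sum_univ_two, vecMul, dotProduct]
  · ext i j
    fin_cases j <;> simp [Matrix.mul_apply, Fin.sum_univ_two, mulVec, dotProduct]
  · ext i j
    simp [Matrix.mul_apply, Fin.sum_univ_two]

theorem blk_one : blk (0 : Fin n → F) 1 0 0 = 1 := by
  rw [blk, ← fromBlocks_one, fromBlocks_inj]
  refine ⟨?_, ?_, ?_, rfl⟩
  · ext i j; fin_cases i <;> fin_cases j <;> rfl
  · ext i j; fin_cases i <;> rfl
  · ext i j; fin_cases j <;> rfl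

/-- The transvection. -/
abbrev tv (n : ℕ) : Matrix (I n) (I n) F := blk 0 1 0 1

/-- The block unit. -/
def unitOf (a : Fin n → F) (B : GL (Fin n) F) (d : Fin n → F) (c : F) : GL (I n) F :=
  have h : blk a (B : Matrix (Fin n) (Fin n) F) d c *
      blk (a ᵥ* (↑B⁻¹ : Matrix (Fin n) (Fin n) F)) ↑B⁻¹ ((↑B⁻¹ : Matrix (Fin n) (Fin n) F) *ᵥ d)
        (c + a ⬝ᵥ ((↑B⁻¹ : Matrix (Fin n) (Fin n) F) *ᵥ d)) = 1 := by
    rw [blk_mul, Units.mul_inv, mulVec_mulVec, Units.mul_inv, one_mulVec, vec_add_self, vec_add_self, ← blk_one]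
    congr 1
    linear_combination add_self c + add_self (a ⬝ᵥ ((↑B⁻¹ : Matrix (Fin n) (Fin n) F) *ᵥ d))
  ⟨_, _, h, mul_eq_one_comm.1 h⟩

variable {G : Type*} [Group G] [Finite G] (ι : G →* GL (I n) F)

/-- The matrix of an element. -/
abbrev mat (g : G) : Matrix (I n) (I n) F := (ι g : Matrix (I n) (I n) F)

/-- The first coordinates. -/
def cA (g : G) : Fin n → F := fun j => mat ι g (.inl 0) (.inr j)

/-- The middle block. -/
def cB (g : G) : Matrix (Fin n) (Fin n) F := fun i j => mat ι g (.inr i) (.inr j)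

/-- The second coordinates. -/
def cD (g : G) : Fin n → F := fun i => mat ι g (.inr i) (.inl 1)

/-- The corner. -/
def cC (g : G) : F := mat ι g (.inl 0) (.inl 1)

/-- The hypotheses: faithful, all matrices with fixed row, and the transvection. -/
structure Rep (ι : G →* GL (I n) F) (z : G) : Prop where
  inj : Function.Injective ι
  range : ∀ g : GL (I n) F, (∀ j, (g : Matrix (I n) (I n) F) (.inl 1) j = if j = .inl 1 then 1 else 0) →
    g ∈ ι.range
  map_z : (ι z : Matrix (I n) (I n) F) = tv n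

variable {ι} {z : G}

theorem coords_of_eq {g : G} {a : Fin n → F} {B : Matrix (Fin n) (Fin n) F} {d : Fin n → F} {c : F}
    (h : mat ι g = blk a B d c) : cA ι g = a ∧ cB ι g = B ∧ cD ι g = d ∧ cC ι g = c := by
  refine ⟨?_, ?_, ?_, ?_⟩
  · funext j; simp [cA, h, blk]
  · funext i j; simp [cB, h, blk]
  · funext i; simp [cD, h, blk]
  · simp [cC, h, blk]

namespace Rep

variable (R : Rep ι z)
include R

theorem exists_el (a : Fin n → F) (B : GL (Fin n) F) (d : Fin n → F) (c : F) :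
    ∃ g : G, mat ι g = blk a B d c := by
  obtain ⟨g, hg⟩ := R.range (unitOf a B d c) (by
    rintro (j | j)
    · fin_cases j <;> simp [unitOf, blk]
    · simp [unitOf, blk])
  exact ⟨g, congrArg Units.val hg⟩

theorem ext_mat {g h : G} (e : mat ι g = mat ι h) : g = h := R.inj (Units.ext e)

theorem eq_blk {g : G} (hg : g ∈ Subgroup.centralizer ({z} : Set G)) :
    mat ι g = blk (cA ι g) (cB ι g) (cD ι g) (cC ι g) := by
  have e := congrArg (fun x => mat ι x) (mem_centralizer_one.1 hg)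
  simp only [mat, map_mul, Units.val_mul, R.map_z] at e
  have h1 : ∀ i, mat ι g i (.inl 0) = if i = .inl 0 then mat ι g (.inl 1) (.inl 1) else 0 := by
    intro i
    have := congrFun (congrFun e i) (.inl 1)
    rcases i with i | i
    · fin_cases i <;> simp [Matrix.mul_apply, blk, Fintype.sum_sum_type, Fin.sum_univ_two, mat, Matrix.one_apply] at this ⊢ <;>
        first | simpa using this | linear_combination this
    · simp [Matrix.mul_apply, blk, Fintype.sum_sum_type, Fin.sum_univ_two, mat, Matrix.one_apply] at this ⊢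
      simpa using this
  have h2 : ∀ j, j ≠ .inl 1 → mat ι g (.inl 1) j = 0 := by
    intro j hj
    have := congrFun (congrFun e (.inl 0)) j
    rcases j with j | j
    · fin_cases j
      · simp [Matrix.mul_apply, blk, Fintype.sum_sum_type, Fin.sum_univ_two, mat, Matrix.one_apply] at this ⊢
        simpa using this
      · exact absurd rfl hj
    · simp [Matrix.mul_apply, blk, Fintype.sum_sum_type, Fin.sum_univ_two, mat, Matrix.one_apply] at this ⊢
      simpa using this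
  have h3 : mat ι g (.inl 1) (.inl 1) = 1 := by
    refine ((by decide : ∀ a : F, a = 0 ∨ a = 1) _).resolve_left fun h0 => ?_
    have e1 : mat ι g⁻¹ * mat ι g = 1 := by simp [mat]
    have := congrFun (congrFun e1 (.inl 0)) (.inl 0)
    rw [Matrix.mul_apply, Finset.sum_eq_zero (fun k _ => by rw [h1 k]; simp [h0]), Matrix.one_apply_eq] at this
    exact zero_ne_one this
  ext (i | i) (j | j)
  · fin_cases i <;> fin_cases j
    · simpa [blk, h3] using h1 (.inl 0)
    · simp [blk, cC]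
    · simpa [blk] using h2 (.inl 0) (by simp)
    · simpa [blk] using h3
  · fin_cases i
    · simp [blk, cA]
    · simpa [blk] using h2 (.inr j) (by simp)
  · fin_cases j
    · simpa [blk] using h1 (.inr i)
    · simp [blk, cD]
  · simp [blk, cB]

theorem mem_C {g : G} {a : Fin n → F} {B : Matrix (Fin n) (Fin n) F} {d : Fin n → F} {c : F}
    (h : mat ι g = blk a B d c) : g ∈ Subgroup.centralizer ({z} : Set G) :=
  mem_centralizer_one.2 <| R.ext_mat <| by
    show (ι (g * z) : Matrix (I n) (I n) F) = (ι (z * g) : Matrix (I n) (I n) F)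
    rw [map_mul, map_mul, Units.val_mul, Units.val_mul, R.map_z, show (ι g : Matrix (I n) (I n) F) = _ from h,
      tv, blk_mul, blk_mul]
    simp [add_comm]

theorem mat_mul_mk {g h : G} {a a' : Fin n → F} {B B' : Matrix (Fin n) (Fin n) F} {d d' : Fin n → F} {c c' : F}
    (hg : mat ι g = blk a B d c) (hh : mat ι h = blk a' B' d' c') :
    mat ι (g * h) = blk (a' + a ᵥ* B') (B * B') (d + B *ᵥ d') (c' + c + a ⬝ᵥ d') := by
  show (ι (g * h) : Matrix (I n) (I n) F) = _
  rw [map_mul, Units.val_mul, show (ι g : Matrix (I n) (I n) F) = _ from hg,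
    show (ι h : Matrix (I n) (I n) F) = _ from hh, blk_mul]

theorem coords_mul {g h : G} (hg : g ∈ Subgroup.centralizer ({z} : Set G))
    (hh : h ∈ Subgroup.centralizer ({z} : Set G)) :
    cA ι (g * h) = cA ι h + cA ι g ᵥ* cB ι h ∧ cB ι (g * h) = cB ι g * cB ι h ∧
      cD ι (g * h) = cD ι g + cB ι g *ᵥ cD ι h ∧ cC ι (g * h) = cC ι h + cC ι g + cA ι g ⬝ᵥ cD ι h :=
  coords_of_eq (R.mat_mul_mk (R.eq_blk hg) (R.eq_blk hh))

theorem coords_one : cA ι 1 = 0 ∧ cB ι 1 = 1 ∧ cD ι 1 = 0 ∧ cC ι 1 = 0 :=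
  coords_of_eq (by rw [blk_one]; simp [mat])

theorem coords_z : cA ι z = 0 ∧ cB ι z = 1 ∧ cD ι z = 0 ∧ cC ι z = 1 := coords_of_eq R.map_z

theorem eq_of_coords {g h : G} (hg : g ∈ Subgroup.centralizer ({z} : Set G))
    (hh : h ∈ Subgroup.centralizer ({z} : Set G))
    (e : cA ι g = cA ι h ∧ cB ι g = cB ι h ∧ cD ι g = cD ι h ∧ cC ι g = cC ι h) : g = h :=
  R.ext_mat (by rw [R.eq_blk hg, R.eq_blk hh, e.1, e.2.1, e.2.2.1, e.2.2.2])

end Rep

/-- The middle block as a homomorphism. -/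
noncomputable def proj (R : Rep ι z) : ↥(Subgroup.centralizer ({z} : Set G)) →* GL (Fin n) F :=
  MonoidHom.toHomUnits
    { toFun := fun g => cB ι g
      map_one' := R.coords_one.2.1
      map_mul' := fun g h => (R.coords_mul g.2 h.2).2.1 }

theorem proj_val (R : Rep ι z) (g : ↥(Subgroup.centralizer ({z} : Set G))) :
    (proj R g : Matrix (Fin n) (Fin n) F) = cB ι g := rfl

/-- The unipotent radical. -/
noncomputable def rad (R : Rep ι z) : Subgroup G := (proj R).ker.map (Subgroup.centralizer ({z} : Set G)).subtype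

theorem mem_rad (R : Rep ι z) {g : G} :
    g ∈ rad R ↔ g ∈ Subgroup.centralizer ({z} : Set G) ∧ cB ι g = 1 := by
  constructor
  · rintro ⟨x, hx, rfl⟩
    exact ⟨x.2, congrArg Units.val (MonoidHom.mem_ker.1 hx)⟩
  · rintro ⟨h1, h2⟩
    exact ⟨⟨g, h1⟩, MonoidHom.mem_ker.2 (Units.ext h2), rfl⟩

theorem proj_surjective (R : Rep ι z) : Function.Surjective (proj R) := fun B => by
  obtain ⟨g, hg⟩ := R.exists_el 0 B 0 0
  exact ⟨⟨g, R.mem_C hg⟩, Units.ext (coords_of_eq hg).2.1⟩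

theorem exists_rad (R : Rep ι z) (a d : Fin n → F) (c : F) :
    ∃ g ∈ rad R, cA ι g = a ∧ cD ι g = d ∧ cC ι g = c := by
  obtain ⟨g, hg⟩ := R.exists_el a 1 d c
  obtain ⟨h1, h2, h3, h4⟩ := coords_of_eq hg
  exact ⟨g, (mem_rad R).2 ⟨R.mem_C hg, h2⟩, h1, h3, h4⟩

theorem rad_mul (R : Rep ι z) {g h : G} (hg : g ∈ rad R) (hh : h ∈ rad R) :
    cA ι (g * h) = cA ι g + cA ι h ∧ cD ι (g * h) = cD ι g + cD ι h ∧
      cC ι (g * h) = cC ι g + cC ι h + cA ι g ⬝ᵥ cD ι h := by
  obtain ⟨hg1, hg2⟩ := (mem_rad R).1 hg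
  obtain ⟨hh1, hh2⟩ := (mem_rad R).1 hh
  obtain ⟨e1, -, e3, e4⟩ := R.coords_mul hg1 hh1
  rw [hh2, vecMul_one] at e1
  rw [hg2, one_mulVec] at e3
  exact ⟨by rw [e1, add_comm], e3, by rw [e4]; ring⟩

theorem rad_ext (R : Rep ι z) {g h : G} (hg : g ∈ rad R) (hh : h ∈ rad R) (e1 : cA ι g = cA ι h)
    (e2 : cD ι g = cD ι h) (e3 : cC ι g = cC ι h) : g = h :=
  R.eq_of_coords ((mem_rad R).1 hg).1 ((mem_rad R).1 hh).1
    ⟨e1, ((mem_rad R).1 hg).2.trans ((mem_rad R).1 hh).2.symm, e2, e3⟩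

theorem z_mem_rad (R : Rep ι z) : z ∈ rad R :=
  (mem_rad R).2 ⟨mem_centralizer_one.2 rfl, R.coords_z.2.1⟩

theorem card_rad (R : Rep ι z) : Nat.card ↥(rad R) = 2 ^ (2 * n + 1) := by
  have hb : Function.Bijective (fun g : ↥(rad R) => (cA ι g.1, cD ι g.1, cC ι g.1)) := by
    constructor
    · intro g h e
      simp only [Prod.mk.injEq] at e
      exact Subtype.ext (rad_ext R g.2 h.2 e.1 e.2.1 e.2.2)
    · rintro ⟨a, d, c⟩
      obtain ⟨g, hg, h1, h2, h3⟩ := exists_rad R a d c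
      exact ⟨⟨g, hg⟩, by simp [h1, h2, h3]⟩
  rw [Nat.card_eq_of_bijective _ hb, Nat.card_prod, Nat.card_prod, Nat.card_fun, Nat.card_fin, Nat.card_zmod,
    ← pow_succ, ← pow_add]
  congr 1
  omega

theorem z_sq (R : Rep ι z) : z * z = 1 := by
  obtain ⟨e1, e2, e3⟩ := rad_mul R (z_mem_rad R) (z_mem_rad R)
  refine rad_ext R (mul_mem (z_mem_rad R) (z_mem_rad R)) (one_mem _) ?_ ?_ ?_
  · rw [e1, vec_add_self, R.coords_one.1]
  · rw [e2, vec_add_self, R.coords_one.2.2.1]
  · rw [e3, R.coords_z.1, zero_dotProduct, add_self, add_zero, R.coords_one.2.2.2]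

theorem z_ne_one (R : Rep ι z) : z ≠ 1 := fun h => by
  have := R.coords_z.2.2.2
  rw [h, R.coords_one.2.2.2] at this
  exact zero_ne_one this

theorem mem_zpowers_of (R : Rep ι z) {g : G} (hg : g ∈ rad R) (h1 : cA ι g = 0) (h2 : cD ι g = 0) :
    g ∈ Subgroup.zpowers z := by
  rcases (by decide : ∀ a : F, a = 0 ∨ a = 1) (cC ι g) with h3 | h3
  · rw [rad_ext R hg (one_mem _) (h1.trans R.coords_one.1.symm) (h2.trans R.coords_one.2.2.1.symm)
      (h3.trans R.coords_one.2.2.2.symm)]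
    exact one_mem _
  · rw [rad_ext R hg (z_mem_rad R) (h1.trans R.coords_z.1.symm) (h2.trans R.coords_z.2.2.1.symm)
      (h3.trans R.coords_z.2.2.2.symm)]
    exact Subgroup.mem_zpowers z

theorem rad_commute (R : Rep ι z) {g h : G} (hg : g ∈ rad R) (hh : h ∈ rad R)
    (e : cA ι g ⬝ᵥ cD ι h = cA ι h ⬝ᵥ cD ι g) : g * h = h * g := by
  obtain ⟨a1, a2, a3⟩ := rad_mul R hg hh
  obtain ⟨b1, b2, b3⟩ := rad_mul R hh hg
  exact rad_ext R (mul_mem hg hh) (mul_mem hh hg) (by rw [a1, b1, add_comm]) (by rw [a2, b2, add_comm])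
    (by rw [a3, b3, e]; ring)

theorem dot_of_commute (R : Rep ι z) {g h : G} (hg : g ∈ rad R) (hh : h ∈ rad R) (e : g * h = h * g) :
    cA ι g ⬝ᵥ cD ι h = cA ι h ⬝ᵥ cD ι g := by
  have a := (rad_mul R hg hh).2.2
  rw [e, (rad_mul R hh hg).2.2] at a
  linear_combination -a

theorem rad_isExtraspecial (R : Rep ι z) (hn : 1 ≤ n) : Cfsg.IsExtraspecial 2 ↥(rad R) := by
  haveI : Fact (Nat.Prime 2) := ⟨Nat.prime_two⟩
  have hz2 : orderOf (⟨z, z_mem_rad R⟩ : rad R) = 2 := by
    rw [← Subgroup.orderOf_coe, orderOf_eq_prime (by rw [pow_two]; exact z_sq R) (z_ne_one R)]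
  have hmem : ∀ x : ↥(rad R), x ∈ Subgroup.zpowers (⟨z, z_mem_rad R⟩ : rad R) ↔
      cA ι x.1 = 0 ∧ cD ι x.1 = 0 := by
    intro x
    constructor
    · rintro ⟨k, rfl⟩
      show cA ι ((⟨z, z_mem_rad R⟩ : rad R) ^ k : rad R).1 = 0 ∧ _
      rw [Subgroup.coe_zpow]
      rcases Int.even_or_odd k with ⟨j, rfl⟩ | ⟨j, rfl⟩
      · rw [← two_mul, _root_.zpow_mul, zpow_two, z_sq R, _root_.one_zpow]; exact ⟨R.coords_one.1, R.coords_one.2.2.1⟩
      · rw [_root_.zpow_add, _root_.zpow_mul, zpow_two, z_sq R, _root_.one_zpow, one_mul, zpow_one]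
        exact ⟨R.coords_z.1, R.coords_z.2.2.1⟩
    · rintro ⟨h1, h2⟩
      obtain ⟨k, hk⟩ := mem_zpowers_of R x.2 h1 h2
      exact ⟨k, Subtype.ext (by simpa using hk)⟩
  refine isExtraspecial_of (IsPGroup.of_card (card_rad R)) hz2 (fun x => ?_) (fun x y => ?_) (fun x => ?_) ?_
  · rw [hmem]
    constructor
    · intro hx
      have key : ∀ a d, cA ι x.1 ⬝ᵥ d = a ⬝ᵥ cD ι x.1 := fun a d => by
        obtain ⟨g, hg, h1, h2, -⟩ := exists_rad R a d 0
        have := dot_of_commute R x.2 hg (congrArg Subtype.val (hx ⟨g, hg⟩))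
        rwa [h1, h2] at this
      constructor
      · funext i
        have := key 0 (Pi.single i 1)
        simpa using this
      · funext i
        have := key (Pi.single i 1) 0
        simpa using this.symm
    · rintro ⟨h1, h2⟩ y
      exact Subtype.ext (rad_commute R x.2 y.2 (by rw [h1, h2, zero_dotProduct, dotProduct_zero]))
  · rw [hmem]
    have h1 := rad_mul R (mul_mem x.2 y.2) (inv_mem (mul_mem y.2 x.2))
    have h2 := rad_mul R (mul_mem y.2 x.2) (inv_mem (mul_mem y.2 x.2))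
    rw [mul_inv_cancel] at h2
    have e : ((⁅x, y⁆ : rad R) : G) = x.1 * y.1 * (y.1 * x.1)⁻¹ := by
      rw [commutatorElement_def]; push_cast; group
    rw [e, h1.1, h1.2.1]
    constructor
    · rw [(rad_mul R x.2 y.2).1, add_comm (cA ι x.1), ← (rad_mul R y.2 x.2).1, ← h2.1, R.coords_one.1]
    · rw [(rad_mul R x.2 y.2).2.1, add_comm (cD ι x.1), ← (rad_mul R y.2 x.2).2.1, ← h2.2.1, R.coords_one.2.2.1]
  · rw [hmem, pow_two, Subgroup.coe_mul, (rad_mul R x.2 x.2).1, (rad_mul R x.2 x.2).2.1]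
    exact ⟨vec_add_self _, vec_add_self _⟩
  · have i : Fin n := ⟨0, hn⟩
    obtain ⟨g, hg, g1, g2, -⟩ := exists_rad R (Pi.single i 1) 0 0
    obtain ⟨h, hh, k1, k2, -⟩ := exists_rad R 0 (Pi.single i 1) 0
    refine ⟨⟨g, hg⟩, ⟨h, hh⟩, fun e => ?_⟩
    have := dot_of_commute R hg hh (congrArg Subtype.val e)
    simp [g1, g2, k1, k2] at this

theorem rad_local (R : Rep ι z) (hn : 1 ≤ n) : XSLocal (rad R) z := by
  refine XSLocal.of_core (orderOf_eq_prime (by rw [pow_two]; exact z_sq R) (z_ne_one R))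
    (rad_isExtraspecial R hn) (z_mem_rad R) (fun g hg => ((mem_rad R).1 hg).1) (fun g hg => ?_)
    (normalizer_of_map_normal (MonoidHom.normal_ker _))
  have hgC : g ∈ Subgroup.centralizer ({z} : Set G) :=
    mem_centralizer_one.2 (Subgroup.mem_centralizer_iff.1 hg z (z_mem_rad R)).symm
  refine (mem_rad R).2 ⟨hgC, Matrix.ext_of_mulVec_single fun i => ?_⟩
  obtain ⟨h, hh, -, h2, -⟩ := exists_rad R 0 (Pi.single i 1) 0
  have e := congrArg (cD ι) (Subgroup.mem_centralizer_iff.1 hg h hh)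
  rw [(R.coords_mul hgC ((mem_rad R).1 hh).1).2.2.1, (R.coords_mul ((mem_rad R).1 hh).1 hgC).2.2.1,
    ((mem_rad R).1 hh).2, one_mulVec, h2, add_comm (Pi.single i 1)] at e
  rw [one_mulVec]
  exact (add_left_cancel e).symm

/-- The plus type witness. -/
theorem exists_elementary (R : Rep ι z) :
    ∃ E : Subgroup G, E ≤ rad R ∧ Cfsg.IsElementaryAbelian 2 E ∧ Nat.card ↥E = 2 ^ (n + 1) := by
  let E : Subgroup G :=
    { carrier := {g | g ∈ rad R ∧ cA ι g = 0}
      one_mem' := ⟨one_mem _, R.coords_one.1⟩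
      mul_mem' := fun {g h} hg hh => ⟨mul_mem hg.1 hh.1, by
        rw [(rad_mul R hg.1 hh.1).1, hg.2, hh.2, add_zero]⟩
      inv_mem' := fun {g} hg => ⟨inv_mem hg.1, by
        have := (rad_mul R hg.1 (inv_mem hg.1)).1
        rw [mul_inv_cancel, R.coords_one.1, hg.2, zero_add] at this
        exact this.symm⟩ }
  refine ⟨E, fun g hg => hg.1, ⟨⟨⟨fun g h => Subtype.ext ?_⟩⟩, fun g hg => ?_⟩, ?_⟩
  · exact rad_commute R g.2.1 h.2.1 (by rw [g.2.2, h.2.2, zero_dotProduct, zero_dotProduct])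
  · obtain ⟨a1, a2, a3⟩ := rad_mul R hg.1 hg.1
    rw [pow_two]
    refine rad_ext R (mul_mem hg.1 hg.1) (one_mem _) ?_ ?_ ?_
    · rw [a1, vec_add_self, R.coords_one.1]
    · rw [a2, vec_add_self, R.coords_one.2.2.1]
    · rw [a3, hg.2, zero_dotProduct, add_self, add_zero, R.coords_one.2.2.2]
  · have hb : Function.Bijective (fun g : ↥E => (cD ι g.1, cC ι g.1)) := by
      constructor
      · intro g h e
        simp only [Prod.mk.injEq] at e
        exact Subtype.ext (rad_ext R g.2.1 h.2.1 (g.2.2.trans h.2.2.symm) e.1 e.2)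
      · rintro ⟨d, c⟩
        obtain ⟨g, hg, h1, h2, h3⟩ := exists_rad R 0 d c
        exact ⟨⟨g, hg, h1⟩, by simp [h2, h3]⟩
    rw [Nat.card_eq_of_bijective _ hb, Nat.card_prod, Nat.card_fun, Nat.card_fin, Nat.card_zmod, ← pow_succ]

theorem exists_pair (R : Rep ι z) (hn : 1 ≤ n) :
    ∃ s : G, s * z * s⁻¹ ∈ rad R ∧ s * z * s⁻¹ ≠ z ∧ s⁻¹ * z * s ∈ rad R := by
  classical
  let i : Fin n := ⟨0, hn⟩
  -- exchange of the first vector with a middle one
  let σ : Equiv.Perm (I n) := Equiv.swap (.inl 0) (.inr i)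
  have hσ : (σ.permMatrix F : Matrix (I n) (I n) F) * σ.permMatrix F = 1 := by
    rw [← Matrix.permMatrix_mul, Equiv.swap_mul_self, Matrix.permMatrix_one]
  obtain ⟨s, hs⟩ := R.range ⟨_, _, hσ, hσ⟩ (by
    intro j
    show σ.permMatrix F (.inl 1) j = _
    rw [Equiv.Perm.permMatrix, PEquiv.toMatrix_apply]
    simp [σ, Equiv.swap_apply_of_ne_of_ne, eq_comm])
  have hs' : mat ι s = σ.permMatrix F := congrArg Units.val hs
  obtain ⟨b, hb⟩ := R.exists_el 0 1 (Pi.single i 1) 0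
  rw [Units.val_one] at hb
  have hbe := coords_of_eq hb
  have hbQ : b ∈ rad R := (mem_rad R).2 ⟨R.mem_C hb, hbe.2.1⟩
  have hsb : s * z * s⁻¹ = b := by
    have hsi : s⁻¹ = s := inv_eq_of_mul_eq_one_right (R.inj (Units.ext (by
      rw [map_mul, map_one, Units.val_mul, Units.val_one, show (ι s : Matrix (I n) (I n) F) = _ from hs', hσ])))
    rw [hsi]
    refine R.ext_mat ?_
    rw [hb]
    show (ι (s * z * s) : Matrix (I n) (I n) F) = _
    rw [map_mul, map_mul, Units.val_mul, Units.val_mul, show (ι s : Matrix (I n) (I n) F) = _ from hs', R.map_z,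
      Equiv.Perm.permMatrix, PEquiv.toMatrix_toPEquiv_mul, PEquiv.mul_toMatrix_toPEquiv]
    ext (a | a) (c | c)
    all_goals
      simp only [Matrix.submatrix_apply, id, σ, Equiv.symm_swap]
    · fin_cases a <;> fin_cases c <;> simp [blk, Equiv.swap_apply_def]
    · fin_cases a <;> by_cases hc : c = i <;> simp [blk, Equiv.swap_apply_def, hc, Matrix.one_apply, eq_comm]
    · fin_cases c <;> by_cases ha : a = i <;> simp [blk, Equiv.swap_apply_def, ha, Matrix.one_apply]
    · by_cases ha : a = i <;> by_cases hc : c = i <;>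
        simp [blk, Equiv.swap_apply_def, ha, hc, Matrix.one_apply, eq_comm]
  have hne : b ≠ z := fun e => by
    have := hbe.2.2.1
    rw [e, R.coords_z.2.2.1] at this
    simpa using congrFun this i
  have hsi : s⁻¹ = s := inv_eq_of_mul_eq_one_right (R.inj (Units.ext (by
    rw [map_mul, map_one, Units.val_mul, Units.val_one, show (ι s : Matrix (I n) (I n) F) = _ from hs', hσ])))
  refine ⟨s, hsb ▸ hbQ, hsb ▸ hne, ?_⟩
  rw [hsi]
  nth_rewrite 2 [← hsi]
  exact hsb ▸ hbQ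

theorem rad_large (R : Rep ι z) (hn : 1 ≤ n) : Cfsg.IsLargeExtraspecial (rad R) := by
  have h := rad_local R hn
  obtain ⟨s, h1, h2, h3⟩ := exists_pair R hn
  refine XSLocal.large_of_core h h1 ?_ (fun e => h.ne_one (conj_eq_one_iff.1 e)) h2
    ((rad R).map (MulAut.conj s).toMonoidHom) (h.xs.1.1.map _) (mem_conjMap.2 h3) (h.conj s).norm
  rw [show s * z * s⁻¹ * (s * z * s⁻¹) = s * (z * z) * s⁻¹ by group, z_sq R]
  group

/-- A normal 2-subgroup of `GL(n,2)` is trivial. -/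
theorem gl_core_eq_bot (N : Subgroup (GL (Fin n) F)) [hN : N.Normal] (h2 : IsPGroup 2 N) : N = ⊥ := by
  classical
  haveI : Fact (Nat.Prime 2) := ⟨Nat.prime_two⟩
  rcases Nat.eq_zero_or_pos n with rfl | hn
  · exact (Subgroup.eq_bot_iff_forall _).2 fun x _ => Units.ext (Subsingleton.elim _ _)
  letI : MulAction N (Fin n → F) :=
    { smul := fun g v => ((g : GL (Fin n) F) : Matrix (Fin n) (Fin n) F) *ᵥ v
      one_smul := fun v => Matrix.one_mulVec v
      mul_smul := fun g h v => (Matrix.mulVec_mulVec v _ _).symm }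
  have hfix : (0 : Fin n → F) ∈ MulAction.fixedPoints N (Fin n → F) := fun g => Matrix.mulVec_zero _
  have hdvd : 2 ∣ Nat.card (Fin n → F) := by
    rw [Nat.card_fun, Nat.card_fin, Nat.card_zmod]
    exact dvd_pow_self 2 (by omega)
  obtain ⟨v, hv, hv0⟩ := h2.exists_fixed_point_of_prime_dvd_card_of_fixed_point (Fin n → F) hdvd hfix
  have hv0' : v ≠ 0 := fun e => hv0 e.symm
  refine (Subgroup.eq_bot_iff_forall _).2 fun g hg => Units.ext (Matrix.ext_of_mulVec_single fun i => ?_)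
  rw [Units.val_one, Matrix.one_mulVec]
  -- move v to the basis vector by a transvection
  set w : Fin n → F := Pi.single i 1
  obtain ⟨f, hfv, hfw⟩ : ∃ f : Fin n → F, f ⬝ᵥ v = 1 ∧ f ⬝ᵥ w = 1 := by
    by_cases hvi : v i = 0
    · obtain ⟨j, hj⟩ := Function.ne_iff.1 hv0'
      have hji : j ≠ i := fun e => hj (e ▸ hvi)
      exact ⟨Pi.single i 1 + Pi.single j 1, by simp [add_dotProduct, hvi, eq_one_of_ne _ hj],
        by simp [add_dotProduct, w, hji]⟩
    · exact ⟨Pi.single i 1, by simp [eq_one_of_ne _ hvi], by simp [w]⟩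
  let T : Matrix (Fin n) (Fin n) F := 1 + vecMulVec (v + w) f
  have hT : ∀ x, T *ᵥ x = x + (f ⬝ᵥ x) • (v + w) := fun x => by
    rw [Matrix.add_mulVec, Matrix.one_mulVec, Matrix.vecMulVec_mulVec, op_smul_eq_smul]
  have hTT : T * T = 1 := Matrix.ext_of_mulVec_single fun j => by
    rw [← Matrix.mulVec_mulVec, hT, hT, Matrix.one_mulVec, dotProduct_add, dotProduct_smul, dotProduct_add, hfv,
      hfw, add_self, smul_zero, add_zero, add_assoc, vec_add_self, add_zero]
  let t : GL (Fin n) F := ⟨T, T, hTT, hTT⟩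
  have hTv : T *ᵥ v = w := by rw [hT, hfv, one_smul, ← add_assoc, vec_add_self, zero_add]
  have := hv ⟨t⁻¹ * g * t⁻¹⁻¹, hN.conj_mem g hg _⟩
  have h' : (T * (g : Matrix (Fin n) (Fin n) F) * T) *ᵥ v = v := this
  rw [← Matrix.mulVec_mulVec, hTv, ← Matrix.mulVec_mulVec] at h'
  have h'' := congrArg (fun x => T *ᵥ x) h'
  rw [Matrix.mulVec_mulVec, hTT, Matrix.one_mulVec, hTv] at h''
  exact h''

theorem coreAt_eq_rad (R : Rep ι z) (hn : 1 ≤ n) : coreAt z = rad R := by
  haveI : Fact (Nat.Prime 2) := ⟨Nat.prime_two⟩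
  have hle : rad R ≤ coreAt z :=
  le_coreAt (IsPGroup.of_card (card_rad R)) (fun g hg => ((mem_rad R).1 hg).1) (rad_local R hn).norm
  refine le_antisymm ?_ hle
  rintro _ ⟨x, hx, rfl⟩
  have h1 : (Cfsg.pCore 2 ↥(Subgroup.centralizer ({z} : Set G))).map (proj R) = ⊥ := by
    haveI := (FiniteGroup.pCore_normal 2 (G := ↥(Subgroup.centralizer ({z} : Set G)))).map (proj R)
      (proj_surjective R)
    exact gl_core_eq_bot _ ((FiniteGroup.pCore_isPGroup 2).map _)
  refine (mem_rad R).2 ⟨x.2, ?_⟩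
  have h2 : proj R x = 1 := by
    rw [← Subgroup.mem_bot, ← h1]
    exact ⟨x, hx, rfl⟩
  exact congrArg Units.val h2

/-- All conclusions. -/
theorem main (R : Rep ι z) (hn : 1 ≤ n) :
    Cfsg.IsExtraspecial 2 ↥(coreAt z) ∧ Nat.card ↥(coreAt z) = 2 ^ (2 * n + 1) ∧
      (∃ E : Subgroup G, E ≤ coreAt z ∧ Cfsg.IsElementaryAbelian 2 E ∧ Nat.card ↥E = 2 ^ (n + 1)) ∧
      Cfsg.IsLargeExtraspecial (coreAt z) ∧
      ∃ K : Subgroup G, K ≤ Subgroup.centralizer ({z} : Set G) ∧ coreAt z ⊓ K = ⊥ ∧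
        coreAt z ⊔ K = Subgroup.centralizer ({z} : Set G) ∧ Nonempty (↥K ≃* GL (Fin n) F) := by
  haveI : Fact (Nat.Prime 2) := ⟨Nat.prime_two⟩
  rw [coreAt_eq_rad R hn]
  refine ⟨rad_isExtraspecial R hn, card_rad R, exists_elementary R, rad_large R hn, ?_⟩
  let K : Subgroup G :=
    { carrier := {g | g ∈ Subgroup.centralizer ({z} : Set G) ∧ cA ι g = 0 ∧ cD ι g = 0 ∧ cC ι g = 0}
      one_mem' := ⟨one_mem _, R.coords_one.1, R.coords_one.2.2.1, R.coords_one.2.2.2⟩
      mul_mem' := fun {g h} hg hh => by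
        obtain ⟨e1, -, e3, e4⟩ := R.coords_mul hg.1 hh.1
        refine ⟨mul_mem hg.1 hh.1, ?_, ?_, ?_⟩
        · rw [e1, hh.2.1, hg.2.1, zero_vecMul, add_zero]
        · rw [e3, hg.2.2.1, hh.2.2.1, mulVec_zero, add_zero]
        · rw [e4, hg.2.2.2, hh.2.2.2, hg.2.1, zero_dotProduct, add_zero, add_zero]
      inv_mem' := fun {g} hg => by
        obtain ⟨e1, e2, e3, e4⟩ := R.coords_mul hg.1 (inv_mem hg.1)
        rw [mul_inv_cancel] at e1 e2 e3 e4
        rw [R.coords_one.1, hg.2.1, zero_vecMul, add_zero] at e1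
        rw [R.coords_one.2.1] at e2
        rw [R.coords_one.2.2.1, hg.2.2.1, zero_add] at e3
        rw [R.coords_one.2.2.2, hg.2.2.2, hg.2.1, zero_dotProduct, add_zero, add_zero] at e4
        refine ⟨inv_mem hg.1, e1.symm, ?_, e4.symm⟩
        have := congrArg (fun x => cB ι g⁻¹ *ᵥ x) e3
        simp only [mulVec_zero, mulVec_mulVec, mul_eq_one_comm.1 e2.symm, one_mulVec] at this
        exact this.symm }
  have hK : K ≤ Subgroup.centralizer ({z} : Set G) := fun g hg => hg.1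
  let π : ↥K →* GL (Fin n) F := (proj R).comp (Subgroup.inclusion hK)
  have hπ : Function.Bijective π := by
    constructor
    · intro g h e
      exact Subtype.ext (R.eq_of_coords g.2.1 h.2.1 ⟨g.2.2.1.trans h.2.2.1.symm, congrArg Units.val e,
        g.2.2.2.1.trans h.2.2.2.1.symm, g.2.2.2.2.trans h.2.2.2.2.symm⟩)
    · intro B
      obtain ⟨g, hg⟩ := R.exists_el 0 B 0 0
      obtain ⟨h1, h2, h3, h4⟩ := coords_of_eq hg
      exact ⟨⟨g, R.mem_C hg, h1, h3, h4⟩, Units.ext h2⟩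
  refine ⟨K, hK, ?_, le_antisymm (sup_le (fun g hg => ((mem_rad R).1 hg).1) hK) fun g hg => ?_,
    ⟨MulEquiv.ofBijective π hπ⟩⟩
  · refine (Subgroup.eq_bot_iff_forall _).2 fun g ⟨hg, hk⟩ => ?_
    exact rad_ext R hg (one_mem _) (hk.2.1.trans R.coords_one.1.symm) (hk.2.2.1.trans R.coords_one.2.2.1.symm)
      (hk.2.2.2.trans R.coords_one.2.2.2.symm)
  · obtain ⟨k, hk⟩ := hπ.2 (proj R ⟨g, hg⟩)
    have h1 : g * (k : G)⁻¹ ∈ rad R := by
      refine ⟨⟨g, hg⟩ * (⟨k, hK k.2⟩ : ↥(Subgroup.centralizer ({z} : Set G)))⁻¹, ?_, rfl⟩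
      rw [SetLike.mem_coe, MonoidHom.mem_ker, map_mul, map_inv]
      exact mul_inv_eq_one.2 hk.symm
    have := Subgroup.mul_mem_sup h1 k.2
    rwa [inv_mul_cancel_right] at this

end Cfsg.Agent.LargeExtra.Tv
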