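import Cfsg.Agent.Lib.LargeExtra.Transvection

/-!
Transfer of the transvection model from a subgroup containing the centralizer of the involution.
-/

set_option autoImplicit false
set_option linter.style.haveILetI false

namespace Cfsg.Agent.LargeExtra.Tv

open Subgroup

variable {G : Type*} [Group G] [Finite G] {H : Subgroup G} {z : G}

theorem normalizer_map_subtype_mem {K : Subgroup H} {c : G} (hc : c ∈ H)
    (hn : (⟨c, hc⟩ : H) ∈ normalizer (K : Set H)) : c ∈ normalizer ((K.map H.subtype : Subgroup G) : Set G) := by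
  refine mem_normalizer_iff.2 fun b => ⟨?_, ?_⟩
  · rintro ⟨a, ha, rfl⟩
    exact ⟨⟨c, hc⟩ * a * ⟨c, hc⟩⁻¹, (mem_normalizer_iff.1 hn a).1 ha, rfl⟩
  · rintro ⟨a, ha, hab⟩
    refine ⟨⟨c, hc⟩⁻¹ * a * ⟨c, hc⟩, (mem_normalizer_iff.1 hn _).2 ?_, ?_⟩
    · simpa [mul_assoc] using ha
    · have : (a : G) = c * b * c⁻¹ := hab
      simp [this, mul_assoc]

theorem coreAt_of_le (hz : z ∈ H) (hC : centralizer ({z} : Set G) ≤ H) :
    coreAt z = (coreAt (⟨z, hz⟩ : H)).map H.subtype := by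
  have hmem : ∀ {a : H}, (a : G) ∈ centralizer ({z} : Set G) ↔ a ∈ centralizer ({⟨z, hz⟩} : Set H) := by
    intro a
    rw [mem_centralizer_one, mem_centralizer_one]
    exact ⟨fun e => Subtype.ext e, fun e => congrArg Subtype.val e⟩
  have hle : coreAt z ≤ H := (coreAt_le z).trans hC
  refine le_antisymm ?_ ?_
  · rw [← map_subgroupOf_eq_of_le hle]
    refine map_mono (le_coreAt ?_ ?_ ?_)
    · exact (coreAt_isPGroup z).of_equiv (subgroupOfEquivOfLe hle).symm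
    · exact fun a ha => hmem.1 (coreAt_le z (mem_subgroupOf.1 ha))
    · intro a ha
      refine mem_normalizer_iff.2 fun b => ?_
      rw [mem_subgroupOf, mem_subgroupOf]
      exact mem_normalizer_iff.1 (coreAt_normal z (hmem.2 ha)) b
  · refine le_coreAt ((coreAt_isPGroup _).map _) ?_ ?_
    · rintro _ ⟨a, ha, rfl⟩
      exact hmem.2 (coreAt_le _ ha)
    · intro c hc
      exact normalizer_map_subtype_mem (hC hc) (coreAt_normal (⟨z, hz⟩ : H) ((hmem (a := ⟨c, hC hc⟩)).1 hc))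

theorem main_of_le {n : ℕ} (hn : 1 ≤ n) (hz : z ∈ H) (hC : centralizer ({z} : Set G) ≤ H)
    {ι : H →* GL (I n) (ZMod 2)} (R : Rep ι ⟨z, hz⟩) :
    Cfsg.IsExtraspecial 2 ↥(coreAt z) ∧ Nat.card ↥(coreAt z) = 2 ^ (2 * n + 1) ∧
      (∃ E : Subgroup G, E ≤ coreAt z ∧ Cfsg.IsElementaryAbelian 2 E ∧ Nat.card ↥E = 2 ^ (n + 1)) ∧
      Cfsg.IsLargeExtraspecial (coreAt z) ∧
      ∃ K : Subgroup G, K ≤ centralizer ({z} : Set G) ∧ coreAt z ⊓ K = ⊥ ∧
        coreAt z ⊔ K = centralizer ({z} : Set G) ∧ Nonempty (↥K ≃* GL (Fin n) (ZMod 2)) := by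
  obtain ⟨h1, h2, ⟨E, hEQ, hE, hEc⟩, -, K, k1, k2, k3, ⟨k4⟩⟩ := main R hn
  have heq := coreAt_of_le hz hC
  let e : ↥(coreAt (⟨z, hz⟩ : H)) ≃* ↥(coreAt z) :=
    (equivMapOfInjective _ _ H.subtype_injective).trans (MulEquiv.subgroupCongr heq.symm)
  have hQ' : Cfsg.IsExtraspecial 2 ↥(coreAt z) := Qd.isExtraspecial_congr e.symm h1
  have hmap : ∀ {a : H}, a ∈ centralizer ({⟨z, hz⟩} : Set H) → (a : G) ∈ centralizer ({z} : Set G) :=
    fun ha => mem_centralizer_one.2 (congrArg Subtype.val (mem_centralizer_one.1 ha))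
  refine ⟨hQ', (Nat.card_congr e.toEquiv).symm.trans h2, ⟨E.map H.subtype, heq ▸ map_mono hEQ, ⟨?_, ?_⟩, ?_⟩,
    ?_, K.map H.subtype, ?_, ?_, ?_, ⟨(equivMapOfInjective K _ H.subtype_injective).symm.trans k4⟩⟩
  · haveI := hE.1
    infer_instance
  · rintro _ ⟨a, ha, rfl⟩
    rw [← map_pow, hE.2 a ha, map_one]
  · rw [card_map_of_injective H.subtype_injective, hEc]
  · have hrad := rad_local R hn
    have hcore : coreAt (⟨z, hz⟩ : H) = rad R := coreAt_eq_rad R hn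
    have hloc : XSLocal (coreAt z) z := by
      refine XSLocal.of_core ?_ hQ' ?_ (coreAt_le z) (fun c hc => ?_) (coreAt_normal z)
      · rw [show z = ((⟨z, hz⟩ : H) : G) from rfl, orderOf_coe]
        exact hrad.orderOf_eq
      · exact heq ▸ ⟨⟨z, hz⟩, hcore ▸ hrad.mem, rfl⟩
      · have hzQ : z ∈ coreAt z := heq ▸ ⟨⟨z, hz⟩, hcore ▸ hrad.mem, rfl⟩
        have hcH : c ∈ H := hC (mem_centralizer_one.2 (mem_centralizer_iff.1 hc z hzQ).symm)
        have h3 : (⟨c, hcH⟩ : H) ∈ centralizer ((rad R : Subgroup H) : Set H) :=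
          mem_centralizer_iff.2 fun q hq => Subtype.ext
            (mem_centralizer_iff.1 hc q (heq ▸ ⟨q, hcore ▸ hq, rfl⟩))
        refine heq ▸ ⟨⟨c, hcH⟩, hcore ▸ ?_, rfl⟩
        exact (zpowers_le.2 hrad.mem) (hrad.cent h3)
    obtain ⟨s, hs1, hs2, hs3⟩ := exists_pair R hn
    refine hloc.large_of_core (b := ((s * ⟨z, hz⟩ * s⁻¹ : H) : G)) (heq ▸ ⟨_, hcore ▸ hs1, rfl⟩) ?_ ?_ ?_
      ((coreAt z).map (MulAut.conj (s : G)).toMonoidHom) ((coreAt_isPGroup z).map _) ?_ ?_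
    · simp only [coe_mul, coe_inv]
      rw [show (s : G) * z * (s : G)⁻¹ * ((s : G) * z * (s : G)⁻¹) = (s : G) * (z * z) * (s : G)⁻¹ by group, hloc.sq]
      group
    · simp only [coe_mul, coe_inv]
      exact fun e => hloc.ne_one (conj_eq_one_iff.1 e)
    · exact fun e => hs2 (Subtype.ext e)
    · rw [mem_conjMap, heq]
      exact ⟨s⁻¹ * ⟨z, hz⟩ * s, hcore ▸ hs3, rfl⟩
    · simpa only [coe_mul, coe_inv] using (hloc.conj (s : G)).norm
  · rintro _ ⟨a, ha, rfl⟩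
    exact hmap (k1 ha)
  · rw [heq, ← map_inf _ _ _ H.subtype_injective, k2, Subgroup.map_bot]
  · rw [heq, ← Subgroup.map_sup, k3]
    ext a
    exact ⟨fun ⟨b, hb, e⟩ => e ▸ hmap hb, fun ha => ⟨⟨a, hC ha⟩,
      mem_centralizer_one.2 (Subtype.ext (mem_centralizer_one.1 ha)), rfl⟩⟩

end Cfsg.Agent.LargeExtra.Tv
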